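import Cfsg.Agent.CT.Mult

/-! Permutation characters. -/

set_option autoImplicit false

namespace Cfsg

open scoped ComplexConjugate
open MulAction

universe u v

variable {G : Type u} [Group G]

/-- the permutation character -/
noncomputable def permChar (G : Type u) [Group G] (α : Type v) [MulAction G α] (g : G) : ℂ :=
  (Nat.card (fixedBy α g) : ℂ)

variable {α : Type v} [MulAction G α]

theorem isCharacter_permChar [Finite α] : IsCharacter G (permChar G α) :=
  isCharacter_card_fixedBy α

theorem permChar_one : permChar G α 1 = Nat.card α := by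
  rw [permChar, fixedBy_one_eq_univ, Nat.card_univ]

theorem charDegree_permChar : charDegree (permChar G α) = Nat.card α :=
  charDegree_eq_of_one_eq permChar_one

theorem permChar_eq_zero {g : G} (h : ∀ a : α, g • a ≠ a) : permChar G α g = 0 := by
  have : IsEmpty (fixedBy α g) := ⟨fun a => h a a.2⟩
  simp [permChar]

theorem sum_card_fixedBy [Fintype G] [Finite α] :
    ∑ g : G, Nat.card (fixedBy α g) = Nat.card (orbitRel.Quotient G α) * Nat.card G := by
  classical
  have := Fintype.ofFinite α
  have := Fintype.ofFinite (orbitRel.Quotient G α)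
  simp only [Nat.card_eq_fintype_card]
  exact sum_card_fixedBy_eq_card_orbits_mul_card_group G α

theorem classInner_permChar_one [Fintype G] [Finite α] :
    classInner (permChar G α) (fun _ => 1) = Nat.card (orbitRel.Quotient G α) := by
  have h0 : (Nat.card G : ℂ) ≠ 0 := by exact_mod_cast Nat.card_pos.ne'
  have h1 : ∑ g : G, permChar G α g = Nat.card (orbitRel.Quotient G α) * Nat.card G := by
    simp only [permChar]
    exact_mod_cast sum_card_fixedBy
  rw [classInner_def]
  simp only [map_one, mul_one, h1]
  field_simp

theorem classInner_permChar_triv [Fintype G] [Finite α] [Nonempty α] [IsPretransitive G α] :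
    classInner (permChar G α) (IrrCharacter.triv G).1 = 1 := by
  have : Subsingleton (orbitRel.Quotient G α) :=
    (pretransitive_iff_subsingleton_quotient G α).1 inferInstance
  have : Nonempty (orbitRel.Quotient G α) := ⟨Quotient.mk _ (Classical.arbitrary α)⟩
  refine classInner_permChar_one.trans ?_
  rw [Nat.card_unique, Nat.cast_one]

theorem permChar_prod {β : Type*} [MulAction G β] (g : G) :
    permChar G (α × β) g = permChar G α g * permChar G β g := by
  simp only [permChar]
  rw [← Nat.cast_mul, ← Nat.card_prod]
  congr 1
  refine Nat.card_congr ((Equiv.subtypeEquivRight fun x => ?_).trans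
    (Equiv.subtypeProdEquivProd (p := fun a : α => a ∈ fixedBy α g)
      (q := fun b : β => b ∈ fixedBy β g)))
  simp [Prod.ext_iff]

theorem classInner_permChar_self [Fintype G] [Finite α] :
    classInner (permChar G α) (permChar G α) = Nat.card (orbitRel.Quotient G (α × α)) := by
  rw [← classInner_permChar_one, classInner_def, classInner_def]
  simp only [permChar_prod, map_one, mul_one]
  simp [permChar]

theorem isMultiplyPretransitive_two_of_classInner [Fintype G] [Finite α]
    (h : classInner (permChar G α) (permChar G α) = 2) : IsMultiplyPretransitive G α 2 := by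
  rw [classInner_permChar_self] at h
  have h2 : Nat.card (orbitRel.Quotient G (α × α)) = 2 := by exact_mod_cast h
  rw [is_two_pretransitive_iff]
  intro a b c d hab hcd
  have hne : ∀ x y : α, x ≠ y → (Quotient.mk _ (x, y) : orbitRel.Quotient G (α × α)) ≠
      Quotient.mk _ (a, a) := by
    intro x y hxy hc
    obtain ⟨g, hg⟩ := Quotient.exact hc
    simp only [Prod.smul_mk, Prod.mk.injEq] at hg
    exact hxy (hg.1.symm.trans hg.2)
  obtain ⟨z, -, hz⟩ := (Nat.card_eq_two_iff' (Quotient.mk _ (a, a) :
    orbitRel.Quotient G (α × α))).1 h2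
  obtain ⟨g, hg⟩ := Quotient.exact ((hz _ (hne c d hcd)).trans (hz _ (hne a b hab)).symm)
  simp only [Prod.smul_mk, Prod.mk.injEq] at hg
  exact ⟨g, hg⟩

theorem isMultiplyPretransitive_three_of_card [Finite G] [Finite α]
    (hc : Nat.card G = Nat.card α * (Nat.card α - 1) * (Nat.card α - 2))
    (h : ∀ g : G, 3 ≤ Nat.card (fixedBy α g) → g = 1) : IsMultiplyPretransitive G α 3 := by
  classical
  have := Fintype.ofFinite α
  refine ⟨fun e e' => ?_⟩
  have hs : stabilizer G e = ⊥ := by
    rw [eq_bot_iff]
    intro g hg
    refine h g ?_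
    have h1 : ∀ i, e i ∈ fixedBy α g := fun i => DFunLike.congr_fun hg i
    have := Nat.card_le_card_of_injective (fun i : Fin 3 => (⟨e i, h1 i⟩ : fixedBy α g))
      fun i j hij => e.injective (congrArg Subtype.val hij)
    rwa [Nat.card_fin] at this
  have h2 : (orbit G e).ncard = Nat.card (Fin 3 ↪ α) := by
    rw [← index_stabilizer, hs, Subgroup.index_bot, hc, Nat.card_eq_fintype_card (α := Fin 3 ↪ α),
      Fintype.card_embedding_eq, Fintype.card_fin, Nat.card_eq_fintype_card]
    simp [Nat.descFactorial]
    ring
  have h3 : orbit G e = Set.univ := (Set.eq_univ_iff_ncard _).2 h2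
  exact (h3 ▸ Set.mem_univ e' : e' ∈ orbit G e)

end Cfsg
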