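import Mathlib
import Cfsg.Agent.CT.Kernel
import Cfsg.Agent.CT.Induction

/-! Elementary exceptional character theory for a TI set. -/

set_option autoImplicit false

namespace Cfsg

open scoped ComplexConjugate

universe u

variable {G : Type u} [Group G] [Fintype G]

/-- a generalized character of norm two and degree zero is a difference of two irreducible
characters -/
theorem IsGeneralizedCharacter.exists_eq_sub_of_norm_two {D : G → ℂ}
    (hD : IsGeneralizedCharacter G D) (h2 : classInner D D = 2) (h1 : D 1 = 0)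
    (ψ : IrrCharacter G) (hψ : classInner D ψ.1 ≠ 0) :
    (classInner D ψ.1 = 1 ∨ classInner D ψ.1 = -1) ∧
      ∃ ψ' : IrrCharacter G, ψ' ≠ ψ ∧ D = classInner D ψ.1 • (ψ.1 - ψ'.1) := by
  obtain ⟨a, ha⟩ := hD.exists_classInner_eq_int ψ.isCharacter.isGeneralizedCharacter
  have ha' : classInner ψ.1 D = a := by rw [← conj_classInner, ha, map_intCast]
  set D' : G → ℂ := D - (a : ℂ) • ψ.1 with hD'
  have hD'g : IsGeneralizedCharacter G D' :=
    hD.sub (ψ.isCharacter.isGeneralizedCharacter.zsmul a)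
  have hn : classInner D' D' = ((2 - a ^ 2 : ℤ) : ℂ) := by
    rw [hD', classInner_sub_left, classInner_sub_right, classInner_sub_right, classInner_smul_left,
      classInner_smul_left, classInner_smul_right, classInner_smul_right, h2, ha, ha',
      ψ.classInner_self, map_intCast]
    push_cast; ring
  have hψ0 : classInner D' ψ.1 = 0 := by
    rw [hD', classInner_sub_left, classInner_smul_left, ha, ψ.classInner_self]; ring
  have ha0 : a ≠ 0 := by rintro rfl; exact hψ (by simpa using ha)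
  have hle : a ^ 2 ≤ 2 := by
    have h3 := classInner_self_eq_ofReal D'
    rw [hn, ← Complex.ofReal_intCast, Complex.ofReal_inj] at h3
    have h4 : (0 : ℝ) ≤ ((2 - a ^ 2 : ℤ) : ℝ) := by rw [h3]; positivity
    have h5 : (0 : ℤ) ≤ 2 - a ^ 2 := by exact_mod_cast h4
    omega
  have hpm : a = 1 ∨ a = -1 := by
    have : -2 < a := by nlinarith
    have : a < 2 := by nlinarith
    omega
  have hn1 : classInner D' D' = 1 := by
    rw [hn]; rcases hpm with rfl | rfl <;> norm_num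
  refine ⟨by rw [ha]; rcases hpm with rfl | rfl <;> simp, ?_⟩
  obtain ⟨ψ', hψ'⟩ := hD'g.exists_irr_of_classInner_self_eq_one hn1
  have hne : ψ' ≠ ψ := by
    rintro rfl
    rcases hψ' with h | h
    · rw [h, ψ'.classInner_self] at hψ0; exact one_ne_zero hψ0
    · rw [h, classInner_neg_left, ψ'.classInner_self] at hψ0; simp at hψ0
  have hd : D' 1 = -(a : ℂ) * ψ.1 1 := by simp [hD', h1]
  have hp := ψ.charDegree_pos
  have hp' := ψ'.charDegree_pos
  refine ⟨ψ', hne, ?_⟩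
  rw [ha]
  have hDD : D = D' + (a : ℂ) • ψ.1 := by rw [hD']; abel
  rcases hψ' with h | h <;> rcases hpm with rfl | rfl
  · exfalso
    rw [h, ψ'.one_eq_charDegree, ψ.one_eq_charDegree] at hd
    have : (charDegree ψ'.1 : ℤ) = -(1 : ℤ) * charDegree ψ.1 := by exact_mod_cast hd
    omega
  · rw [hDD, h]; ext g; simp; ring
  · rw [hDD, h]; ext g; simp; ring
  · exfalso
    rw [h, Pi.neg_apply, ψ'.one_eq_charDegree, ψ.one_eq_charDegree] at hd
    have : -(charDegree ψ'.1 : ℤ) = -(-1 : ℤ) * charDegree ψ.1 := by exact_mod_cast hd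
    omega

section ti
variable {H : Subgroup G} [Fintype H] {A : Set G}
  (hA : ∀ x : G, x ∉ H → ∀ a ∈ A, x * a * x⁻¹ ∉ A) (h1A : (1 : G) ∉ A)
  {Y : Finset (IrrCharacter H)}
  (hY : ∀ η ∈ Y, ∀ η' ∈ Y, ∀ h : H, (h : G) ∉ A → η.1 h = η'.1 h)
include hA hY

theorem classInner_indFun_sub_of_ti {θ : H → ℂ} (hθ : IsClassFunction H θ)
    (hθ0 : ∀ h : H, (h : G) ∉ A → θ h = 0) {η η' : IrrCharacter H} (hη : η ∈ Y) (hη' : η' ∈ Y) :
    classInner (indFun H θ) (indFun H (η.1 - η'.1)) = classInner θ η.1 - classInner θ η'.1 := by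
  rw [classInner_indFun_of_ti A hθ hA hθ0 (fun h hh => by simp [hY η hη η' hη' h hh]),
    classInner_sub_right]

include h1A in
/-- an irreducible character whose multiplicities are not constant on the family `Y` is
exceptional -/
theorem exists_exceptional (ψ : IrrCharacter G)
    (hψ : ∃ η ∈ Y, ∃ η' ∈ Y,
      classInner η.1 (fun h : H => ψ.1 h) ≠ classInner η'.1 (fun h : H => ψ.1 h)) :
    ∃ η₀ ∈ Y, ∃ ε : ℂ, (ε = 1 ∨ ε = -1) ∧ ∃ τ : IrrCharacter H → IrrCharacter G,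
      (∀ η ∈ Y, η ≠ η₀ → τ η ≠ ψ ∧ indFun H (η₀.1 - η.1) = ε • (ψ.1 - (τ η).1)) ∧
      ∀ η ∈ Y, η ≠ η₀ → ∀ η' ∈ Y, η' ≠ η₀ → τ η = τ η' → η = η' := by
  classical
  choose m hm using fun η : IrrCharacter H =>
    η.isCharacter.exists_classInner_eq_nat (ψ.isCharacter.res H)
  have hinner : ∀ η₁ ∈ Y, ∀ η₂ ∈ Y, ∀ η₃ ∈ Y, ∀ η₄ ∈ Y,
      classInner (indFun H (η₁.1 - η₂.1)) (indFun H (η₃.1 - η₄.1)) =
        (classInner η₁.1 η₃.1 - classInner η₂.1 η₃.1) -
          (classInner η₁.1 η₄.1 - classInner η₂.1 η₄.1) := by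
    intro η₁ h₁ η₂ h₂ η₃ h₃ η₄ h₄
    rw [classInner_indFun_sub_of_ti hA hY (η₁.isClassFunction.sub η₂.isClassFunction)
      (fun h hh => by simp [hY η₁ h₁ η₂ h₂ h hh]) h₃ h₄, classInner_sub_left, classInner_sub_left]
  have hDψ : ∀ η η' : IrrCharacter H, classInner (indFun H (η.1 - η'.1)) ψ.1 =
      ((m η - m η' : ℤ) : ℂ) := by
    intro η η'
    rw [classInner_indFun_left H _ ψ.isClassFunction, classInner_sub_left, hm, hm]
    push_cast; ring
  have key : ∀ η ∈ Y, ∀ η' ∈ Y, m η ≠ m η' → ((m η - m η' : ℤ) = 1 ∨ (m η - m η' : ℤ) = -1) ∧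
      ∃ ψ' : IrrCharacter G, ψ' ≠ ψ ∧
        indFun H (η.1 - η'.1) = ((m η - m η' : ℤ) : ℂ) • (ψ.1 - ψ'.1) := by
    intro η hη η' hη' hne
    have hne' : η ≠ η' := fun h => hne (by rw [h])
    have h := ((η.isCharacter.isGeneralizedCharacter.sub
      η'.isCharacter.isGeneralizedCharacter).indFun).exists_eq_sub_of_norm_two
      (by rw [hinner η hη η' hη' η hη η' hη', η.classInner_self, η'.classInner_self,
            IrrCharacter.classInner_of_ne hne', IrrCharacter.classInner_of_ne hne'.symm]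
          norm_num)
      (by rw [indFun_one]; simp [hY η hη η' hη' 1 h1A]) ψ
      (by rw [hDψ]; exact Int.cast_ne_zero.2 (by omega))
    rw [hDψ] at h
    exact ⟨by exact_mod_cast h.1, h.2⟩
  obtain ⟨η₀, hη₀, ε, hε, hall⟩ : ∃ η₀ ∈ Y, ∃ ε : ℤ, (ε = 1 ∨ ε = -1) ∧
      ∀ η ∈ Y, η ≠ η₀ → (m η₀ - m η : ℤ) = ε := by
    obtain ⟨η₁, h₁, η₂, h₂, h12⟩ : ∃ η₁ ∈ Y, ∃ η₂ ∈ Y, (m η₁ - m η₂ : ℤ) = 1 := by
      obtain ⟨η, hη, η', hη', hne⟩ := hψ
      rw [hm, hm] at hne
      rcases (key η hη η' hη' (fun h => hne (by rw [h]))).1 with h | h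
      · exact ⟨η, hη, η', hη', h⟩
      · exact ⟨η', hη', η, hη, by omega⟩
    by_contra hcon
    push Not at hcon
    obtain ⟨η₃, h₃, h31, h3⟩ := hcon η₁ h₁ 1 (Or.inl rfl)
    obtain ⟨η₄, h₄, h42, h4⟩ := hcon η₂ h₂ (-1) (Or.inr rfl)
    have e3 : m η₃ = m η₁ := by
      by_contra hne
      have a1 := (key η₃ h₃ η₁ h₁ hne).1
      have a2 := (key η₃ h₃ η₂ h₂ (by omega)).1
      omega
    have e4 : m η₄ = m η₂ := by
      by_contra hne
      have a1 := (key η₄ h₄ η₂ h₂ hne).1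
      have a2 := (key η₁ h₁ η₄ h₄ (by omega)).1
      omega
    obtain ⟨-, ψ', hψ', e1⟩ := key η₁ h₁ η₂ h₂ (by omega)
    obtain ⟨-, ψ'', hψ'', e2⟩ := key η₃ h₃ η₄ h₄ (by omega)
    have h5 := hinner η₁ h₁ η₂ h₂ η₃ h₃ η₄ h₄
    have h14 : η₁ ≠ η₄ := fun h => by rw [← h] at e4; omega
    have h23 : η₂ ≠ η₃ := fun h => by rw [← h] at e3; omega
    rw [e3, e4] at e2
    rw [e1, e2, h12, IrrCharacter.classInner_of_ne h31.symm, IrrCharacter.classInner_of_ne h23,
      IrrCharacter.classInner_of_ne h14, IrrCharacter.classInner_of_ne h42.symm, Int.cast_one,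
      one_smul, one_smul, classInner_sub_left, classInner_sub_right, classInner_sub_right,
      ψ.classInner_self, IrrCharacter.classInner_of_ne hψ''.symm,
      IrrCharacter.classInner_of_ne hψ', IrrCharacter.classInner_eq] at h5
    split_ifs at h5 <;> norm_num at h5
  have hex : ∀ η : IrrCharacter H, ∃ ψ' : IrrCharacter G, η ∈ Y → η ≠ η₀ → ψ' ≠ ψ ∧
      indFun H (η₀.1 - η.1) = (ε : ℂ) • (ψ.1 - ψ'.1) := by
    intro η
    by_cases h : η ∈ Y ∧ η ≠ η₀
    · have h6 := hall η h.1 h.2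
      obtain ⟨-, ψ', h7, h8⟩ := key η₀ hη₀ η h.1 (by omega)
      exact ⟨ψ', fun _ _ => ⟨h7, by rw [h8, h6]⟩⟩
    · exact ⟨ψ, fun h1 h2 => absurd ⟨h1, h2⟩ h⟩
  choose τ hτ using hex
  refine ⟨η₀, hη₀, ε, by rcases hε with rfl | rfl <;> simp, τ, hτ, ?_⟩
  intro η hη hne η' hη' hne' hττ
  by_contra hηη
  have h6 := hinner η₀ hη₀ η hη η₀ hη₀ η hη
  have h7 := hinner η₀ hη₀ η hη η₀ hη₀ η' hη'
  rw [(hτ η' hη' hne').2, ← hττ, ← (hτ η hη hne).2, h6, η₀.classInner_self, η.classInner_self,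
    IrrCharacter.classInner_of_ne hne, IrrCharacter.classInner_of_ne hne.symm,
    IrrCharacter.classInner_of_ne hne'.symm, IrrCharacter.classInner_of_ne hηη] at h7
  norm_num at h7

include h1A in
/-- a short vector supported on the TI set is orthogonal to the members of a large exceptional
family -/
theorem exists_exceptional_orthogonal (ψ : IrrCharacter G) (hψ1 : ψ ≠ IrrCharacter.triv G)
    (hψ : ∃ η ∈ Y, ∃ η' ∈ Y,
      classInner η.1 (fun h : H => ψ.1 h) ≠ classInner η'.1 (fun h : H => ψ.1 h))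
    (htriv : IrrCharacter.triv H ∉ Y) {e : ℕ} (he : e + 1 ≤ Y.card) (h3 : 3 ≤ Y.card) :
    ∃ η₀ ∈ Y, ∀ θ : H → ℂ, IsGeneralizedCharacter H θ → (∀ h : H, (h : G) ∉ A → θ h = 0) →
      classInner θ θ = 1 + e → classInner θ (fun _ => 1) = -1 →
      ∀ η₁ : IrrCharacter H, η₁ ≠ η₀ → (∀ η ∈ Y, η ≠ η₁ → classInner θ η.1 = 0) →
        classInner θ (fun h : H => ψ.1 h) = 0 := by
  classical
  obtain ⟨η₀, hη₀, ε, hε, τ, hτ, hinj⟩ := exists_exceptional hA h1A hY ψ hψ
  refine ⟨η₀, hη₀, fun θ hθ hθ0 hn h1 η₁ hη₁ horth => ?_⟩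
  have hε0 : ε ≠ 0 := by rcases hε with rfl | rfl <;> simp
  choose c hc using fun ξ : IrrCharacter G =>
    hθ.indFun.exists_classInner_eq_int ξ.isCharacter.isGeneralizedCharacter
  rw [← classInner_indFun_left H θ ψ.isClassFunction, hc]
  by_contra hcψ
  have hcψ' : c ψ ≠ 0 := by exact_mod_cast hcψ
  have hc1 : c (IrrCharacter.triv G) = -1 := by
    have := hc (IrrCharacter.triv G)
    rw [classInner_indFun_left H θ (IrrCharacter.triv G).isClassFunction] at this
    have h2 : ((c (IrrCharacter.triv G) : ℤ) : ℂ) = -1 := by rw [← this]; exact h1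
    exact_mod_cast h2
  have hsum : ∑ ξ : IrrCharacter G, c ξ ^ 2 = 1 + e := by
    have h2 := (indFun_isClassFunction H θ).classInner_eq_sum (indFun_isClassFunction H θ)
    rw [classInner_indFun_of_ti A hθ.isClassFunction hA hθ0 hθ0, hn] at h2
    simp only [hc, map_intCast] at h2
    have : ((∑ ξ : IrrCharacter G, c ξ ^ 2 : ℤ) : ℂ) = ((1 + e : ℤ) : ℂ) := by
      push_cast; rw [h2]; simp [sq]
    exact_mod_cast this
  have hdeg : ∑ ξ : IrrCharacter G, c ξ * charDegree ξ.1 = 0 := by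
    have h2 := (indFun_isClassFunction H θ).eq_sum_irr 1
    rw [indFun_one, hθ0 1 h1A, mul_zero] at h2
    simp only [hc, IrrCharacter.one_eq_charDegree] at h2
    exact_mod_cast h2.symm
  set Z := (Y.erase η₀).erase η₁ with hZ
  have hZc : Y.card ≤ Z.card + 2 := by
    have a1 := Finset.pred_card_le_card_erase (s := Y) (a := η₀)
    have a2 := Finset.pred_card_le_card_erase (s := Y.erase η₀) (a := η₁)
    rw [hZ]
    omega
  have hZm : ∀ η ∈ Z, η ∈ Y ∧ η ≠ η₀ ∧ η ≠ η₁ := fun η hη => by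
    simp only [hZ, Finset.mem_erase] at hη
    exact ⟨hη.2.2, hη.2.1, hη.1⟩
  have hcτ : ∀ η ∈ Z, c (τ η) = c ψ := by
    intro η hη
    obtain ⟨a1, a2, a3⟩ := hZm η hη
    have h2 := classInner_indFun_sub_of_ti hA hY hθ.isClassFunction hθ0 hη₀ a1
    rw [(hτ η a1 a2).2, horth η₀ hη₀ hη₁.symm, horth η a1 a3, classInner_smul_right,
      classInner_sub_right, hc, hc, sub_zero, mul_eq_zero, map_eq_zero] at h2
    have := sub_eq_zero.1 (h2.resolve_left hε0)
    exact_mod_cast this.symm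
  have hτ1 : ∀ η ∈ Z, τ η ≠ IrrCharacter.triv G := by
    intro η hη h
    obtain ⟨a1, a2, -⟩ := hZm η hη
    have h2 := classInner_indFun_left H (η₀.1 - η.1) (IrrCharacter.triv G).isClassFunction
    have h4 : (fun h : H => (IrrCharacter.triv G).1 h) = (IrrCharacter.triv H).1 := rfl
    rw [(hτ η a1 a2).2, h, classInner_smul_left, classInner_sub_left, classInner_sub_left,
      IrrCharacter.classInner_of_ne hψ1, IrrCharacter.classInner_self, h4,
      IrrCharacter.classInner_of_ne (χ := η₀) (ψ := IrrCharacter.triv H)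
        (fun h => htriv (h ▸ hη₀)),
      IrrCharacter.classInner_of_ne (χ := η) (ψ := IrrCharacter.triv H)
        (fun h => htriv (h ▸ a1))] at h2
    simp [hε0] at h2
  set T := Z.image τ with hT
  have hTc : T.card = Z.card := Finset.card_image_of_injOn fun η hη η' hη' h =>
    hinj η (hZm η hη).1 (hZm η hη).2.1 η' (hZm η' hη').1 (hZm η' hη').2.1 h
  have hψT : ψ ∉ T := by
    simp only [hT, Finset.mem_image, not_exists, not_and]
    exact fun η hη => (hτ η (hZm η hη).1 (hZm η hη).2.1).1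
  have h1T : IrrCharacter.triv G ∉ insert ψ T := by
    simp only [hT, Finset.mem_insert, Finset.mem_image, not_or, not_exists, not_and]
    exact ⟨hψ1.symm, hτ1⟩
  have hcT : ∀ ξ ∈ insert ψ T, c ξ = c ψ := by
    intro ξ hξ
    rcases Finset.mem_insert.1 hξ with rfl | hξ
    · rfl
    · obtain ⟨η, hη, rfl⟩ := Finset.mem_image.1 hξ
      exact hcτ η hη
  set S := insert (IrrCharacter.triv G) (insert ψ T) with hS
  have hSsum : ∑ ξ ∈ S, c ξ ^ 2 = 1 + (Z.card + 1) * c ψ ^ 2 := by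
    rw [hS, Finset.sum_insert h1T, hc1, Finset.sum_congr rfl (fun ξ hξ => by rw [hcT ξ hξ]),
      Finset.sum_const, Finset.card_insert_of_notMem hψT, hTc]
    simp
  have hsplit := Finset.sum_add_sum_compl S (fun ξ => c ξ ^ 2)
  have hnn : 0 ≤ ∑ ξ ∈ Sᶜ, c ξ ^ 2 := Finset.sum_nonneg fun ξ _ => sq_nonneg _
  have hpos : 1 ≤ c ψ ^ 2 := by
    have := sq_pos_of_ne_zero hcψ'
    omega
  have hzero : ∑ ξ ∈ Sᶜ, c ξ ^ 2 = 0 := by
    have : (e : ℤ) + 1 ≤ Z.card + 2 := by exact_mod_cast he.trans hZc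
    nlinarith
  have hz : ∀ ξ ∈ Sᶜ, c ξ = 0 := fun ξ hξ =>
    pow_eq_zero_iff (two_ne_zero) |>.1
      ((Finset.sum_eq_zero_iff_of_nonneg fun ξ _ => sq_nonneg _).1 hzero ξ hξ)
  rw [← Finset.sum_add_sum_compl S, Finset.sum_eq_zero (s := Sᶜ) (fun ξ hξ => by
    rw [hz ξ hξ, zero_mul]), add_zero, hS, Finset.sum_insert h1T, hc1,
    Finset.sum_congr rfl (fun ξ hξ => by rw [hcT ξ hξ]), ← Finset.mul_sum,
    IrrCharacter.charDegree_triv] at hdeg
  have hge : ((insert ψ T).card : ℤ) ≤ ∑ ξ ∈ insert ψ T, (charDegree ξ.1 : ℤ) := by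
    rw [Finset.card_eq_sum_ones]
    push_cast
    exact Finset.sum_le_sum fun ξ _ => by exact_mod_cast ξ.charDegree_pos
  rw [Finset.card_insert_of_notMem hψT, hTc] at hge
  have h5 : c ψ * ∑ ξ ∈ insert ψ T, (charDegree ξ.1 : ℤ) = 1 := by
    push_cast at hdeg; linarith
  have h6 := Int.eq_one_or_neg_one_of_mul_eq_one' h5
  push_cast at hge
  omega

end ti

end Cfsg
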