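import Mathlib
import Cfsg.Agent.CT.Exceptional
import Cfsg.Agent.CT.Extension
import Cfsg.Agent.Grp.Basic
import Cfsg.Agent.Grp.PPart

/-! Groups with an abelian Sylow subgroup all of whose non-identity elements have the same
centralizer (Brauer–Leonard): local analysis. -/

set_option autoImplicit false

namespace Cfsg

open scoped ComplexConjugate

universe u

theorem finite_unitsHom (K : Type u) [Group K] [Finite K] : Finite (K →* ℂˣ) :=
  Finite.of_injective _ (IrrCharacter.ofHom_injective (G := K))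

/-- a character has degree at least the sum of the multiplicities of its constituents -/
theorem IsCharacter.card_mul_le_charDegree {K : Type u} [Group K] [Fintype K] {χ : K → ℂ}
    (hχ : IsCharacter K χ) (X : Finset (IrrCharacter K)) (m : ℕ)
    (h : ∀ ξ ∈ X, classInner ξ.1 χ = m) : X.card * m ≤ charDegree χ := by
  obtain ⟨a, ha⟩ := isCharacter_iff_exists_sum.1 hχ
  have h1 : charDegree χ = ∑ ψ : IrrCharacter K, a ψ * charDegree ψ.1 := by
    apply charDegree_eq_of_one_eq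
    rw [ha]
    simp [IrrCharacter.one_eq_charDegree]
  have h2 : ∀ ξ ∈ X, a ξ = m := by
    intro ξ hξ
    have h3 := h ξ hξ
    rw [ξ.isCharacter.classInner_comm hχ, ha, classInner_sum_irr (fun χ => (a χ : ℂ))] at h3
    exact_mod_cast h3
  rw [h1]
  calc X.card * m = ∑ ξ ∈ X, a ξ := by rw [Finset.sum_congr rfl h2]; simp
    _ ≤ ∑ ξ ∈ X, a ξ * charDegree ξ.1 :=
        Finset.sum_le_sum fun ξ _ => Nat.le_mul_of_pos_right _ ξ.charDegree_pos
    _ ≤ _ := Finset.sum_le_sum_of_subset (Finset.subset_univ _)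

section central
variable {K : Type u} [Group K] [Finite K] {p : ℕ} [Fact p.Prime] {Q : Subgroup K}

theorem exists_unitsHom_extends_of_central_sylow (hQ : IsPGroup p Q) (hi : ¬ p ∣ Q.index)
    (hc : Q ≤ Subgroup.center K) (ω : Q →* ℂˣ) :
    ∃ lam : K →* ℂˣ, (∀ y : Q, lam y = ω y) ∧ ∀ k, ¬ p ∣ orderOf k → lam k = 1 := by
  have hn : Q.Normal := ⟨fun y hy g => by
    rw [Subgroup.mem_center_iff.1 (hc hy) g, mul_inv_cancel_right]; exact hy⟩
  have hcop : (Nat.card Q).Coprime Q.index := coprime_card_of_isPGroup hQ hi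
  have h1 : orderOf ω ∣ Nat.card Q := by
    rw [orderOf_unitsHom_eq_index_ker]; exact Subgroup.index_dvd_card _
  obtain ⟨lam, ⟨h2, h3⟩, -⟩ := existsUnique_extension_linear ω (fun g n => by
    congr 1
    exact Subtype.ext (by
      simp only [Subgroup.mem_center_iff.1 (hc n.2) g, mul_inv_cancel_right]))
    (hcop.coprime_dvd_left h1)
  refine ⟨lam, h2, fun k hk => ?_⟩
  have h4 : orderOf lam ∣ Nat.card Q := by
    refine h3.dvd_of_dvd_mul_right ?_
    rw [Q.card_mul_index, orderOf_unitsHom_eq_index_ker]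
    exact Subgroup.index_dvd_card _
  have h5 : orderOf (lam k) ∣ Nat.card Q := by
    refine orderOf_dvd_of_pow_eq_one ?_
    rw [← MonoidHom.pow_apply, orderOf_dvd_iff_pow_eq_one.1 h4, MonoidHom.one_apply]
  have h6 := (coprime_card_of_isPGroup hQ hk).symm
  exact orderOf_eq_one_iff.1 (Nat.eq_one_of_dvd_coprimes h6 (orderOf_map_dvd lam k) h5)

theorem unitsHom_ext_of_normal_sylow [Q.Normal] (hi : ¬ p ∣ Q.index) {l l' : K →* ℂˣ}
    (hl : ∀ k, ¬ p ∣ orderOf k → l k = 1) (hl' : ∀ k, ¬ p ∣ orderOf k → l' k = 1)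
    (h : ∀ y ∈ Q, l y = l' y) : l = l' := by
  ext k : 1
  have h1 : pPart p k ∈ Q := by
    apply mem_of_coprime_orderOf_index
    obtain ⟨j, hj⟩ := exists_orderOf_pPart (p := p) k
    rw [hj]
    exact ((Nat.Prime.coprime_iff_not_dvd Fact.out).2 hi).pow_left _
  rw [← pPart_mul_pRegPart p k, map_mul, map_mul, h _ h1, hl _ (not_dvd_orderOf_pRegPart k),
    hl' _ (not_dvd_orderOf_pRegPart k)]

theorem IrrCharacter.apply_ne_zero_of_mem_center (ζ : IrrCharacter K) {y : K}
    (hy : y ∈ Subgroup.center K) : ζ.1 y ≠ 0 := by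
  have h := ζ.mem_charCenter.1 (ζ.center_le_charCenter hy)
  intro h0
  rw [h0, norm_zero] at h
  have := ζ.charDegree_pos
  have h2 : (charDegree ζ.1 : ℝ) ≠ 0 := by exact_mod_cast this.ne'
  exact h2 h.symm

end central

section loc
variable {H : Type u} [Group H] [Fintype H] {Q K : Subgroup H} [hQn : Q.Normal] [hKn : K.Normal]
  (hQK : Q ≤ K) (hcen : ∀ k ∈ K, ∀ y ∈ Q, k * y = y * k)
  (hfpf : ∀ n, n ∉ K → ∀ y ∈ Q, n * y = y * n → y = 1)

omit [Fintype H] hQn hKn in
include hcen in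
theorem subgroupOf_le_center_of_comm : Q.subgroupOf K ≤ Subgroup.center K := fun y hy =>
  Subgroup.mem_center_iff.2 fun k => Subtype.ext (hcen k k.2 y hy)

include hQK hcen hfpf in
theorem charInertia_eq_of_fixedPointFree (ζ : IrrCharacter K)
    (h : ¬ Q.subgroupOf K ≤ charKer ζ.1) : charInertia ζ.1 = K := by
  refine le_antisymm (fun n hn => ?_) ζ.le_charInertia
  by_contra hnK
  apply h
  let f : Q → Q := fun y => ⟨n * y * n⁻¹ * y⁻¹, Q.mul_mem (hQn.conj_mem y y.2 n) (Q.inv_mem y.2)⟩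
  have hf : Function.Injective f := by
    intro y z hyz
    have h1 : n * y * n⁻¹ * (y : H)⁻¹ = n * z * n⁻¹ * (z : H)⁻¹ := congrArg Subtype.val hyz
    have h2 := hfpf n hnK ((z : H)⁻¹ * y) (Q.mul_mem (Q.inv_mem z.2) y.2) (by
      calc n * ((z : H)⁻¹ * y) = n * (z : H)⁻¹ * n⁻¹ * (n * y * n⁻¹ * (y : H)⁻¹) * y * n := by group
        _ = _ := by rw [h1]; group)
    exact Subtype.ext (inv_mul_eq_one.1 h2).symm
  intro u hu
  obtain ⟨y, hy⟩ := (Finite.surjective_of_injective hf) ⟨u, hu⟩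
  have hy' : n * y * n⁻¹ * (y : H)⁻¹ = u := congrArg Subtype.val hy
  have hc := subgroupOf_le_center_of_comm hcen
  have h1 := mem_charInertia.1 hn ⟨y, hQK y.2⟩
  have h2 : (⟨n * y * n⁻¹, hKn.conj_mem y (hQK y.2) n⟩ : K) = u * ⟨y, hQK y.2⟩ :=
    Subtype.ext (by simp [← hy'])
  simp only at h1
  rw [h2, ζ.isCharacter.apply_mul_of_mem_charCenter (ζ.center_le_charCenter (hc hu))] at h1
  have h3 := ζ.apply_ne_zero_of_mem_center (hc (show (⟨y, hQK y.2⟩ : K) ∈ Q.subgroupOf K from y.2))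
  rw [ζ.isCharacter.mem_charKer]
  have h4 := mul_right_cancel₀ h3 (h1.trans (one_mul _).symm)
  exact (div_eq_one_iff_eq ζ.one_ne_zero).1 h4

open Classical in
/-- the induced character, as an irreducible character when it is one -/
noncomputable def indIrr (K : Subgroup H) (ξ : IrrCharacter K) : IrrCharacter H :=
  if h : IsIrrCharacter H (indFun K ξ.1) then ⟨_, h⟩ else IrrCharacter.triv H

theorem indIrr_val {ξ : IrrCharacter K} (h : charInertia ξ.1 = K) :
    (indIrr K ξ).1 = indFun K ξ.1 := by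
  rw [indIrr, dif_pos (ξ.isIrr_indFun_iff.2 h)]

open Classical in
theorem card_filter_indIrr_le (X : Finset (IrrCharacter K)) (hX : ∀ ξ ∈ X, charInertia ξ.1 = K)
    (η : IrrCharacter H) : (X.filter fun ξ => indIrr K ξ = η).card ≤ K.index := by
  rcases (X.filter fun ξ => indIrr K ξ = η).eq_empty_or_nonempty with h | ⟨ξ, hξ⟩
  · simp [h]
  rw [Finset.mem_filter] at hξ
  have h1 := ξ.card_irrFinset_orbit
  rw [hX ξ hξ.1] at h1
  rw [← h1]
  refine Finset.card_le_card fun ξ' hξ' => ?_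
  rw [Finset.mem_filter] at hξ'
  rw [mem_irrFinset, ← IrrCharacter.indFun_eq_iff, ← indIrr_val (hX ξ hξ.1),
    ← indIrr_val (hX ξ' hξ'.1), hξ.2, hξ'.2]

end loc

section glob
variable {G : Type u} [Group G] [Fintype G] {p : ℕ} [Fact p.Prime] {H : Subgroup G} [Fintype H]
  {Q K : Subgroup H} [hQn : Q.Normal] [hKn : K.Normal] [Fintype K]

theorem mul_sub_le_charDegree_of_ti (hQK : Q ≤ K) (hcen : ∀ k ∈ K, ∀ y ∈ Q, k * y = y * k)
    (hfpf : ∀ n, n ∉ K → ∀ y ∈ Q, n * y = y * n → y = 1) (hQ : IsPGroup p Q)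
    (hi : ¬ p ∣ Q.relIndex K) {A : Set G} (hA : ∀ x : G, x ∉ H → ∀ a ∈ A, x * a * x⁻¹ ∉ A)
    (hAH : ∀ h : H, (h : G) ∈ A ↔ h ∈ K ∧ p ∣ orderOf h)
    (he : K.index ^ 2 + 1 < Nat.card Q) (h4 : 4 ≤ Nat.card Q)
    (ψ : IrrCharacter G) (hψ1 : ψ ≠ IrrCharacter.triv G)
    (hψQ : ¬ Q ≤ charKer (fun h : H => ψ.1 h)) (hdeg : charDegree ψ.1 + 1 < Nat.card Q) {m : ℕ}
    (hm : classInner (fun _ => 1) (fun k : K => ψ.1 (k : H)) = m) :
    (Nat.card Q - K.index) * m ≤ charDegree ψ.1 := by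
  classical
  have := finite_unitsHom K
  have := Fintype.ofFinite (K →* ℂˣ)
  set Q' := Q.subgroupOf K with hQ'
  have hc : Q' ≤ Subgroup.center K := subgroupOf_le_center_of_comm hcen
  have hψK : IsCharacter K (fun k : K => ψ.1 (k : H)) := (ψ.isCharacter.res H).res K
  have h1A : (1 : G) ∉ A := fun h => by
    have := ((hAH 1).1 h).2
    rw [orderOf_one, Nat.dvd_one] at this
    exact (Fact.out : p.Prime).ne_one this
  let Λ : Finset (K →* ℂˣ) := Finset.univ.filter fun l => ∀ k, ¬ p ∣ orderOf k → l k = 1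
  have hΛm : ∀ l ∈ Λ, ∀ k, ¬ p ∣ orderOf k → l k = 1 := fun l hl => (Finset.mem_filter.1 hl).2
  have hΛext : ∀ l ∈ Λ, ∀ l' ∈ Λ, (∀ y ∈ Q', l y = l' y) → l = l' := fun l hl l' hl' h =>
    unitsHom_ext_of_normal_sylow (Q := Q') hi (hΛm l hl) (hΛm l' hl') h
  have hΛ : Nat.card Q ≤ Λ.card := by
    choose F hF using exists_unitsHom_extends_of_central_sylow (isPGroup_subgroupOf hQ K) hi hc
    have hcomm : commutator Q' = ⊥ := by
      rw [commutator_eq_bot_iff_center_eq_top, eq_top_iff]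
      intro y _
      exact Subgroup.mem_center_iff.2 fun z =>
        Subtype.ext (Subgroup.mem_center_iff.1 (hc y.2) z)
    have h1 := card_unitsHom (G := Q')
    rw [hcomm, Subgroup.index_bot, card_subgroupOf_of_le hQK] at h1
    rw [← h1, ← Nat.card_eq_finsetCard]
    refine Nat.card_le_card_of_injective
      (fun ω => (⟨F ω, Finset.mem_filter.2 ⟨Finset.mem_univ _, (hF ω).2⟩⟩ : Λ)) fun ω ω' h => ?_
    ext y : 1
    have h' : F ω = F ω' := congrArg Subtype.val h
    rw [← (hF ω).1, ← (hF ω').1, h']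
  -- twisting is injective on `Λ`
  have htw : ∀ ζ : IrrCharacter K, ∀ l ∈ Λ, ∀ l' ∈ Λ, (∀ y ∈ Q', (ζ.twist l).1 y = (ζ.twist l').1 y) →
      l = l' := by
    intro ζ l hl l' hl' h
    refine hΛext l hl l' hl' fun y hy => ?_
    have h1 := h y hy
    simp only [IrrCharacter.twist_apply] at h1
    exact Units.ext (mul_right_cancel₀ (ζ.apply_ne_zero_of_mem_center (hc hy)) h1)
  have hX : ∀ ζ : IrrCharacter K, Nat.card Q ≤
      ((Λ.filter fun l => ¬ Q' ≤ charKer (ζ.twist l).1).image fun l => ζ.twist l).card + 1 := by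
    intro ζ
    rw [Finset.card_image_of_injOn fun l hl l' hl' h =>
      htw ζ l (Finset.mem_filter.1 hl).1 l' (Finset.mem_filter.1 hl').1 fun y _ =>
        congrArg (fun ξ : IrrCharacter K => ξ.1 y) h]
    have h1 := Finset.card_filter_add_card_filter_not (s := Λ)
      (fun l => Q' ≤ charKer (ζ.twist l).1)
    have h2 : (Λ.filter fun l => Q' ≤ charKer (ζ.twist l).1).card ≤ 1 := by
      rw [Finset.card_le_one]
      intro l hl l' hl'
      rw [Finset.mem_filter] at hl hl'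
      refine htw ζ l hl.1 l' hl'.1 fun y hy => ?_
      rw [apply_eq_one_of_mem_charKer (hl.2 hy), apply_eq_one_of_mem_charKer (hl'.2 hy)]
      simp
    omega
  -- a constituent not containing `Q` in its kernel
  obtain ⟨ζ, hζ, hζQ⟩ : ∃ ζ : IrrCharacter K,
      classInner (fun k : K => ψ.1 (k : H)) ζ.1 ≠ 0 ∧ ¬ Q' ≤ charKer ζ.1 := by
    by_contra hno
    push Not at hno
    apply hψQ
    intro y hy
    have h1 : (⟨y, hQK hy⟩ : K) ∈ charKer (fun k : K => ψ.1 (k : H)) :=
      hψK.mem_charKer_iff_constituents.2 fun ζ hζ => hno ζ hζ hy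
    exact (ψ.isCharacter.res H).mem_charKer.2
      (apply_eq_one_of_mem_charKer (χ := fun k : K => ψ.1 (k : H)) h1)
  set X := (Λ.filter fun l => ¬ Q' ≤ charKer (ζ.twist l).1).image fun l => ζ.twist l with hXdef
  have hXm : ∀ ξ ∈ X, ∃ l ∈ Λ, ¬ Q' ≤ charKer ξ.1 ∧ ξ = ζ.twist l := by
    intro ξ hξ
    obtain ⟨l, hl, rfl⟩ := Finset.mem_image.1 hξ
    rw [Finset.mem_filter] at hl
    exact ⟨l, hl.1, hl.2, rfl⟩
  have hXI : ∀ ξ ∈ X, charInertia ξ.1 = K := fun ξ hξ => by
    obtain ⟨l, -, h, -⟩ := hXm ξ hξ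
    exact charInertia_eq_of_fixedPointFree hQK hcen hfpf ξ h
  have h1Λ : (1 : K →* ℂˣ) ∈ Λ := Finset.mem_filter.2 ⟨Finset.mem_univ _, fun _ _ => rfl⟩
  have hζ1 : ζ.twist 1 = ζ := Subtype.ext (funext fun k => by simp)
  have hζX : ζ ∈ X :=
    Finset.mem_image.2 ⟨1, Finset.mem_filter.2 ⟨h1Λ, by rwa [hζ1]⟩, hζ1⟩
  set Y := X.image (indIrr K) with hYdef
  have hYc : X.card ≤ K.index * Y.card :=
    Finset.card_le_mul_card_image X K.index fun η _ => card_filter_indIrr_le X hXI η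
  have hXc := hX ζ
  rw [← hXdef] at hXc
  have he0 : 0 < K.index := Nat.pos_of_ne_zero Subgroup.index_ne_zero_of_finite
  have hYe : K.index + 1 ≤ Y.card := by
    by_contra h
    have : K.index * Y.card ≤ K.index * K.index := Nat.mul_le_mul_left _ (by omega)
    nlinarith
  have hY3 : 3 ≤ Y.card := by
    rcases Nat.eq_or_lt_of_le (Nat.succ_le_of_lt he0) with h | h
    · rw [← h] at hYc; omega
    · omega
  -- functions induced from `K` that vanish on `p`-regular elements vanish off `A`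
  have hvan : ∀ φ : K → ℂ, (∀ k : K, ¬ p ∣ orderOf k → φ k = 0) → ∀ h : H, (h : G) ∉ A →
      indFun K φ h = 0 := by
    intro φ hφ h hh
    refine indFun_eq_zero_of_forall_isConj K φ fun k hk => hφ k fun hd => hh ((hAH h).2 ⟨?_, ?_⟩)
    · obtain ⟨c, hc⟩ := isConj_iff.1 hk.symm
      rw [← hc]; exact hKn.conj_mem _ k.2 c
    · obtain ⟨c, hc⟩ := hk
      rwa [SemiconjBy.orderOf_eq (c : H) hc, Subgroup.orderOf_coe]
  have hY : ∀ η ∈ Y, ∀ η' ∈ Y, ∀ h : H, (h : G) ∉ A → η.1 h = η'.1 h := by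
    intro η hη η' hη' h hh
    obtain ⟨ξ, hξ, rfl⟩ := Finset.mem_image.1 hη
    obtain ⟨ξ', hξ', rfl⟩ := Finset.mem_image.1 hη'
    rw [indIrr_val (hXI ξ hξ), indIrr_val (hXI ξ' hξ'), ← sub_eq_zero, ← Pi.sub_apply,
      ← indFun_sub]
    obtain ⟨l, hl, -, rfl⟩ := hXm ξ hξ
    obtain ⟨l', hl', -, rfl⟩ := hXm ξ' hξ'
    refine hvan _ (fun k hk => ?_) h hh
    simp [hΛm l hl k hk, hΛm l' hl' k hk]
  have hind : ∀ ξ ∈ X, classInner (indIrr K ξ).1 (fun h : H => ψ.1 h) =
      classInner ξ.1 (fun k : K => ψ.1 (k : H)) := fun ξ hξ => by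
    rw [indIrr_val (hXI ξ hξ), classInner_indFun_left K _ (ψ.isClassFunction.res H)]
  have hne1 : ∀ ξ : IrrCharacter K, ¬ Q' ≤ charKer ξ.1 → ξ ≠ IrrCharacter.triv K := by
    rintro ξ hξ rfl
    exact hξ fun y _ => mem_charKer_def.2 fun _ => rfl
  have horb : ∀ ξ : IrrCharacter K, ξ ∈ MulAction.orbit H (IrrCharacter.triv K) ↔
      ξ = IrrCharacter.triv K := fun ξ =>
    ⟨fun ⟨g, hg⟩ => by rw [← hg]; rfl, fun h => h ▸ MulAction.mem_orbit_self _⟩
  have htriv : IrrCharacter.triv H ∉ Y := by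
    intro h
    obtain ⟨ξ, hξ, h1⟩ := Finset.mem_image.1 h
    obtain ⟨l, -, h2, -⟩ := hXm ξ hξ
    have h3 := classInner_indFun_left K ξ.1 (IrrCharacter.triv H).isClassFunction
    rw [← indIrr_val (hXI ξ hξ), h1, IrrCharacter.classInner_self] at h3
    have h5 : classInner ξ.1 (IrrCharacter.triv K).1 = 0 :=
      IrrCharacter.classInner_of_ne (hne1 ξ h2)
    have e1 : (fun h : K => (IrrCharacter.triv H).1 h) = (IrrCharacter.triv K).1 := rfl
    rw [e1, h5] at h3
    exact one_ne_zero h3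
  have hnc : ∃ η ∈ Y, ∃ η' ∈ Y,
      classInner η.1 (fun h : H => ψ.1 h) ≠ classInner η'.1 (fun h : H => ψ.1 h) := by
    by_contra hno
    push Not at hno
    obtain ⟨a, ha⟩ := ζ.isCharacter.exists_classInner_eq_nat hψK
    have ha0 : a ≠ 0 := by
      rintro rfl
      exact hζ (by rw [hψK.classInner_comm ζ.isCharacter, ha, Nat.cast_zero])
    have h5 := hψK.card_mul_le_charDegree X a fun ξ hξ => by
      have e1 := hno (indIrr K ξ) (Finset.mem_image_of_mem (indIrr K) hξ) (indIrr K ζ)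
        (Finset.mem_image_of_mem (indIrr K) hζX)
      exact (hind ξ hξ).symm.trans (e1.trans ((hind ζ hζX).trans ha))
    have h6 : charDegree (fun k : K => ψ.1 (k : H)) = charDegree ψ.1 := rfl
    have h7 : X.card * 1 ≤ X.card * a := Nat.mul_le_mul_left _ (Nat.pos_of_ne_zero ha0)
    omega
  obtain ⟨η₀, hη₀, hmain⟩ := exists_exceptional_orthogonal hA h1A hY ψ hψ1 hnc htriv hYe hY3
  -- the linear characters in `Λ`
  set W := (Λ.filter fun l => ¬ Q' ≤ charKer ((IrrCharacter.triv K).twist l).1).image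
    fun l => (IrrCharacter.triv K).twist l with hWdef
  have hWc := hX (IrrCharacter.triv K)
  rw [← hWdef] at hWc
  have hWm : ∀ ξ ∈ W, ¬ Q' ≤ charKer ξ.1 ∧ ∀ k : K, ¬ p ∣ orderOf k → ξ.1 k = 1 := by
    intro ξ hξ
    obtain ⟨l, hl, rfl⟩ := Finset.mem_image.1 hξ
    rw [Finset.mem_filter] at hl
    exact ⟨hl.2, fun k hk => by simp [hΛm l hl.1 k hk]⟩
  have hWI : ∀ ξ ∈ W, charInertia ξ.1 = K := fun ξ hξ =>
    charInertia_eq_of_fixedPointFree hQK hcen hfpf ξ (hWm ξ hξ).1
  have hW1 : IrrCharacter.triv K ∉ W := fun h => hne1 _ (hWm _ h).1 rfl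
  have hgood : ∀ μ ∈ W, indIrr K μ ≠ η₀ → classInner μ.1 (fun k : K => ψ.1 (k : H)) = m := by
    intro μ hμ hne
    have hμ1 := hne1 μ (hWm μ hμ).1
    have h5 := hmain (indFun K (μ.1 - (IrrCharacter.triv K).1))
      ((μ.isCharacter.isGeneralizedCharacter.sub
        (IrrCharacter.triv K).isCharacter.isGeneralizedCharacter).indFun)
      (hvan _ fun k hk => by simp [(hWm μ hμ).2 k hk]) ?_ ?_ (indIrr K μ) hne ?_
    · rw [classInner_indFun_left K _ (ψ.isClassFunction.res H), classInner_sub_left,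
        sub_eq_zero] at h5
      rw [h5]; exact hm
    · rw [indFun_sub, classInner_sub_left, classInner_sub_right, classInner_sub_right,
        ← indIrr_val (hWI μ hμ), IrrCharacter.classInner_self, indIrr_val (hWI μ hμ),
        IrrCharacter.classInner_indFun_indFun, IrrCharacter.classInner_indFun_indFun,
        IrrCharacter.classInner_indFun_indFun, if_pos (MulAction.mem_orbit_self _),
        if_neg (fun h => hμ1 ((horb _).1 (MulAction.mem_orbit_symm.1 h))),
        if_neg (fun h => hμ1 ((horb _).1 h)),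
        IrrCharacter.charInertia_eq_top_iff.2 (fun g => IrrCharacter.smul_triv g),
        Subgroup.relIndex_top_right]
      ring
    · rw [classInner_indFun_left K _ (IsClassFunction.const 1), classInner_sub_left]
      have e1 : (fun _ : K => (1 : ℂ)) = (IrrCharacter.triv K).1 := rfl
      rw [e1, IrrCharacter.classInner_of_ne hμ1, IrrCharacter.classInner_self]
      ring
    · intro η hη hne'
      rw [indFun_sub, classInner_sub_left, ← indIrr_val (hWI μ hμ),
        IrrCharacter.classInner_of_ne hne'.symm]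
      obtain ⟨ξ, hξ, rfl⟩ := Finset.mem_image.1 hη
      obtain ⟨l, -, h2, -⟩ := hXm ξ hξ
      rw [indIrr_val (hXI ξ hξ), IrrCharacter.classInner_indFun_indFun,
        if_neg (fun h => hne1 ξ h2 ((horb _).1 h)), sub_zero]
  have h5 := hψK.card_mul_le_charDegree
    (insert (IrrCharacter.triv K) (W.filter fun μ => ¬ indIrr K μ = η₀)) m (by
      intro ξ hξ
      rcases Finset.mem_insert.1 hξ with rfl | hξ
      · exact hm
      · rw [Finset.mem_filter] at hξ
        exact hgood ξ hξ.1 hξ.2)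
  rw [Finset.card_insert_of_notMem (fun h => hW1 (Finset.mem_filter.1 h).1)] at h5
  have h6 := Finset.card_filter_add_card_filter_not (s := W) (fun μ => indIrr K μ = η₀)
  have h7 := card_filter_indIrr_le W hWI η₀
  exact (Nat.mul_le_mul_right m (by omega)).trans h5

end glob

end Cfsg
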