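import Mathlib
import Cfsg.Agent.CT.Degrees
import Cfsg.Agent.Grp.Frobenius
import Cfsg.Agent.Grp.Misc
import Cfsg.Agent.Blk.Over

/-! Character degrees (Isaacs, chapter 12): minimal nonabelian quotients, Frobenius sections,
Berkovich's theorem, kernels of characters of large degree. -/

set_option autoImplicit false

namespace Cfsg

open scoped ComplexConjugate Pointwise commutatorElement

universe u v w

variable {G : Type u} [Group G] [Finite G]

/-- Isaacs 12.4 -/
theorem frobenius_section {K N : Subgroup G} [hK : K.Normal] [hN : N.Normal] (hab : ⁅N, N⁆ ≤ K)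
    (hF : ∀ x, x ∉ N → ∀ n ∈ N, ⁅x, n⁆ ∈ K → n ∈ K) (ψ : IrrCharacter N) :
    (∃ l : N →* ℂˣ, (∀ n : N, (n : G) ∈ K → l n = 1) ∧ charInertia (ψ.twist l).1 = N) ∨
      ∀ n : N, (n : G) ∉ K → ψ.1 n = 0 := by
  classical
  by_contra hcon
  push Not at hcon
  obtain ⟨hT, s, hsK, hs⟩ := hcon
  let A := N ⧸ K.subgroupOf N
  let π : N →* A := QuotientGroup.mk' _
  have hπ : ∀ n : N, π n = 1 ↔ (n : G) ∈ K := fun n => QuotientGroup.eq_one_iff n
  have hA : IsMulCommutative A := ⟨⟨fun a b => by
    obtain ⟨a, rfl⟩ := QuotientGroup.mk'_surjective _ a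
    obtain ⟨b, rfl⟩ := QuotientGroup.mk'_surjective _ b
    rw [← commutatorElement_eq_one_iff_mul_comm, ← map_commutatorElement]
    exact (hπ _).2 (hab (Subgroup.commutator_mem_commutator a.2 b.2))⟩⟩
  let c : G → A →* A := fun x => QuotientGroup.map _ _ (MulAut.conjNormal x : MulAut N).toMonoidHom
    fun n hn => hK.conj_mem _ hn x
  have hc : ∀ x n, c x (π n) = π (MulAut.conjNormal x n) := fun x n => rfl
  let S : Subgroup A := Subgroup.closure (π '' {n | ψ.1 n ≠ 0})
  have hcomm : ∀ (H : Type u) [Group H] [IsMulCommutative H], commutator H = ⊥ := fun H _ h =>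
    (commutator_eq_bot_iff_center_eq_top H).2 (Subgroup.center_eq_top_iff.2 h)
  have hext : ∀ μ : S →* ℂˣ, ∃ l : A →* ℂˣ, ∀ a : S, l a = μ a := fun μ =>
    (exists_extension_linear_iff' μ).2 fun n hn => by
      rw [hcomm, Subgroup.mem_bot] at hn
      rw [show n = 1 from Subtype.ext hn, map_one]
  choose l hl using hext
  have hx : ∀ μ : S →* ℂˣ, ∃ x, x ∈ charInertia (ψ.twist ((l μ).comp π)).1 ∧ x ∉ N := fun μ =>
    SetLike.exists_of_lt (lt_of_le_of_ne (IrrCharacter.le_charInertia _)
      (hT _ fun n hn => by rw [MonoidHom.comp_apply, (hπ n).2 hn, map_one]).symm)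
  choose x hx hxN using hx
  have hval : ∀ (μ : S →* ℂˣ) (y : G), y ∈ charInertia (ψ.twist ((l μ).comp π)).1 → ∀ n : N,
      (l μ (c y (π n)) : ℂ) * ψ.1 (MulAut.conjNormal y n) = l μ (π n) * ψ.1 n :=
    fun μ y hy n => mem_charInertia.1 hy n
  have hS : ∀ (μ : S →* ℂˣ) (y : G), y ∈ charInertia (ψ.twist ((l μ).comp π)).1 →
      ∀ a ∈ S, c y a ∈ S := fun μ y hy a ha => by
    refine (Subgroup.closure_le (S.comap (c y))).2 ?_ ha
    rintro _ ⟨n, hn, rfl⟩
    refine Subgroup.subset_closure ⟨_, fun h => ?_, (hc y n).symm⟩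
    have h1 := hval μ y hy n
    rw [h, mul_zero] at h1
    exact mul_ne_zero (Units.ne_zero _) hn h1.symm
  have hfix : ∀ y, y ∉ N → ∀ a : A, c y a = a → a = 1 := fun y hy a ha => by
    obtain ⟨n, rfl⟩ := QuotientGroup.mk'_surjective _ a
    refine (hπ n).2 (hF y hy n n.2 ?_)
    change c y (π n) = π n at ha
    rw [hc, ← mul_inv_eq_one, ← map_inv, ← map_mul, hπ] at ha
    exact ha
  have hsS : π s ∈ S := Subgroup.subset_closure ⟨s, hs, rfl⟩
  let F : (S →* ℂˣ) → S := fun μ => ⟨c (x μ) (π s), hS μ _ (hx μ) _ hsS⟩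
  have hinj : Function.Injective F := by
    intro μ ν h
    have h1 : c (x μ) (π s) = c (x ν) (π s) := congrArg Subtype.val h
    have h2 : (x ν)⁻¹ * x μ ∈ N := by
      by_contra h2
      refine hsK ((hπ s).1 (hfix _ h2 _ ?_))
      have h3 := congrArg (c (x ν)⁻¹) h1
      simp only [hc, ← MulAut.mul_apply, ← map_mul, inv_mul_cancel, map_one,
        MulAut.one_apply] at h3
      rw [hc, h3]
    have h3 : x μ ∈ charInertia (ψ.twist ((l ν).comp π)).1 := by
      simpa using Subgroup.mul_mem _ (hx ν) (IrrCharacter.le_charInertia _ h2)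
    have h4 : ∀ a ∈ S, (l μ * (l ν)⁻¹) (c (x μ) a) = (l μ * (l ν)⁻¹) a := fun a ha => by
      refine (Subgroup.closure_le (MonoidHom.eqLocus ((l μ * (l ν)⁻¹).comp (c (x μ)))
        (l μ * (l ν)⁻¹))).2 ?_ ha
      rintro _ ⟨n, hn, rfl⟩
      have h5 := hval μ _ (hx μ) n
      have h6 := hval ν _ h3 n
      change (l μ * (l ν)⁻¹) (c (x μ) (π n)) = (l μ * (l ν)⁻¹) (π n)
      rw [MonoidHom.mul_apply, MonoidHom.mul_apply, MonoidHom.inv_apply, MonoidHom.inv_apply,
        mul_inv_eq_iff_eq_mul, mul_right_comm, eq_mul_inv_iff_mul_eq, Units.ext_iff]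
      refine mul_right_cancel₀ (show ψ.1 n ≠ 0 from hn) ?_
      push_cast
      linear_combination (l ν (c (x μ) (π n)) : ℂ) * h5 - (l μ (c (x μ) (π n)) : ℂ) * h6
    let d : S → S := fun a => ⟨c (x μ) a * (a : A)⁻¹,
      S.mul_mem (hS μ _ (hx μ) _ a.2) (S.inv_mem a.2)⟩
    have hd : Function.Injective d := fun a b hab => by
      have h5 : c (x μ) a * (a : A)⁻¹ = c (x μ) b * (b : A)⁻¹ := congrArg Subtype.val hab
      have h6 := hfix _ (hxN μ) ((b : A)⁻¹ * a) (by
        rw [map_mul, map_inv, inv_mul_eq_iff_eq_mul, ← mul_assoc, ← h5, inv_mul_cancel_right])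
      exact (Subtype.ext (inv_mul_eq_one.1 h6)).symm
    ext a
    obtain ⟨b, rfl⟩ := Finite.surjective_of_injective hd a
    rw [← hl, ← hl, ← Units.ext_iff, ← mul_inv_eq_one]
    change (l μ * (l ν)⁻¹) (c (x μ) b * (b : A)⁻¹) = 1
    rw [map_mul, map_inv, h4 _ b.2, mul_inv_cancel]
  have hcard : Nat.card (S →* ℂˣ) = Nat.card S := by
    rw [card_unitsHom, hcomm, Subgroup.index_bot]
  obtain ⟨μ, hμ⟩ := ((Nat.bijective_iff_injective_and_card F).2 ⟨hinj, hcard⟩).2 1
  have h1 : c (x μ) (π s) = 1 := congrArg Subtype.val hμ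
  rw [hc, hπ, MulAut.conjNormal_apply] at h1
  exact hsK (by simpa [mul_assoc] using hK.conj_mem' _ h1 (x μ))

/-- a character of `N` vanishing off a normal subgroup `K` has `|N : K| ∣ ψ(1)²` -/
theorem IrrCharacter.index_dvd_sq_of_vanish (ψ : IrrCharacter G) {K : Subgroup G} [K.Normal]
    (h : ∀ g, g ∉ K → ψ.1 g = 0) : K.index ∣ charDegree ψ.1 ^ 2 := by
  classical
  have := Fintype.ofFinite G
  obtain ⟨θ, hθ⟩ := ψ.exists_under K
  obtain ⟨e, -, -, -, h1, h2, -⟩ := clifford ψ hθ
  rw [(classInner_res_eq_index_mul_iff ψ.1 K).2 h, ψ.classInner_self, mul_one, Nat.cast_inj] at h2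
  rw [h1, h2]
  exact ⟨(charInertia θ.1).index * charDegree θ.1 ^ 2, by ring⟩

/-- Isaacs 12.4, numerical form -/
theorem frobenius_section_degree {K N : Subgroup G} [hK : K.Normal] [hN : N.Normal]
    (hab : ⁅N, N⁆ ≤ K) (hF : ∀ x, x ∉ N → ∀ n ∈ N, ⁅x, n⁆ ∈ K → n ∈ K) (ψ : IrrCharacter N) :
    (∃ χ : IrrCharacter G, charDegree χ.1 = N.index * charDegree ψ.1) ∨
      K.relIndex N ∣ charDegree ψ.1 ^ 2 := by
  have := Fintype.ofFinite G
  have := Fintype.ofFinite N
  rcases frobenius_section hab hF ψ with ⟨l, -, hl⟩ | h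
  · refine Or.inl ⟨⟨_, (ψ.twist l).isIrr_indFun_iff.2 hl⟩, ?_⟩
    rw [(ψ.twist l).isCharacter.charDegree_indFun, IrrCharacter.charDegree_twist]
  · exact Or.inr (ψ.index_dvd_sq_of_vanish (K := K.subgroupOf N) h)

theorem exists_maximal_nonabelian_quotient {D : Subgroup G} [hD : D.Normal]
    (h : ¬ commutator G ≤ D) :
    ∃ K : Subgroup G, ∃ _ : K.Normal, D ≤ K ∧ ¬ commutator G ≤ K ∧
      ∀ L : Subgroup G, L.Normal → K < L → commutator G ≤ L := by
  obtain ⟨K, hDK, ⟨h1, h2⟩, h3⟩ := Finite.exists_le_maximal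
    (p := fun K : Subgroup G => K.Normal ∧ ¬ commutator G ≤ K) ⟨hD, h⟩
  exact ⟨K, h1, hDK, h2, fun L hL hKL => by_contra fun h4 => hKL.not_ge (h3 ⟨hL, h4⟩ hKL.le)⟩

/-- Isaacs 12.3 -/
theorem minimal_nonabelian_structure (hs : Group.IsSolvable (commutator G))
    (h1 : commutator G ≠ ⊥)
    (h2 : ∀ L : Subgroup G, L.Normal → L ≠ ⊥ → commutator G ≤ L) :
    ∃ p : ℕ, p.Prime ∧ IsElementaryAbelian p (commutator G) ∧
      ((IsPGroup p G ∧ commutator G ≤ Subgroup.center G) ∨
        ∀ n ∈ commutator G, n ≠ 1 → Subgroup.centralizer ({n} : Set G) ≤ commutator G) := by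
  set M := commutator G with hM
  have hmin : IsMinNormal M := ⟨inferInstance, h1, fun L hL hLM =>
    (eq_or_ne L ⊥).imp id fun h => le_antisymm hLM (h2 L hL h)⟩
  obtain ⟨p, hp, hE⟩ := hmin.exists_isElementaryAbelian hs
  have : Fact p.Prime := ⟨hp⟩
  have hMp := hE.isPGroup
  refine ⟨p, hp, hE, ?_⟩
  have hO : pPrimeCore p G = ⊥ := by_contra fun h =>
    not_dvd_card_pPrimeCore (G := G) p ((dvd_card_of_isPGroup_of_ne_bot hMp h1).trans
      (Subgroup.card_dvd_of_le (h2 _ inferInstance h)))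
  have hnil : ∀ C : Subgroup G, C.Normal → C ≤ Subgroup.centralizer (M : Set G) →
      IsPGroup p C := fun C hC hCM => by
    have h3 : Group.IsNilpotent C := by
      refine Subgroup.nilpotent_iff_lowerCentralSeries.2 ⟨2, ?_⟩
      rw [eq_bot_iff, Subgroup.lowerCentralSeries_succ, Subgroup.commutator_le]
      intro a ha b _
      have h4 : (a : G) ∈ M := by
        rw [Subgroup.top_lowerCentralSeries_one] at ha
        exact (Subgroup.map_subtype_commutator C ▸ Subgroup.commutator_mono le_top le_top :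
          (commutator C).map C.subtype ≤ M) ⟨a, ha, rfl⟩
      rw [Subgroup.mem_bot, commutatorElement_eq_one_iff_mul_comm]
      exact Subtype.ext (hCM b.2 a h4)
    exact (isPGroup_pCore p G).to_le ((le_fittingSubgroup hC h3).trans
      (fittingSubgroup_eq_pCore_of_pPrimeCore_eq_bot hO).le)
  by_cases hZ : Subgroup.center G = ⊥
  · right
    have hcc : ∀ n ∈ M, n ≠ 1 → Subgroup.centralizer ({n} : Set G) ≤
        Subgroup.centralizer (M : Set G) := fun n hn hn1 => by
      have h3 : M ≤ Subgroup.centralizer ({n} : Set G) := fun m hm =>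
        Subgroup.mem_centralizer_singleton_iff.2
          (congrArg Subtype.val (hE.1.is_comm.comm (⟨m, hm⟩ : M) ⟨n, hn⟩))
      have : (Subgroup.centralizer ({n} : Set G)).Normal := Subgroup.Normal.of_commutator_le G h3
      refine Subgroup.le_centralizer_iff.1 (h2 _ inferInstance fun h => hn1 ?_)
      rw [← Subgroup.mem_bot, ← h]
      exact fun g hg => Subgroup.mem_centralizer_singleton_iff.1 hg
    set C := Subgroup.centralizer (M : Set G) with hC
    have hCp := hnil C inferInstance le_rfl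
    have hMC : M ≤ C := Subgroup.le_centralizer_iff_isMulCommutative.2 hE.1
    have hCi : ¬ p ∣ C.index := by
      obtain ⟨P, hP⟩ := hCp.exists_le_sylow
      obtain ⟨n, ⟨hn1, hn2⟩, hn3⟩ := (Subgroup.bot_or_exists_ne_one _).resolve_left
        (inf_centralizer_ne_bot_of_isPGroup P.isPGroup' hMp Subgroup.le_normalizer_of_normal h1)
      have h3 : (P : Subgroup G) ≤ C := fun g hg =>
        hcc n hn1 hn3 (Subgroup.mem_centralizer_singleton_iff.2 (hn2 g hg))
      exact fun h => P.not_dvd_index (h.trans (Subgroup.index_dvd_of_le h3))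
    have hcop := coprime_card_of_isPGroup hCp hCi
    obtain ⟨U, hU⟩ := Subgroup.exists_right_complement'_of_coprime hcop
    obtain ⟨hU1, hU2⟩ := isComplement'_iff_inf_sup.1 hU
    have hMU : M ⊓ Subgroup.centralizer (U : Set G) = ⊥ := by
      rw [eq_bot_iff]
      rintro n ⟨hn1, hn2⟩
      by_contra hn3
      have h3 : U ≤ C := fun u hu =>
        hcc n hn1 hn3 (Subgroup.mem_centralizer_singleton_iff.2 (hn2 u hu))
      rw [sup_of_le_left h3] at hU2
      refine h1 (eq_bot_iff.2 (hZ ▸ fun m hm => Subgroup.mem_center_iff.2 fun g => ?_))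
      exact ((hU2 ▸ Subgroup.mem_top g : g ∈ C) m hm).symm
    have hdec := commutator_sup_centralizer_of_coprime (N := C) (A := U)
      Subgroup.le_normalizer_of_normal (by rwa [← hU.symm.index_eq_card])
      (Or.inl (isSolvable_of_isPGroup hCp))
    have hD : C ⊓ Subgroup.centralizer (U : Set G) = ⊥ := by
      rw [eq_bot_iff, ← hZ]
      intro d hd
      have h3 : (⊤ : Subgroup G) ≤ Subgroup.centralizer {d} := by
        rw [← hU2, ← hdec]
        refine sup_le (sup_le (fun m hm => ?_) fun e he => ?_) fun u hu => ?_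
        · exact Subgroup.mem_centralizer_singleton_iff.2
            (hd.1 m (Subgroup.commutator_mono le_top le_top hm))
        · rw [Subgroup.mem_centralizer_singleton_iff, ← commutatorElement_eq_one_iff_mul_comm,
            ← Subgroup.mem_bot, ← hMU]
          exact ⟨Subgroup.commutator_mem_commutator (Subgroup.mem_top _) (Subgroup.mem_top _),
            Subgroup.mul_mem _ (Subgroup.mul_mem _ (Subgroup.mul_mem _ he.2 hd.2)
              (Subgroup.inv_mem _ he.2)) (Subgroup.inv_mem _ hd.2)⟩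
        · exact Subgroup.mem_centralizer_singleton_iff.2 (hd.2 u hu)
      exact Subgroup.mem_center_iff.2 fun g =>
        Subgroup.mem_centralizer_singleton_iff.1 (h3 (Subgroup.mem_top g))
    rw [hD, sup_bot_eq] at hdec
    exact fun n hn hn1 => (hcc n hn hn1).trans
      (hdec.ge.trans (Subgroup.commutator_mono le_top le_top))
  · have h3 := h2 _ inferInstance hZ
    exact Or.inl ⟨(hnil ⊤ inferInstance fun g _ m hm =>
      (Subgroup.mem_center_iff.1 (h3 hm) g).symm).of_equiv Subgroup.topEquiv, h3⟩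

/-- Isaacs 12.3 pulled back from a minimal nonabelian solvable quotient `G ⧸ K` -/
theorem minimal_nonabelian_quotient_structure {K : Subgroup G} [K.Normal]
    (h1 : ¬ commutator G ≤ K) (h2 : ∀ L : Subgroup G, L.Normal → K < L → commutator G ≤ L)
    (hs : Group.IsSolvable (commutator (G ⧸ K))) :
    ∃ p : ℕ, p.Prime ∧ (((∃ k, K.index = p ^ k) ∧ ∃ χ : IrrCharacter G, K ≤ charKer χ.1 ∧
        charDegree χ.1 ≠ 1 ∧ commutator G ≤ charCenter χ.1) ∨
      ∃ N : Subgroup G, ∃ _ : N.Normal, K < N ∧ commutator G ≤ N ∧ ⁅N, N⁆ ≤ K ∧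
        (∃ k, K.relIndex N = p ^ (k + 1)) ∧ ¬ p ∣ N.index ∧ N ≠ ⊤ ∧
        (∀ x, x ∉ N → ∀ n ∈ N, ⁅x, n⁆ ∈ K → n ∈ K) ∧
        ∃ χ : IrrCharacter G, K ≤ charKer χ.1 ∧ charDegree χ.1 = N.index) := by
  classical
  have := Fintype.ofFinite (G ⧸ K)
  have hmap := map_commutator_eq_of_surjective _ (QuotientGroup.mk'_surjective K)
  have h3 : commutator (G ⧸ K) ≠ ⊥ := fun h => h1 (map_mk_eq_bot_iff.1 (hmap.trans h))
  obtain ⟨p, hp, hE, h4⟩ := minimal_nonabelian_structure hs h3 fun L hL hL1 => by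
    rw [← hmap, Subgroup.map_le_iff_le_comap]
    refine h2 _ inferInstance (lt_of_le_of_ne (le_comap_mk K L) fun h => hL1 ?_)
    rw [← map_comap_mk K L, ← h, map_mk_eq_bot_iff]
  have : Fact p.Prime := ⟨hp⟩
  refine ⟨p, hp, h4.imp (fun h => ⟨isPGroup_quotient_iff_index.1 h.1, ?_⟩) fun h => ?_⟩
  · obtain ⟨χ, hχ⟩ := exists_irr_not_le_charKer h3
    refine ⟨χ.inflate K, χ.le_charKer_inflate K, ?_, ?_⟩
    · rw [IrrCharacter.charDegree_inflate]
      exact fun h => hχ (χ.charDegree_eq_one_iff_commutator_le.1 h)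
    · have h5 := χ.isCharacter.charCenter_comp (QuotientGroup.mk' K)
      change charCenter (χ.inflate K).1 = _ at h5
      rw [h5, ← Subgroup.map_le_iff_le_comap, hmap]
      exact h.2.trans χ.center_le_charCenter
  · set M := commutator (G ⧸ K) with hM
    have hcop := coprime_card_index_of_centralizer_le h
    have hpM := dvd_card_of_isPGroup_of_ne_bot hE.isPGroup h3
    have hF : ∀ x, x ∉ M → ∀ n ∈ M, ⁅x, n⁆ ∈ (⊥ : Subgroup (G ⧸ K)) → n ∈ (⊥ : Subgroup (G ⧸ K)) :=
      fun x hx n hn hxn => by_contra fun hn1 => hx (h n hn hn1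
        (Subgroup.mem_centralizer_singleton_iff.2 (commutatorElement_eq_one_iff_mul_comm.1 hxn)))
    have hMM : ⁅M, M⁆ ≤ ⊥ := (Subgroup.commutator_eq_bot_iff_le_centralizer.2
      (Subgroup.le_centralizer_iff_isMulCommutative.2 hE.1)).le
    refine ⟨M.comap (QuotientGroup.mk' K), inferInstance,
      lt_of_le_of_ne (le_comap_mk K M) fun h => h3 ?_, ?_, ?_, ?_, ?_, fun h => ?_,
      fun x hx n hn hxn => ?_, ?_⟩
    · rw [← map_comap_mk K M, ← h, map_mk_eq_bot_iff]
    · rw [← Subgroup.map_le_iff_le_comap, hmap]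
    · rw [← map_mk_eq_bot_iff, Subgroup.map_commutator, map_comap_mk, eq_bot_iff]
      exact hMM
    · obtain ⟨k, hk⟩ := IsPGroup.iff_card.1 hE.isPGroup
      rw [relIndex_comap_mk, hk]
      rcases k with _ | k
      · exact absurd (Subgroup.card_eq_one.1 hk) h3
      · exact ⟨k, rfl⟩
    · rw [index_comap_mk]
      exact fun h => hp.ne_one (Nat.eq_one_of_dvd_coprimes hcop hpM h)
    · have h5 : M = ⊤ := by rw [← map_comap_mk K M, h, Subgroup.map_top_of_surjective _
        (QuotientGroup.mk'_surjective K)]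
      refine h3 (eq_bot_iff.2 ?_)
      rw [h5] at hMM
      exact hMM
    · refine (QuotientGroup.eq_one_iff n).1 (hF (QuotientGroup.mk' K x) hx (QuotientGroup.mk' K n)
        hn ?_)
      rw [← map_commutatorElement]
      exact (QuotientGroup.eq_one_iff _).2 hxn
    · rcases frobenius_section_degree hMM hF (IrrCharacter.triv M) with ⟨χ, hχ⟩ | h5
      · refine ⟨χ.inflate K, χ.le_charKer_inflate K, ?_⟩
        rw [IrrCharacter.charDegree_inflate, hχ, index_comap_mk, IrrCharacter.charDegree_triv,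
          mul_one]
      · rw [IrrCharacter.charDegree_triv, one_pow, Subgroup.relIndex_bot_left, Nat.dvd_one,
          Subgroup.card_eq_one] at h5
        exact absurd h5 h3

/-- Berkovich's theorem -/
theorem hasNormalPComplement_of_relative {p : ℕ} [hp : Fact p.Prime] {N : Subgroup G} [N.Normal]
    (h : ∀ χ : IrrCharacter G, ¬ ⁅N, N⁆ ≤ charKer χ.1 → p ∣ charDegree χ.1) :
    HasNormalPComplement p N := by
  classical
  have := Fintype.ofFinite G
  obtain ⟨P⟩ : Nonempty (Sylow p G) := inferInstance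
  refine HasNormalPComplement.of_le (K := N ⊔ P) ?_ le_sup_left
  refine hasNormalPComplement_of_dvd_charDegree fun ξ hξ => by_contra fun hd => hξ ?_
  obtain ⟨χ, h1, h2⟩ := ξ.exists_over_not_dvd hp.out
    (fun h => P.not_dvd_index (h.trans (Subgroup.index_dvd_of_le le_sup_right))) hd
  have h3 : ⁅N, N⁆ ≤ charKer χ.1 := by_contra fun h3 => h2 (h χ h3)
  have h4 := (χ.isCharacter.res _).charKer_le_of_constituent ξ h1
  rw [χ.isCharacter.charKer_res] at h4
  obtain ⟨k, hk⟩ : ∃ k, (N.subgroupOf (N ⊔ P)).index = p ^ k := by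
    obtain ⟨k, hk⟩ := IsPGroup.iff_card.1 P.isPGroup'
    have h5 : N.relIndex (N ⊔ P) ∣ p ^ k := by
      rw [Subgroup.relIndex_sup_left, ← hk]; exact Subgroup.relIndex_dvd_card _ _
    obtain ⟨j, -, hj⟩ := (Nat.dvd_prime_pow hp.out).1 h5
    exact ⟨j, hj⟩
  have h5 := isIrr_res_of_index_pow hp.out hk ξ hd
  rw [← charDegree_res ξ.1 (N.subgroupOf (N ⊔ P))]
  refine (IrrCharacter.charDegree_eq_one_iff_commutator_le ⟨_, h5⟩).2 ?_
  change _ ≤ charKer fun n : N.subgroupOf (N ⊔ P) => ξ.1 n
  rw [ξ.isCharacter.charKer_res, commutator_def, Subgroup.commutator_le]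
  intro a _ b _
  exact h4 (h3 (Subgroup.commutator_mem_commutator a.2 b.2))

/-- a nonempty set of irreducible characters closed under multiplication by a faithful character
is everything -/
theorem mem_of_closed_under_faithful {G : Type u} [Group G] [Fintype G] {φ : G → ℂ}
    (hφ : IsClassFunction G φ) (hf : ∀ g, φ g = φ 1 → g = 1) {S : Set (IrrCharacter G)}
    (hS : ∀ ψ ∈ S, ∀ ξ : IrrCharacter G, classInner (φ * ψ.1) ξ.1 ≠ 0 → ξ ∈ S)
    {ψ : IrrCharacter G} (hψ : ψ ∈ S) (ξ : IrrCharacter G) : ξ ∈ S := by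
  classical
  have key : ∀ T : Finset G, IsClassFunction G ((∏ g ∈ T, (φ - fun _ => φ g)) * ψ.1) ∧
      ∀ ξ : IrrCharacter G, ξ ∉ S → classInner ((∏ g ∈ T, (φ - fun _ => φ g)) * ψ.1) ξ.1 = 0 := by
    intro T
    induction T using Finset.induction_on with
    | empty =>
      rw [Finset.prod_empty, one_mul]
      exact ⟨ψ.isClassFunction, fun ξ hξ => IrrCharacter.classInner_of_ne fun h => hξ (h ▸ hψ)⟩
    | insert a T ha ih =>
      rw [Finset.prod_insert ha, mul_assoc]
      generalize (∏ g ∈ T, (φ - fun _ => φ g)) * ψ.1 = f at ih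
      refine ⟨(hφ.sub (IsClassFunction.const _)).mul ih.1, fun ξ hξ => ?_⟩
      rw [sub_mul, classInner_sub_left]
      have h1 : classInner ((fun _ => φ a) * f) ξ.1 = 0 := by
        have := classInner_const_mul_left (φ a) f ξ.1
        rw [ih.2 ξ hξ, mul_zero] at this
        exact this
      have h2 : φ * f = ∑ η : IrrCharacter G, classInner f η.1 • (φ * η.1) := by
        funext g
        rw [Pi.mul_apply, ih.1.eq_sum_irr g, Finset.mul_sum, Finset.sum_apply]
        refine Finset.sum_congr rfl fun η _ => ?_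
        simp only [Pi.smul_apply, Pi.mul_apply, smul_eq_mul]; ring
      rw [h1, sub_zero, h2, classInner_sum_left]
      refine Finset.sum_eq_zero fun η _ => ?_
      rw [classInner_smul_left]
      by_cases hη : η ∈ S
      · rw [show classInner (φ * η.1) ξ.1 = 0 from by_contra fun h => hξ (hS η hη ξ h), mul_zero]
      · rw [ih.2 η hη, zero_mul]
  by_contra hξ
  have h1 := (key (Finset.univ.erase 1)).2 ξ hξ
  rw [classInner_def, Finset.sum_eq_single 1 (fun g _ hg => by
    rw [Pi.mul_apply, Finset.prod_apply, Finset.prod_eq_zero (i := g) (by simpa using hg)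
      (by simp), zero_mul, zero_mul]) (by simp)] at h1
  refine mul_ne_zero (inv_ne_zero (by exact_mod_cast Nat.card_pos.ne')) (mul_ne_zero
    (mul_ne_zero ?_ ψ.one_ne_zero) ((map_ne_zero _).2 ξ.one_ne_zero)) h1
  rw [Finset.prod_apply]
  refine Finset.prod_ne_zero_iff.2 fun g hg h => (Finset.mem_erase.1 hg).1 (hf g ?_)
  exact (sub_eq_zero.1 h).symm

/-- the degree of a character is the sum of the degrees of its constituents -/
theorem IsCharacter.exists_charDegree_eq_sum {G : Type u} [Group G] [Fintype G] {φ : G → ℂ}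
    (hφ : IsCharacter G φ) : ∃ m : IrrCharacter G → ℕ,
      (∀ χ, classInner φ χ.1 = m χ) ∧ charDegree φ = ∑ χ, m χ * charDegree χ.1 := by
  obtain ⟨m, hm⟩ := isCharacter_iff_exists_sum.1 hφ
  refine ⟨m, fun χ => by rw [hm, classInner_sum_irr], ?_⟩
  have := congrFun hm 1
  rw [hφ.one_eq_charDegree] at this
  simp only [IrrCharacter.one_eq_charDegree] at this
  exact_mod_cast this

theorem classInner_mul_ne_zero_symm {G : Type u} [Group G] [Fintype G] {χ ψ ξ : G → ℂ}
    (h : classInner (χ * ψ) ξ ≠ 0) : classInner ((fun g => conj (χ g)) * ξ) ψ ≠ 0 := by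
  rw [mul_comm, classInner_mul_left] at h
  rw [← conj_classInner, mul_comm]
  exact (map_ne_zero _).2 h

/-- with degrees `1, m, n` and `m, n` coprime, the constituents of a product of characters of
degrees `m` and `n` all have degree `m` or all have degree `n` -/
theorem product_type {G : Type u} [Group G] [Fintype G] {m n : ℕ} (hmn : m.Coprime n)
    (hm : m ≠ 1) (hcd : ∀ χ : IrrCharacter G,
      charDegree χ.1 = 1 ∨ charDegree χ.1 = m ∨ charDegree χ.1 = n)
    {χ ψ : IrrCharacter G} (hχ : charDegree χ.1 = m) (hψ : charDegree ψ.1 = n) :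
    (∀ ξ : IrrCharacter G, classInner (χ.1 * ψ.1) ξ.1 ≠ 0 → charDegree ξ.1 = m) ∨
      ∀ ξ : IrrCharacter G, classInner (χ.1 * ψ.1) ξ.1 ≠ 0 → charDegree ξ.1 = n := by
  classical
  have hne : m ≠ n := fun h => hm (by rw [← h] at hmn; simpa using hmn)
  have h1 : ∀ ξ : IrrCharacter G, classInner (χ.1 * ψ.1) ξ.1 ≠ 0 →
      charDegree ξ.1 = m ∨ charDegree ξ.1 = n := fun ξ hξ => (hcd ξ).resolve_left fun h => by
    have h2 := classInner_mul_ne_zero_symm hξ
    rw [mul_comm] at h2
    have h3 := IrrCharacter.eq_of_classInner_ne_zero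
      (χ := ⟨_, χ.2.conj.mul_of_charDegree_eq_one ξ.isCharacter h⟩) h2
    have h4 := congrArg (fun η : IrrCharacter G => charDegree η.1) h3
    simp only at h4
    rw [ξ.isCharacter.charDegree_mul χ.isCharacter.conj, h, one_mul, hψ,
      charDegree_congr (ψ := χ.1) (by rw [χ.one_eq_charDegree, map_natCast]), hχ] at h4
    exact hne h4
  obtain ⟨a, ha1, ha2⟩ := (χ.isCharacter.mul ψ.isCharacter).exists_charDegree_eq_sum
  rw [χ.isCharacter.charDegree_mul ψ.isCharacter, hχ, hψ,
    ← Finset.sum_filter_add_sum_filter_not _ (fun ξ => charDegree ξ.1 = m),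
    Finset.sum_congr rfl (g := fun ξ => a ξ * m) (fun ξ hξ => by rw [(Finset.mem_filter.1 hξ).2]),
    Finset.sum_congr (s₁ := Finset.univ.filter fun ξ => ¬ charDegree ξ.1 = m) rfl
      (g := fun ξ => a ξ * n) (fun ξ hξ => by
        by_cases h : a ξ = 0
        · simp [h]
        · rw [(h1 ξ (by rw [ha1]; exact_mod_cast h)).resolve_left (Finset.mem_filter.1 hξ).2]),
    ← Finset.sum_mul, ← Finset.sum_mul] at ha2
  set u := ∑ ξ ∈ Finset.univ.filter (fun ξ : IrrCharacter G => charDegree ξ.1 = m), a ξ with hu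
  set w := ∑ ξ ∈ Finset.univ.filter (fun ξ : IrrCharacter G => ¬ charDegree ξ.1 = m), a ξ with hw
  have h2 : m ∣ w := hmn.dvd_of_dvd_mul_right
    ((Nat.dvd_add_right (dvd_mul_left m u)).1 (ha2 ▸ dvd_mul_right m n))
  by_cases hw0 : w = 0
  · refine Or.inl fun ξ hξ => by_contra fun h => hξ ?_
    rw [ha1, (Finset.sum_eq_zero_iff.1 (hw.symm.trans hw0)) ξ (by simpa using h), Nat.cast_zero]
  · have h3 := Nat.le_of_dvd (Nat.pos_of_ne_zero hw0) h2
    have hm0 : 0 < m := hχ ▸ χ.charDegree_pos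
    have hu0 : u = 0 := by
      have h4 := Nat.mul_le_mul_right n h3
      by_contra h5
      have := Nat.mul_pos (Nat.pos_of_ne_zero h5) hm0
      omega
    refine Or.inr fun ξ hξ => (h1 ξ hξ).resolve_left fun h => hξ ?_
    rw [ha1, (Finset.sum_eq_zero_iff.1 (hu.symm.trans hu0)) ξ (by simpa using h), Nat.cast_zero]

theorem product_type_of_charCenter {G : Type u} [Group G] [Fintype G] {m n : ℕ}
    (hmn : m.Coprime n) (hm : m ≠ 1) (hn : n ≠ 1) (hcd : ∀ χ : IrrCharacter G,
      charDegree χ.1 = 1 ∨ charDegree χ.1 = m ∨ charDegree χ.1 = n)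
    {χ ψ : IrrCharacter G} (hχ : charDegree χ.1 = m) (hψ : charDegree ψ.1 = n)
    (hZ : charCenter χ.1 = ⊥) :
    ∀ ξ : IrrCharacter G, classInner (χ.1 * ψ.1) ξ.1 ≠ 0 → charDegree ξ.1 = m := by
  classical
  have hne : m ≠ n := fun h => hm (by rw [← h] at hmn; simpa using hmn)
  refine (product_type hmn hm hcd hχ hψ).resolve_right fun h => ?_
  let χ' : IrrCharacter G := ⟨_, χ.2.conj⟩
  have hχ' : charDegree χ'.1 = m :=
    (charDegree_congr (ψ := χ.1) (by
      change conj (χ.1 1) = _
      rw [χ.one_eq_charDegree, map_natCast])).trans hχ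
  have step : ∀ α β : IrrCharacter G, charDegree β.1 = m → β.1 = (fun g => conj (α.1 g)) →
      ∀ η : IrrCharacter G, charDegree η.1 = n →
      (∀ ξ : IrrCharacter G, classInner (α.1 * η.1) ξ.1 ≠ 0 → charDegree ξ.1 = n) →
      ∀ ξ : IrrCharacter G, classInner (α.1 * η.1) ξ.1 ≠ 0 → charDegree ξ.1 = n ∧
        ∀ ζ : IrrCharacter G, classInner (β.1 * ξ.1) ζ.1 ≠ 0 → charDegree ζ.1 = n :=
    fun α β hβ e η hη h ξ hξ => ⟨h ξ hξ, (product_type hmn hm hcd hβ (h ξ hξ)).resolve_left
      fun h' => hne ((h' η (e ▸ classInner_mul_ne_zero_symm hξ)).symm.trans hη)⟩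
  have key := mem_of_closed_under_faithful (φ := χ'.1 * χ.1)
    (χ'.isClassFunction.mul χ.isClassFunction) (fun g hg => by
      rw [← Subgroup.mem_bot, ← hZ, χ.mem_charCenter, ← χ.isCharacter.norm_one]
      have h1 := congrArg norm hg
      simp only [χ', Pi.mul_apply, norm_mul, Complex.norm_conj] at h1
      exact (mul_self_inj_of_nonneg (norm_nonneg _) (norm_nonneg _)).1 h1)
    (S := {η | charDegree η.1 = n ∧
      ∀ ξ : IrrCharacter G, classInner (χ.1 * η.1) ξ.1 ≠ 0 → charDegree ξ.1 = n})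
    (fun η hη ζ hζ => by
      have h1 : classInner (χ.1 * η.1) (χ.1 * ζ.1) ≠ 0 := by
        rw [mul_assoc] at hζ
        have h2 := classInner_mul_ne_zero_symm hζ
        rw [← conj_classInner, map_ne_zero] at h2
        simpa [χ'] using h2
      obtain ⟨ξ, h2, h3⟩ := (χ.isCharacter.mul η.isCharacter).exists_common_constituent
        (χ.isCharacter.mul ζ.isCharacter) h1
      obtain ⟨h4, h5⟩ := step χ χ' hχ' rfl η hη.1 hη.2 ξ h2
      exact step χ' χ hχ (by funext g; simp [χ']) ξ h4 h5 ζ (classInner_mul_ne_zero_symm h3))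
    (ψ := ψ) ⟨hψ, h⟩ (IrrCharacter.triv G)
  exact hn (key.1.symm.trans IrrCharacter.charDegree_triv)

/-- the `p'`-part of the degree is the degree of a constituent on a normal `p`-complement -/
theorem charDegree_eq_ordCompl_of_over {p k : ℕ} (hp : p.Prime) {N : Subgroup G} [N.Normal]
    [Fintype N] (hN : ¬ p ∣ Nat.card N) (hk : N.index = p ^ k) (χ : IrrCharacter G)
    {θ : IrrCharacter N} (h : classInner (fun n : N => χ.1 n) θ.1 ≠ 0) :
    charDegree θ.1 = ordCompl[p] (charDegree χ.1) := by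
  obtain ⟨j, -, hj⟩ := exists_charDegree_eq_pow_mul hp hk χ h
  have h1 : ¬ p ∣ charDegree θ.1 := fun h => hN (h.trans θ.charDegree_dvd_card)
  rw [hj, Nat.ordCompl_self_pow_mul _ _ hp, (Nat.ordCompl_eq_self_iff_zero_or_not_dvd _ hp).2
    (Or.inr h1)]

omit [Finite G] in
theorem derivedSeries_succ_le_of_commutator_le {N : Subgroup G} (h : commutator G ≤ N) (k : ℕ) :
    derivedSeries G (k + 1) ≤ (derivedSeries N k).map N.subtype := by
  induction k with
  | zero =>
    rw [derivedSeries_zero, ← MonoidHom.range_eq_map, Subgroup.range_subtype]; exact h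
  | succ k ih =>
    rw [derivedSeries_succ, derivedSeries_succ N, Subgroup.map_commutator]
    exact Subgroup.commutator_mono ih ih

omit [Finite G] in
theorem derivedSeries_le_of_quotient {N : Subgroup G} [N.Normal] {k : ℕ}
    (h : derivedSeries (G ⧸ N) k = ⊥) : derivedSeries G k ≤ N := by
  rw [← map_mk_eq_bot_iff, map_derivedSeries_eq (QuotientGroup.mk'_surjective N), h]

private theorem three_degrees_gcd {p m n : ℕ} (hp : p.Prime)
    (hcd : ∀ χ : IrrCharacter G, charDegree χ.1 = 1 ∨ charDegree χ.1 = m ∨ charDegree χ.1 = n)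
    {N : Subgroup G} [N.Normal] (hN : ¬ p ∣ Nat.card N) {k : ℕ} (hk : N.index = p ^ k)
    (h1 : ordCompl[p] m ≠ 1) (h2 : ordCompl[p] n = 1) : derivedSeries G 3 = ⊥ := by
  classical
  have := Fintype.ofFinite G
  have h3 : derivedSeries N 2 = ⊥ :=
    derivedSeries_two_eq_bot_of_two_degrees (m := ordCompl[p] m) fun θ => by
      obtain ⟨χ, hχ⟩ := θ.exists_over
      rw [charDegree_eq_ordCompl_of_over hp hN hk χ hχ]
      rcases hcd χ with h | h | h <;> rw [h]
      · simp
      · exact Or.inr rfl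
      · exact Or.inl h2
  have h4 : derivedSeries (G ⧸ ⁅N, N⁆) 2 = ⊥ :=
    derivedSeries_two_eq_bot_of_two_degrees (m := n) fun ψ => by
      obtain ⟨θ, hθ⟩ := (ψ.inflate _).exists_under N
      have h5 := charDegree_eq_ordCompl_of_over hp hN hk _ hθ
      have h6 : charDegree θ.1 = 1 := θ.charDegree_eq_one_iff_commutator_le.2 (by
        refine le_trans ?_ (((ψ.inflate _).isCharacter.res N).charKer_le_of_constituent θ hθ)
        rw [(ψ.inflate _).isCharacter.charKer_res, commutator_def, Subgroup.commutator_le]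
        intro a _ b _
        exact ψ.le_charKer_inflate _ (Subgroup.commutator_mem_commutator a.2 b.2))
      rw [← IrrCharacter.charDegree_inflate]
      rcases hcd (ψ.inflate _) with h | h | h
      · exact Or.inl h
      · rw [h, h6] at h5; exact absurd h5.symm h1
      · exact Or.inr h
  have h5 := derivedSeries_le_of_quotient h4
  have h6 : ⁅⁅N, N⁆, ⁅N, N⁆⁆ = ⊥ := by
    have := congrArg (Subgroup.map N.subtype) h3
    rwa [derivedSeries_succ, derivedSeries_one, Subgroup.map_commutator,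
      Subgroup.map_subtype_commutator, Subgroup.map_bot] at this
  rw [derivedSeries_succ, eq_bot_iff, ← h6]
  exact Subgroup.commutator_mono h5 h5

private theorem three_degrees_solvable {m n : ℕ} (hmn : m.Coprime n) (hm : m ≠ 1)
    (hcd : ∀ χ : IrrCharacter G, charDegree χ.1 = 1 ∨ charDegree χ.1 = m ∨ charDegree χ.1 = n)
    {p : ℕ} (hp : p.Prime) {K N : Subgroup G} [K.Normal] [N.Normal] (h1 : commutator G ≤ N)
    (h2 : ⁅N, N⁆ ≤ K) {k : ℕ} (h3 : K.relIndex N = p ^ (k + 1)) (h4 : ¬ p ∣ N.index)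
    (h5 : ∀ x, x ∉ N → ∀ n ∈ N, ⁅x, n⁆ ∈ K → n ∈ K) (h6 : N.index = m) :
    derivedSeries G 3 = ⊥ := by
  classical
  have := Fintype.ofFinite G
  have h7 : derivedSeries N 2 = ⊥ := derivedSeries_two_eq_bot_of_two_degrees (m := n) fun ψ => by
    rcases frobenius_section_degree h2 h5 ψ with ⟨χ, hχ⟩ | h
    · rw [h6] at hχ
      rcases hcd χ with h | h | h <;> rw [h] at hχ
      · exact absurd (Nat.eq_one_of_mul_eq_one_right hχ.symm) hm
      · exact Or.inl ((Nat.mul_eq_left (h ▸ χ.charDegree_pos.ne')).1 hχ.symm)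
      · exact absurd (Nat.eq_one_of_dvd_coprimes hmn dvd_rfl (hχ ▸ dvd_mul_right _ _)) hm
    · have h8 : p ∣ charDegree ψ.1 :=
        hp.dvd_of_dvd_pow ((h3 ▸ dvd_pow_self p (by omega) : p ∣ K.relIndex N).trans h)
      obtain ⟨χ, hχ⟩ := ψ.exists_over
      obtain ⟨e, he1, he2⟩ := exists_charDegree_eq_mul_dvd_index χ hχ
      have h9 : p ∣ charDegree χ.1 := he1 ▸ dvd_mul_of_dvd_right h8 e
      rcases hcd χ with h | h | h
      · exact absurd (Nat.dvd_one.1 (h ▸ h9)) hp.ne_one
      · exact absurd (h6 ▸ h ▸ h9) h4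
      · have h10 : e = 1 :=
          Nat.eq_one_of_dvd_coprimes hmn (h6 ▸ he2) (h ▸ he1 ▸ dvd_mul_right _ _)
        rw [h10, one_mul] at he1
        exact Or.inr (he1 ▸ h)
  have h8 := derivedSeries_succ_le_of_commutator_le h1 2
  rwa [h7, Subgroup.map_bot, le_bot_iff] at h8

private theorem exists_faithful_degree {m n : ℕ} {M : Subgroup G} [M.Normal] (h1 : M ≠ ⊥)
    (h2 : ⁅M, M⁆ = M)
    (hcd : ∀ χ : IrrCharacter G, charDegree χ.1 = 1 ∨ charDegree χ.1 = m ∨ charDegree χ.1 = n) :
    ∃ χ : IrrCharacter G, ¬ M ≤ charKer χ.1 ∧ charDegree χ.1 = m := by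
  classical
  have := Fintype.ofFinite G
  by_contra h
  push Not at h
  have h3 : ∀ χ : IrrCharacter G, ¬ M ≤ charKer χ.1 → charDegree χ.1 = n := fun χ hχ => by
    rcases hcd χ with h4 | h4 | h4
    · exact absurd (h2.ge.trans ((Subgroup.commutator_mono le_top le_top).trans
        (χ.charDegree_eq_one_iff_commutator_le.1 h4))) hχ
    · exact absurd h4 (h χ hχ)
    · exact h4
  have hperf : commutator M = ⊤ := by
    rw [← Subgroup.map_subtype_inj, Subgroup.map_subtype_commutator, h2,
      ← MonoidHom.range_eq_map, Subgroup.range_subtype]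
  obtain ⟨χ, hχ⟩ := exists_irr_not_le_charKer h1
  obtain ⟨θ, hθ⟩ := χ.exists_under M
  have h4 : charDegree θ.1 ≠ 1 := fun h4 => by
    have h5 := θ.charDegree_eq_one_iff_commutator_le.1 h4
    rw [hperf, top_le_iff, θ.charKer_eq_top_iff] at h5
    subst h5
    exact hχ ((χ.le_charKer_iff_classInner_ne_zero M).2 hθ)
  obtain ⟨q, hq, hqθ⟩ := Nat.exists_prime_and_dvd h4
  have : Fact q.Prime := ⟨hq⟩
  have h5 : HasNormalPComplement q M := hasNormalPComplement_of_relative fun ψ hψ => by
    rw [h3 ψ (h2 ▸ hψ), ← h3 χ hχ]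
    exact hqθ.trans (clifford_charDegree_dvd χ hθ)
  rw [hasNormalPComplement_iff_not_dvd_card_pResidual, pResidual_eq_top_iff_commutator.2
    (by rw [hperf, Subgroup.index_top]; simpa using hq.ne_one), Subgroup.card_top] at h5
  exact h5 (hqθ.trans θ.charDegree_dvd_card)

/-- Isaacs 12.15 -/
theorem derivedSeries_three_eq_bot_of_three_degrees {m n : ℕ}
    (hcd : ∀ χ : IrrCharacter G, charDegree χ.1 = 1 ∨ charDegree χ.1 = m ∨ charDegree χ.1 = n) :
    derivedSeries G 3 = ⊥ := by
  classical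
  revert m n
  refine induction_on_card (P := fun G _ _ => ∀ {m n : ℕ}, (∀ χ : IrrCharacter G,
    charDegree χ.1 = 1 ∨ charDegree χ.1 = m ∨ charDegree χ.1 = n) → derivedSeries G 3 = ⊥)
    (fun G _ _ ih m n hcd => ?_) G
  have := Fintype.ofFinite G
  have htwo : ∀ r : ℕ, (∀ χ : IrrCharacter G, charDegree χ.1 = 1 ∨ charDegree χ.1 = r) →
      derivedSeries G 3 = ⊥ := fun r h => by
    rw [derivedSeries_succ, derivedSeries_two_eq_bot_of_two_degrees h, Subgroup.commutator_bot_left]
  have hcd' : ∀ χ : IrrCharacter G,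
      charDegree χ.1 = 1 ∨ charDegree χ.1 = n ∨ charDegree χ.1 = m := fun χ => by
    have := hcd χ; tauto
  by_cases hm : m = 1
  · exact htwo n fun χ => by have := hcd χ; omega
  by_cases hn : n = 1
  · exact htwo m fun χ => by have := hcd χ; omega
  by_cases hab : commutator G = ⊥
  · exact htwo 1 fun χ => Or.inl (χ.charDegree_eq_one_iff_commutator_le.2 (hab ▸ bot_le))
  by_cases hmn : m.Coprime n
  · have hs : Group.IsSolvable G := by
      have : Nontrivial G := by
        by_contra h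
        rw [not_nontrivial_iff_subsingleton] at h
        exact hab (Subsingleton.elim _ _)
      have hq : ∀ (L : Subgroup G) [L.Normal], L ≠ ⊥ → Group.IsSolvable (G ⧸ L) := fun L _ hL =>
        ⟨3, ih _ (card_quotient_lt hL) fun ψ => by
          rw [← IrrCharacter.charDegree_inflate]; exact hcd _⟩
      obtain ⟨M, hM⟩ := exists_isMinNormal (G := G)
      have := hM.1
      have hMs : Group.IsSolvable M := by
        by_contra hMs
        have h2 := hM.commutator_eq_self_or_comm.resolve_right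
          fun h => hMs (isSolvable_of_isMulCommutative h)
        have hZ : ∀ χ : IrrCharacter G, ¬ M ≤ charKer χ.1 → charCenter χ.1 = ⊥ := fun χ hχ => by
          by_contra h3
          rcases hM.inf_eq_bot_or_le (charCenter χ.1) with h4 | h4
          · have := hq _ h3
            refine hMs (Group.isSolvable_of_isSolvable_injective
              (f := (QuotientGroup.mk' (charCenter χ.1)).comp M.subtype) ?_)
            rw [injective_iff_map_eq_one]
            intro a ha
            have h5 : (a : G) ∈ M ⊓ charCenter χ.1 := ⟨a.2, (QuotientGroup.eq_one_iff _).1 ha⟩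
            rw [h4] at h5
            exact Subtype.ext h5
          · exact hχ (h2.ge.trans (Subgroup.commutator_le.2 fun a ha b _ =>
              χ.isCharacter.commutator_mem_charKer (h4 ha) b))
        obtain ⟨χ, hχ1, hχ2⟩ := exists_faithful_degree hM.2.1 h2 hcd
        obtain ⟨ψ, hψ1, hψ2⟩ := exists_faithful_degree hM.2.1 h2 hcd'
        obtain ⟨ξ, hξ⟩ := (χ.isCharacter.mul ψ.isCharacter).exists_irr_constituent
          fun h => mul_ne_zero χ.one_ne_zero ψ.one_ne_zero (congrFun h 1)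
        have h3 := product_type_of_charCenter hmn hm hn hcd hχ2 hψ2 (hZ χ hχ1) ξ hξ
        have h4 := product_type_of_charCenter hmn.symm hn hm hcd' hψ2 hχ2 (hZ ψ hψ1) ξ
          (by rwa [mul_comm])
        rw [← h3, ← h4] at hmn
        exact hm (h3 ▸ by simpa using hmn)
      have := hq M hM.2.1
      exact Group.isSolvable_of_ker_le_range M.subtype (QuotientGroup.mk' M) (by simp)
    obtain ⟨K, hK, -, h1, h2⟩ := exists_maximal_nonabelian_quotient (D := (⊥ : Subgroup G))
      (by rwa [le_bot_iff])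
    obtain ⟨p, hp, ⟨⟨k, hk⟩, χ, h3, h4, -⟩ | ⟨N, hN, -, h3, h4, ⟨k, h5⟩, h6, h7, h8, χ, -, h9⟩⟩ :=
      minimal_nonabelian_quotient_structure h1 h2 inferInstance
    · have key : ∀ m n : ℕ, m.Coprime n → m ≠ 1 → (∀ χ : IrrCharacter G,
          charDegree χ.1 = 1 ∨ charDegree χ.1 = m ∨ charDegree χ.1 = n) → charDegree χ.1 = m →
          ∀ ψ : IrrCharacter G, charDegree ψ.1 = 1 ∨ charDegree ψ.1 = m := by
        intro m n hmn hm hcd hχ ψ
        by_contra hψ
        push Not at hψ
        have h5 : charDegree ψ.1 = n := ((hcd ψ).resolve_left hψ.1).resolve_left hψ.2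
        have h6 : m ∣ K.index := hχ ▸ χ.charDegree_dvd_index_of_le
          (h3.trans (charKer_le_charCenter _))
        obtain ⟨j, -, hj⟩ := (Nat.dvd_prime_pow hp).1 (hk ▸ h6)
        have h7 : ¬ p ∣ n := fun h => hp.ne_one (Nat.eq_one_of_dvd_coprimes hmn
          (hj ▸ dvd_pow_self p fun h => hm (by rw [hj, h, pow_zero])) h)
        have h8 := gallagher_isIrr ψ.isCharacter (isIrr_res_of_index_pow hp hk ψ (h5 ▸ h7))
          (χ.deflate K h3)
        have h9 := hcd ⟨_, h8⟩
        simp only [IrrCharacter.deflate_apply] at h9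
        rw [show (fun g => χ.1 g * ψ.1 g) = χ.1 * ψ.1 from rfl,
          χ.isCharacter.charDegree_mul ψ.isCharacter, hχ, h5] at h9
        have h10 := h5 ▸ ψ.charDegree_pos
        have h11 := hχ ▸ χ.charDegree_pos
        rcases h9 with h | h | h
        · exact hm (Nat.eq_one_of_mul_eq_one_right h)
        · exact hψ.1 (h5.trans ((Nat.mul_eq_left h11.ne').1 h))
        · exact hm ((Nat.mul_eq_right h10.ne').1 h)
      rcases hcd χ with h | h | h
      · exact absurd h h4
      · exact htwo m (key m n hmn hm hcd h)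
      · exact htwo n (key n m hmn.symm hn hcd' h)
    · rcases hcd χ with h | h | h
      · exact absurd (Subgroup.index_eq_one.1 (h9 ▸ h)) h7
      · exact three_degrees_solvable hmn hm hcd hp h3 h4 h5 h6 h8 (h9 ▸ h)
      · exact three_degrees_solvable hmn.symm hn hcd' hp h3 h4 h5 h6 h8 (h9 ▸ h)
  · obtain ⟨p, hp, hpm, hpn⟩ := (Nat.Prime.not_coprime_iff_dvd).1 hmn
    have : Fact p.Prime := ⟨hp⟩
    obtain ⟨N, hN, h1, k, hk⟩ := hasNormalPComplement_iff_exists.1
      (hasNormalPComplement_of_dvd_charDegree (p := p) fun χ hχ => by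
        rcases hcd χ with h | h | h
        · exact absurd h hχ
        · exact h ▸ hpm
        · exact h ▸ hpn)
    have hcdN : ∀ θ : IrrCharacter N, charDegree θ.1 = 1 ∨ charDegree θ.1 = ordCompl[p] m ∨
        charDegree θ.1 = ordCompl[p] n := fun θ => by
      obtain ⟨χ, hχ⟩ := θ.exists_over
      rw [charDegree_eq_ordCompl_of_over hp h1 hk χ hχ]
      rcases hcd χ with h | h | h <;> rw [h] <;> simp
    by_cases h2 : ordCompl[p] m = 1 <;> by_cases h3 : ordCompl[p] n = 1
    · have h4 : IsMulCommutative N := isMulCommutative_iff_forall_charDegree_eq_one.2 fun θ => by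
        have := hcdN θ; omega
      have h5 := isMGroup_of_abelian_by_nilpotent N h4
        (isPGroup_quotient_iff_index.2 ⟨k, hk⟩).isNilpotent
      rw [eq_bot_iff]
      intro g hg
      refine eq_one_of_forall_irr fun χ => h5.derivedSeries_le_ker χ 3 ?_ g hg
      refine (Set.ncard_le_ncard (t := {1, m, n}) ?_ (Set.toFinite _)).trans
        ((Set.ncard_insert_le _ _).trans (Nat.succ_le_succ
          ((Set.ncard_insert_le _ _).trans (by simp))))
      rintro d ⟨⟨ψ, rfl⟩, -⟩
      exact hcd ψ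
    · exact three_degrees_gcd hp hcd' h1 hk h3 h2
    · exact three_degrees_gcd hp hcd h1 hk h2 h3
    · have h4 : commutator G ≤ ⁅N, N⁆ := commutator_le_of_forall_charDegree_eq_one fun χ hχ => by
        obtain ⟨θ, hθ⟩ := χ.exists_under N
        have h5 := charDegree_eq_ordCompl_of_over hp h1 hk _ hθ
        have h6 : charDegree θ.1 = 1 := θ.charDegree_eq_one_iff_commutator_le.2 (by
          refine le_trans ?_ ((χ.isCharacter.res N).charKer_le_of_constituent θ hθ)
          rw [χ.isCharacter.charKer_res, commutator_def, Subgroup.commutator_le]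
          intro a _ b _
          exact hχ (Subgroup.commutator_mem_commutator a.2 b.2))
        rcases hcd χ with h | h | h
        · exact h
        · rw [h, h6] at h5; exact absurd h5.symm h2
        · rw [h, h6] at h5; exact absurd h5.symm h3
      have h5 : N ≠ ⊤ := by
        rintro rfl
        obtain ⟨χ, hχ⟩ := exists_irr_not_le_charKer hab
        rw [← χ.charDegree_eq_one_iff_commutator_le] at hχ
        rw [Subgroup.card_top] at h1
        refine h1 (dvd_trans ?_ χ.charDegree_dvd_card)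
        rcases hcd χ with h | h | h
        · exact absurd h hχ
        · exact h ▸ hpm
        · exact h ▸ hpn
      have h6 := congrArg (Subgroup.map N.subtype) (ih N (card_lt_of_ne_top h5) hcdN)
      rw [derivedSeries_succ, derivedSeries_succ, derivedSeries_one, Subgroup.map_commutator,
        Subgroup.map_commutator, Subgroup.map_subtype_commutator, Subgroup.map_bot] at h6
      rw [derivedSeries_succ, derivedSeries_succ, derivedSeries_one, eq_bot_iff, ← h6]
      exact Subgroup.commutator_mono (Subgroup.commutator_mono h4 h4)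
        (Subgroup.commutator_mono h4 h4)

/-- if `χ_H` is irreducible and no constituent of `(χ_H)^G` has larger degree then `χ` vanishes on
`H` off the core of `H` -/
theorem IrrCharacter.mem_normalCore_of_forall_over (χ : IrrCharacter G) {H : Subgroup G}
    [Fintype H] {θ : IrrCharacter H} (hθ : ∀ h : H, χ.1 h = θ.1 h)
    (h : ∀ ψ : IrrCharacter G, classInner (fun h : H => ψ.1 h) θ.1 ≠ 0 →
      charDegree ψ.1 ≤ charDegree θ.1) {x : G} (hx : x ∈ H) (hx0 : χ.1 x ≠ 0) :
    x ∈ H.normalCore := by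
  have := Fintype.ofFinite G
  have h1 : ∀ y : H, indFun H θ.1 y = (∑ ψ : IrrCharacter G,
      classInner θ.1 (fun h : H => ψ.1 h)) * θ.1 y := fun y => by
    rw [indFun_eq_sum_irr, Finset.sum_mul]
    refine Finset.sum_congr rfl fun ψ _ => ?_
    by_cases h2 : classInner (fun h : H => ψ.1 h) θ.1 = 0
    · rw [← conj_classInner, h2, map_zero, zero_mul, zero_mul]
    · rw [← congrFun ((ψ.isCharacter.res H).eq_of_constituent_of_charDegree_eq θ h2
        (by rw [charDegree_res]; exact h ψ h2)) y]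
  have h2 := h1 1
  rw [OneMemClass.coe_one, indFun_one, mul_left_inj' θ.one_ne_zero] at h2
  have h3 := h1 ⟨x, hx⟩
  rw [← h2, ← funext hθ, indFun_res _ χ.isClassFunction,
    Pi.mul_apply, mul_comm, mul_left_inj' hx0] at h3
  have h4 := (IsCharacter.one.indFun_apply_eq_one_iff (H := H)
    (fun h0 => _root_.one_ne_zero (congrFun h0 1)) x).1 (by rw [h3, indFun_one, mul_one])
  exact fun g => (h4 g).1

/-- Broline–Garrison: if no constituent of `(χ_H)^G` has larger degree then `χ` vanishes on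
`H` off the core of `H` -/
theorem IrrCharacter.exists_lt_or_vanish (χ : IrrCharacter G) {H : Subgroup G} (hH : IsCoatom H)
    (hK : ¬ charKer χ.1 ≤ H) :
    (∃ ψ : IrrCharacter G, charDegree χ.1 < charDegree ψ.1 ∧ charKer ψ.1 < charKer χ.1) ∨
      ∀ h ∈ H, χ.1 h ≠ 0 → h ∈ H.normalCore := by
  classical
  have := Fintype.ofFinite G
  have hirr : ∀ ψ : IrrCharacter G, ¬ charKer ψ.1 ≤ H →
      IsIrrCharacter H (fun h : H => ψ.1 h) := fun ψ hψ => by
    have h1 : H ⊔ charKer ψ.1 = ⊤ :=
      hH.2 _ (lt_of_le_of_ne le_sup_left fun h => hψ (h ▸ le_sup_right))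
    have h2 := (ψ.deflate _ le_rfl).2.comp_surjective
      ((QuotientGroup.mk' (charKer ψ.1)).comp H.subtype) (by
        rw [← MonoidHom.range_eq_top, MonoidHom.range_comp, Subgroup.range_subtype,
          map_mk_eq_top_iff, h1])
    simpa using h2
  let θ : IrrCharacter H := ⟨_, hirr χ hK⟩
  have hθ : charDegree θ.1 = charDegree χ.1 := charDegree_res _ _
  by_cases h : ∃ ψ : IrrCharacter G, classInner (fun h : H => ψ.1 h) θ.1 ≠ 0 ∧
      charDegree χ.1 < charDegree ψ.1
  · obtain ⟨ψ, h1, h2⟩ := h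
    have h3 : charKer ψ.1 ≤ H := by_contra fun h3 => by
      have h4 := IrrCharacter.eq_of_classInner_ne_zero (χ := ⟨_, hirr ψ h3⟩) h1
      have h5 := congrArg (fun η : IrrCharacter H => charDegree η.1) h4
      simp only [charDegree_res] at h5
      omega
    have h4 := (ψ.isCharacter.res H).charKer_le_of_constituent θ h1
    change _ ≤ charKer (fun h : H => χ.1 h) at h4
    rw [ψ.isCharacter.charKer_res, χ.isCharacter.charKer_res] at h4
    exact Or.inl ⟨ψ, h2, lt_of_le_of_ne (fun g hg => h4 (x := ⟨g, h3 hg⟩) hg)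
      fun h5 => hK (h5 ▸ h3)⟩
  · push Not at h
    exact Or.inr fun x hx hx0 => χ.mem_normalCore_of_forall_over (θ := θ) (fun _ => rfl)
      (fun ψ hψ => hθ ▸ h ψ hψ) hx hx0

/-- Frattini argument: a Sylow subgroup of `L` inside the core of `H ≥ N(Q)` forces `H = G` -/
theorem eq_top_of_sylowIn_le_normalCore {p : ℕ} [Fact p.Prime] {L Q H : Subgroup G} [L.Normal]
    (hQL : Q ≤ L) (hQ : IsPGroup p Q) (hQi : ¬ p ∣ Q.relIndex L)
    (hH : Subgroup.normalizer (Q : Set G) ≤ H) (h : Q ≤ H.normalCore) : H = ⊤ := by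
  have h1 := frattini_argument (N := L ⊓ H.normalCore) (le_inf hQL h) hQ fun hd =>
    hQi (hd.trans (Dvd.intro _ (Subgroup.relIndex_mul_relIndex _ _ _ (le_inf hQL h) inf_le_left)))
  exact top_le_iff.1 (h1 ▸ sup_le (inf_le_right.trans H.normalCore_le) hH)

/-- Isaacs 12.19 (a) -/
theorem IrrCharacter.exists_lt_of_not_le_fitting (χ : IrrCharacter G)
    (h : ¬ charKer χ.1 ≤ fittingSubgroup G) :
    ∃ ψ : IrrCharacter G, charDegree χ.1 < charDegree ψ.1 ∧ charKer ψ.1 < charKer χ.1 := by
  have h1 : ¬ Group.IsNilpotent (charKer χ.1) := fun h1 => h (le_fittingSubgroup inferInstance h1)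
  rw [isNilpotent_iff_forall_sylow_normal] at h1
  push Not at h1
  obtain ⟨p, hp, P, hP⟩ := h1
  have hQ := sylow_map_subtype_isPGroup P
  have hQi := sylow_map_subtype_not_dvd_relIndex P
  have hQL := Subgroup.map_subtype_le (P : Subgroup (charKer χ.1))
  have h2 : Subgroup.normalizer ((P : Subgroup (charKer χ.1)).map (charKer χ.1).subtype : Set G) ≠
      ⊤ := fun h2 => hP (by
    have h3 := (Subgroup.normalizer_eq_top_iff.1 h2).subgroupOf (charKer χ.1)
    rwa [← Subgroup.comap_subtype, Subgroup.comap_map_eq_self_of_injective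
      (Subgroup.subtype_injective _)] at h3)
  obtain ⟨H, hH, hle⟩ := (eq_top_or_exists_le_coatom _).resolve_left h2
  refine (χ.exists_lt_or_vanish hH fun h3 => hH.1 ?_).resolve_right fun h3 => hH.1 ?_
  · exact top_le_iff.1 (frattini_argument hQL hQ hQi ▸ sup_le h3 hle)
  · refine eq_top_of_sylowIn_le_normalCore hQL hQ hQi hle fun x hx =>
      h3 x (hle (Subgroup.le_normalizer hx)) ?_
    rw [χ.mem_charKer.1 (hQL hx)]; exact χ.one_ne_zero

/-- Isaacs 12.19 (b) -/
theorem IrrCharacter.exists_lt_of_eq_fitting (χ : IrrCharacter G)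
    (h : charKer χ.1 = fittingSubgroup G) (hs : Group.IsSolvable (G ⧸ charKer χ.1))
    (hK : charKer χ.1 ≠ ⊤) :
    ∃ ψ : IrrCharacter G, charDegree χ.1 < charDegree ψ.1 ∧ charKer ψ.1 < charKer χ.1 := by
  classical
  have := Fintype.ofFinite G
  set K := charKer χ.1 with hKdef
  obtain ⟨L, hL, hKL, -, hchief⟩ := exists_chiefFactor_above (N := K) (L := ⊤) inferInstance
    inferInstance (lt_top_iff_ne_top.2 hK)
  obtain ⟨p, hp, hE⟩ := (isMinNormal_map_mk_of_chief hL hKL hchief).exists_isElementaryAbelian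
    inferInstance
  have : Fact p.Prime := ⟨hp⟩
  obtain ⟨Q, -, hQL, hQ, hQi⟩ := exists_le_sylowIn (p := p) (H := L) IsPGroup.of_bot bot_le
  have hKQ : K ⊔ Q = L := by
    refine le_antisymm (sup_le hKL.le hQL) (Subgroup.relIndex_eq_one.1 ?_)
    obtain ⟨k, hk⟩ := IsPGroup.iff_card.1 hE.isPGroup
    rw [card_map_mk] at hk
    exact Nat.eq_one_of_dvd_coprimes
      (((Nat.Prime.coprime_iff_not_dvd hp).2 hQi).pow_left k)
      (hk ▸ Subgroup.relIndex_dvd_of_le_left _ le_sup_left)
      (Subgroup.relIndex_dvd_of_le_left _ le_sup_right)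
  have h2 : Subgroup.normalizer (Q : Set G) ≠ ⊤ := fun h2 => by
    have h3 := le_fittingSubgroup (Subgroup.normalizer_eq_top_iff.1 h2) hQ.isNilpotent
    exact hKL.not_ge (hKQ ▸ sup_le le_rfl (h ▸ h3))
  obtain ⟨H, hH, hle⟩ := (eq_top_or_exists_le_coatom _).resolve_left h2
  have hQH : Q ≤ H := Subgroup.le_normalizer.trans hle
  refine (χ.exists_lt_or_vanish hH fun h3 => hH.1 ?_).resolve_right fun h3 => ?_
  · exact top_le_iff.1 (frattini_argument hQL hQ hQi ▸ sup_le (hKQ ▸ sup_le h3 hQH) hle)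
  have h4 : ∀ x ∈ L, x ∉ K → χ.1 x = 0 := fun x hx hxK => by
    obtain ⟨k, hk, y, hy, rfl⟩ := mem_sup_normal_left.1 (hKQ ▸ hx)
    rw [apply_mul_of_mem_charKer hk]
    by_contra h5
    have h6 := h3 y (hQH hy) h5
    have h7 : K ⊔ L ⊓ H.normalCore = L :=
      (hchief _ inferInstance le_sup_left (sup_le hKL.le inf_le_left)).resolve_left fun h7 =>
        hxK (K.mul_mem hk (h7 ▸ Subgroup.mem_sup_right ⟨hQL hy, h6⟩))
    have h8 : H.normalCore.relIndex L = H.normalCore.relIndex K := by
      rw [← Subgroup.relIndex_sup_right L, ← Subgroup.relIndex_sup_right K]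
      congr 1
      exact le_antisymm (sup_le (h7.ge.trans (sup_le_sup_left inf_le_right _)) le_sup_right)
        (sup_le_sup_right hKL.le _)
    have h9 : ¬ p ∣ H.normalCore.relIndex K := fun hd => by
      have h10 : (Q ⊓ K).relIndex K ∣ Q.relIndex L := by
        have h11 := relIndex_dvd_index_of_normal_right (Q.subgroupOf L) (K.subgroupOf L)
        rwa [Subgroup.relIndex_subgroupOf hKL.le, ← Subgroup.inf_relIndex_right] at h11
      refine hQi (hd.trans ((Subgroup.relIndex_dvd_of_le_left _ fun z hz => ?_).trans h10))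
      refine h3 z (hQH hz.1) ?_
      rw [χ.mem_charKer.1 hz.2]; exact χ.one_ne_zero
    refine hH.1 (eq_top_of_sylowIn_le_normalCore hQL hQ hQi hle fun z hz => ?_)
    exact le_of_coprime_card_index (H := Q.subgroupOf L) (N := H.normalCore.subgroupOf L)
      (coprime_card_of_isPGroup (isPGroup_subgroupOf hQ L) (by rw [← h8] at h9; exact h9))
      (x := ⟨z, hQL hz⟩) hz
  have h5 : ¬ L ≤ K := hKL.not_ge
  have h6 := χ.sum_coset_eq_zero L h5 1
  rw [← Finset.sum_filter_add_sum_filter_not _ (fun n : L => (n : G) ∈ K),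
    Finset.sum_eq_zero (s := Finset.univ.filter fun n : L => ¬ (n : G) ∈ K)
      (fun n hn => by rw [one_mul]; exact h4 n n.2 (Finset.mem_filter.1 hn).2), add_zero,
    Finset.sum_congr rfl (g := fun _ => χ.1 1) (fun n hn => by
      rw [one_mul]; exact χ.mem_charKer.1 (Finset.mem_filter.1 hn).2),
    Finset.sum_const, nsmul_eq_mul] at h6
  refine mul_ne_zero ?_ χ.one_ne_zero h6
  exact_mod_cast Finset.card_ne_zero.2 ⟨1, by simp⟩

/-- a normal subgroup with nonabelian quotient has at most half the largest degree -/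
theorem two_mul_charDegree_le_of_not_commutator_le {b : ℕ}
    (hb : ∀ χ : IrrCharacter G, charDegree χ.1 ≤ b) {K : Subgroup G} [K.Normal]
    (hK : ¬ commutator G ≤ K) (θ : IrrCharacter K) : 2 * charDegree θ.1 ≤ b := by
  classical
  have := Fintype.ofFinite G
  obtain ⟨χ, hχ⟩ := θ.exists_over
  obtain ⟨e, he⟩ := clifford_charDegree_dvd χ hχ
  have h1 := hb χ
  have h2 := χ.charDegree_pos
  by_cases h3 : 2 ≤ e
  · nlinarith
  obtain rfl : e = 1 := by
    rcases e with _ | e
    · omega
    · omega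
  have hext := IrrCharacter.extends_of_charDegree_le χ.isCharacter hχ (by omega)
  obtain ⟨β, hβ⟩ : ∃ β : IrrCharacter G, K ≤ charKer β.1 ∧ charDegree β.1 ≠ 1 := by
    by_contra h
    push Not at h
    exact hK (commutator_le_of_forall_charDegree_eq_one h)
  have h4 := hb ⟨_, gallagher_isIrr χ.isCharacter (isIrr_res_of_extends hext) (β.deflate K hβ.1)⟩
  simp only [IrrCharacter.deflate_apply] at h4
  rw [show (fun g => β.1 g * χ.1 g) = β.1 * χ.1 from rfl,
    β.isCharacter.charDegree_mul χ.isCharacter] at h4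
  have h5 := β.charDegree_pos
  have h6 : 2 ≤ charDegree β.1 := by have := hβ.2; omega
  nlinarith

/-- an extension of a character of `Z(χ)` has irreducible product with `χ` -/
theorem IrrCharacter.isIrr_mul_of_res_charCenter (χ β : IrrCharacter G)
    (h : IsIrrCharacter (charCenter χ.1) (fun z : charCenter χ.1 => β.1 z)) :
    IsIrrCharacter G (χ.1 * β.1) := by
  have := Fintype.ofFinite (charCenter χ.1)
  obtain ⟨l, -, hl, -⟩ := χ.isCharacter.exists_hom_of_le_charCenter
    (fun h => χ.one_ne_zero (congrFun h 1)) le_rfl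
  exact isaacs616_isIrr (φ := IrrCharacter.ofHom l) (θ := ⟨_, h⟩)
    (charInertia_eq_top_of_res_eq χ.isClassFunction χ.one_ne_zero hl)
    (h.mul_of_charDegree_eq_one (IrrCharacter.ofHom l).isCharacter
      (IrrCharacter.charDegree_ofHom l)) β.isCharacter (fun _ => rfl) χ
    (by rw [classInner_res_of_eq_mul hl]; exact χ.one_ne_zero)

/-- some nontrivial class has size at most the square of the largest degree -/
theorem exists_index_centralizer_le_sq [Nontrivial G] {b : ℕ}
    (hb : ∀ χ : IrrCharacter G, charDegree χ.1 ≤ b) :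
    ∃ x : G, x ≠ 1 ∧ (Subgroup.centralizer ({x} : Set G)).index ≤ b ^ 2 := by
  classical
  have := Fintype.ofFinite G
  have := Fintype.ofFinite (ConjClasses G)
  by_contra h
  push Not at h
  have h1 := sum_charDegree_sq (G := G)
  rw [← Finset.add_sum_erase _ _ (Finset.mem_univ (IrrCharacter.triv G)),
    IrrCharacter.charDegree_triv] at h1
  have h2 := Finset.sum_le_card_nsmul (Finset.univ.erase (IrrCharacter.triv G))
    (fun χ => charDegree χ.1 ^ 2) (b ^ 2) fun χ _ => Nat.pow_le_pow_left (hb χ) 2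
  have h3 := sum_eq_sum_conjClasses (G := G) (fun _ => (1 : ℕ)) fun _ _ => rfl
  simp only [smul_eq_mul, mul_one, Finset.sum_const, Finset.card_univ] at h3
  rw [← Finset.add_sum_erase _ _ (Finset.mem_univ (ConjClasses.mk (1 : G)))] at h3
  have h4 := Finset.card_nsmul_le_sum (Finset.univ.erase (ConjClasses.mk (1 : G)))
    (fun K => (Subgroup.centralizer ({Quotient.out K} : Set G)).index) (b ^ 2 + 1) fun K hK =>
      h _ fun h5 => (Finset.mem_erase.1 hK).1 (by rw [← h5]; exact (Quotient.out_eq K).symm)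
  have h5 := card_irrCharacter (G := G)
  rw [Finset.card_erase_of_mem (Finset.mem_univ _), Finset.card_univ,
    ← Nat.card_eq_fintype_card, smul_eq_mul] at h2 h4
  rw [← h5] at h4
  have h6 : 0 < (Subgroup.centralizer ({Quotient.out (ConjClasses.mk (1 : G))} : Set G)).index :=
    Nat.pos_of_ne_zero Subgroup.index_ne_zero_of_finite
  have h7 : 1 < Nat.card G := Finite.one_lt_card
  rw [← Nat.card_eq_fintype_card] at h3
  generalize Nat.card (IrrCharacter G) - 1 = k at h2 h4
  rcases k with _ | k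
  · omega
  · nlinarith

end Cfsg
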