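import Mathlib
import Cfsg.Prelude.Def_DegreeGraph
import Cfsg.Agent.CT.Degrees2

/-! Character degree graphs: the dichotomy for solvable groups and relative degree graphs. -/

set_option autoImplicit false

namespace Cfsg

open scoped ComplexConjugate Pointwise commutatorElement

universe u v w

theorem card_connectedComponent_le_two {V : Type*} (Γ : SimpleGraph V) (A : V → Prop)
    (h1 : ∀ a b, A a → A b → Γ.Reachable a b) (h2 : ∀ a b, ¬ A a → ¬ A b → Γ.Reachable a b) :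
    Nat.card Γ.ConnectedComponent ≤ 2 := by
  let f : Γ.ConnectedComponent → Prop := fun c => ∃ v, Γ.connectedComponentMk v = c ∧ A v
  have hf : Function.Injective f := by
    intro c d h
    induction c using SimpleGraph.ConnectedComponent.ind with | _ a => ?_
    induction d using SimpleGraph.ConnectedComponent.ind with | _ b => ?_
    by_cases hc : f (Γ.connectedComponentMk a)
    · obtain ⟨w, hw, hw'⟩ := h ▸ hc
      obtain ⟨v, hv, hv'⟩ := hc
      rw [← hv, ← hw]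
      exact SimpleGraph.ConnectedComponent.sound (h1 _ _ hv' hw')
    · exact SimpleGraph.ConnectedComponent.sound (h2 _ _ (fun ha => hc ⟨a, rfl, ha⟩)
        (fun hb => hc (h ▸ ⟨b, rfl, hb⟩)))
  simpa using Nat.card_le_card_of_injective f hf

variable {G : Type u} [Group G] [Finite G]

/-- the basic dichotomy for degrees of a solvable nonabelian group -/
theorem exists_degree_dichotomy (hs : Group.IsSolvable G) (hna : commutator G ≠ ⊥) :
    ∃ r f : ℕ, r.Prime ∧ 1 < f ∧ (∃ ξ : IrrCharacter G, charDegree ξ.1 = f) ∧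
      (∀ q : ℕ, q.Prime → q ∣ f → q ∣ (commutator G).index) ∧
      ∀ χ : IrrCharacter G, ∃ e d : ℕ, charDegree χ.1 = e * d ∧ e ∣ f ∧
        ((∃ ξ : IrrCharacter G, charDegree ξ.1 = f * d) ∨ r ∣ d) := by
  classical
  have := Fintype.ofFinite G
  obtain ⟨K, hK, -, h1, h2⟩ := exists_maximal_nonabelian_quotient (D := (⊥ : Subgroup G))
    (fun h => hna (le_bot_iff.1 h))
  obtain ⟨p, hp, ⟨⟨k, hk⟩, ξ, h3, h4, -⟩ | ⟨N, hN, hKN, h3, h4, ⟨k, hk⟩, -, h5, h6, ξ, -, h7⟩⟩ :=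
    minimal_nonabelian_quotient_structure h1 h2 inferInstance
  · haveI := Fact.mk hp
    have h5 : charDegree ξ.1 ∣ p ^ k := hk ▸ ξ.charDegree_dvd_index_of_le
      (h3.trans (charKer_le_charCenter _))
    refine ⟨p, charDegree ξ.1, hp, lt_of_le_of_ne ξ.charDegree_pos (Ne.symm h4), ⟨ξ, rfl⟩,
      fun q hq hqf => ?_, fun χ => ⟨1, charDegree χ.1, (one_mul _).symm, one_dvd _, ?_⟩⟩
    · obtain rfl : q = p := (Nat.prime_dvd_prime_iff_eq hq hp).1 (hq.dvd_of_dvd_pow (hqf.trans h5))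
      have hQ : IsPGroup q (G ⧸ K) := isPGroup_quotient_iff_index.2 ⟨k, hk⟩
      have hKt : K ≠ ⊤ := fun h => h1 (h ▸ le_top)
      obtain ⟨M, hM, hKM, hMp⟩ := exists_normal_prime_index_ge hKt (isSolvable_of_isPGroup hQ)
      have h6 : M.index ∣ q ^ k := hk ▸ Subgroup.index_dvd_of_le hKM
      have h7 : M.index = q := (Nat.prime_dvd_prime_iff_eq hMp hq).1 (hMp.dvd_of_dvd_pow h6)
      have := isCyclic_quotient_of_prime_index hMp
      have h8 : commutator G ≤ M := by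
        rw [← Subgroup.Normal.quotient_commutative_iff_commutator_le]
        exact IsCyclic.isMulCommutative
      exact h7 ▸ Subgroup.index_dvd_of_le h8
    · by_cases hd : p ∣ charDegree χ.1
      · exact Or.inr hd
      · refine Or.inl ⟨⟨_, gallagher_isIrr χ.isCharacter (isIrr_res_of_index_pow hp hk χ hd)
          (ξ.deflate K h3)⟩, ?_⟩
        simp only [IrrCharacter.deflate_apply]
        exact ξ.isCharacter.charDegree_mul χ.isCharacter
  · refine ⟨p, N.index, hp, ?_, ⟨ξ, h7⟩, fun q _ hq => hq.trans (Subgroup.index_dvd_of_le h3),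
      fun χ => ?_⟩
    · exact Nat.one_lt_iff_ne_zero_and_ne_one.2 ⟨Subgroup.index_ne_zero_of_finite,
        fun h => h5 (Subgroup.index_eq_one.1 h)⟩
    · obtain ⟨ψ, hψ⟩ := χ.exists_under N
      obtain ⟨e, he, he'⟩ := exists_charDegree_eq_mul_dvd_index χ hψ
      refine ⟨e, _, he, he', (frobenius_section_degree h4 h6 ψ).imp id fun h => ?_⟩
      rw [hk] at h
      exact hp.dvd_of_dvd_pow ((dvd_pow_self p k.succ_ne_zero).trans h)

section uh

variable {H : Type v} [Group H]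

theorem uh_pow_mul (l : H →* ℂˣ) (m n : ℕ) : l ^ (m * n) = (l ^ m) ^ n := pow_mul l m n
theorem uh_mul_pow (l l' : H →* ℂˣ) (n : ℕ) : (l * l') ^ n = l ^ n * l' ^ n := mul_pow l l' n
theorem uh_one_pow (n : ℕ) : (1 : H →* ℂˣ) ^ n = 1 := one_pow (M := H →* ℂˣ) n
theorem uh_inv_pow (l : H →* ℂˣ) (n : ℕ) : l⁻¹ ^ n = (l ^ n)⁻¹ := inv_pow l n
theorem uh_mul_comm (l l' : H →* ℂˣ) : l * l' = l' * l := mul_comm l l'
theorem uh_mul_one (l : H →* ℂˣ) : l * 1 = l := mul_one l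
theorem uh_one_mul (l : H →* ℂˣ) : 1 * l = l := one_mul l
theorem uh_inv_one : (1 : H →* ℂˣ)⁻¹ = 1 := inv_one (G := H →* ℂˣ)
theorem uh_inv_mul_cancel_right (l l' : H →* ℂˣ) : l * l'⁻¹ * l' = l := inv_mul_cancel_right l l'

end uh

section orbit

omit [Finite G]

theorem smul_pow_index_eq_of_coprime [Finite G] {V : Type v} [CommGroup V]
    [MulDistribMulAction G V] (x y : V)
    (h1 : (MulAction.stabilizer G y).index.Coprime (MulAction.stabilizer G x).index)
    (h2 : (MulAction.stabilizer G y).index.Coprime (MulAction.stabilizer G (x * y)).index)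
    (g : G) : g • y ^ (MulAction.stabilizer G x).index = y ^ (MulAction.stabilizer G x).index := by
  classical
  have := Fintype.ofFinite G
  have hinv : ∀ z : V, g • ∏ a ∈ Finset.univ.image (fun h : G => h • z), a =
      ∏ a ∈ Finset.univ.image (fun h : G => h • z), a := by
    intro z
    rw [Finset.smul_prod']
    refine Finset.prod_bij (fun a _ => g • a) (fun a ha => ?_) (fun a _ b _ h => ?_)
      (fun b hb => ?_) (fun _ _ => rfl)
    · obtain ⟨h, -, rfl⟩ := Finset.mem_image.1 ha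
      exact Finset.mem_image.2 ⟨g * h, Finset.mem_univ _, mul_smul _ _ _⟩
    · exact MulAction.injective g h
    · obtain ⟨h, -, rfl⟩ := Finset.mem_image.1 hb
      exact ⟨g⁻¹ • h • z, Finset.mem_image.2 ⟨g⁻¹ * h, Finset.mem_univ _, mul_smul _ _ _⟩,
        smul_inv_smul _ _⟩
  have h3 : Finset.univ.image (fun h : G => h • (x * y)) =
      (Finset.univ.image (fun h : G => h • x)).image (· * y) := by
    ext z
    simp only [Finset.mem_image, Finset.mem_univ, true_and, exists_exists_eq_and]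
    constructor
    · rintro ⟨h, rfl⟩
      obtain ⟨a, ha, b, hb, rfl⟩ := exists_mul_eq_of_coprime_index h2 h
      refine ⟨a, ?_⟩
      rw [mul_smul, MulAction.mem_stabilizer_iff.1 hb, smul_mul', MulAction.mem_stabilizer_iff.1 ha]
    · rintro ⟨h, rfl⟩
      obtain ⟨a, ha, b, hb, rfl⟩ := exists_mul_eq_of_coprime_index h1 h
      refine ⟨a, ?_⟩
      rw [mul_smul, MulAction.mem_stabilizer_iff.1 hb, smul_mul', MulAction.mem_stabilizer_iff.1 ha]
  have h4 : (Finset.univ.image (fun h : G => h • x)).card = (MulAction.stabilizer G x).index := by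
    rw [MulAction.index_stabilizer, ← Set.ncard_coe_finset]
    congr 1
    ext z
    simp [MulAction.mem_orbit_iff]
  have h5 := hinv (x * y)
  rw [h3, Finset.prod_image (fun a _ b _ h => mul_right_cancel h), Finset.prod_mul_distrib,
    Finset.prod_const, h4, smul_mul', hinv x] at h5
  exact mul_left_cancel h5

end orbit

section rel

variable {N : Subgroup G} [hN : N.Normal]

/-- conjugation action on linear characters of a normal subgroup -/
@[reducible] def linConj (N : Subgroup G) [N.Normal] : MulDistribMulAction G (N →* ℂˣ) where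
  smul g l := l.comp (MulAut.conjNormal g⁻¹ : MulAut N).toMonoidHom
  one_smul l := by
    ext n
    change ((l (MulAut.conjNormal (1 : G)⁻¹ n) : ℂˣ) : ℂ) = _
    simp
  mul_smul g h l := by
    ext n
    change ((l (MulAut.conjNormal (g * h)⁻¹ n) : ℂˣ) : ℂ) =
      ((l (MulAut.conjNormal h⁻¹ (MulAut.conjNormal g⁻¹ n)) : ℂˣ) : ℂ)
    rw [mul_inv_rev, map_mul]
    rfl
  smul_mul g l l' := rfl
  smul_one g := rfl

/-- stabilizer of a linear character of a normal subgroup -/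
def linStab (l : N →* ℂˣ) : Subgroup G := @MulAction.stabilizer G _ _ (linConj N).toMulAction l

omit [Finite G] in
theorem mem_linStab {l : N →* ℂˣ} {g : G} :
    g ∈ linStab l ↔ ∀ n : N, l (MulAut.conjNormal g⁻¹ n) = l n :=
  MonoidHom.ext_iff

omit [Finite G] in
theorem linStab_le_pow (l : N →* ℂˣ) (k : ℕ) : linStab l ≤ linStab (l ^ k) := fun g hg => by
  rw [mem_linStab] at hg ⊢
  intro n
  simp only [MonoidHom.pow_apply, hg n]

omit [Finite G] in
theorem inf_linStab_le_mul (l l' : N →* ℂˣ) : linStab l ⊓ linStab l' ≤ linStab (l * l') := by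
  rintro g ⟨hg, hg'⟩
  rw [mem_linStab]
  intro n
  simp only [MonoidHom.mul_apply, mem_linStab.1 hg n, mem_linStab.1 hg' n]

theorem detHom_smul_apply (θ : IrrCharacter N) (g : G) (n : N) :
    detHom (g • θ).1 n = detHom θ.1 (MulAut.conjNormal g⁻¹ n) := by
  have := θ.isCharacter.detHom_comp (MulAut.conjNormal g⁻¹ : MulAut N).toMonoidHom
  have h2 : (g • θ).1 = fun x => θ.1 ((MulAut.conjNormal g⁻¹ : MulAut N).toMonoidHom x) := by
    funext x
    rw [IrrCharacter.smul_val, conjChar, map_inv]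
    rfl
  rw [h2, this]
  rfl

theorem charInertia_le_linStab_detHom (θ : IrrCharacter N) :
    charInertia θ.1 ≤ linStab (detHom θ.1) := fun g hg => by
  rw [mem_linStab]
  intro n
  rw [← detHom_smul_apply, IrrCharacter.mem_charInertia_iff.1 hg]

/-- the `p`-part of the determinant (up to a fixed unit exponent) -/
noncomputable def pDet (p : ℕ) (θ : IrrCharacter N) : N →* ℂˣ :=
  detHom θ.1 ^ ordCompl[p] (Nat.card G)

/-- linear characters of `p`-power order -/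
def IsPLin (p : ℕ) (l : N →* ℂˣ) : Prop := l ^ ordProj[p] (Nat.card G) = 1

open Classical in
/-- the label of a linear character -/
noncomputable def linLabel (p : ℕ) (l : N →* ℂˣ) : ℕ :=
  if linStab l = ⊤ then p else (linStab l).index

omit hN in
theorem unitsHom_pow_card (l : N →* ℂˣ) : l ^ Nat.card G = 1 := by
  ext n
  obtain ⟨k, hk⟩ := Subgroup.card_subgroup_dvd_card N
  rw [MonoidHom.pow_apply, ← map_pow, hk, pow_mul, pow_card_eq_one', one_pow, map_one]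
  rfl

omit hN in
theorem isPLin_pow_ordCompl (p : ℕ) (l : N →* ℂˣ) :
    IsPLin p (l ^ ordCompl[p] (Nat.card G)) := by
  rw [IsPLin, ← uh_pow_mul, mul_comm, Nat.ordProj_mul_ordCompl_eq_self, unitsHom_pow_card]

omit hN in
theorem isPLin_pDet (p : ℕ) (θ : IrrCharacter N) : IsPLin p (pDet p θ) :=
  isPLin_pow_ordCompl p _

omit hN [Finite G] in
theorem IsPLin.mul {p : ℕ} {l l' : N →* ℂˣ} (h : IsPLin p l) (h' : IsPLin p l') :
    IsPLin p (l * l') := by
  rw [IsPLin] at *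
  rw [uh_mul_pow, h, h', uh_mul_one]

omit hN [Finite G] in
theorem IsPLin.pow {p : ℕ} {l : N →* ℂˣ} (h : IsPLin p l) (k : ℕ) : IsPLin p (l ^ k) := by
  rw [IsPLin] at *
  rw [← uh_pow_mul, mul_comm, uh_pow_mul, h, uh_one_pow]

omit hN [Finite G] in
theorem IsPLin.inv {p : ℕ} {l : N →* ℂˣ} (h : IsPLin p l) : IsPLin p l⁻¹ := by
  rw [IsPLin] at *
  rw [uh_inv_pow, h, uh_inv_one]

omit hN [Finite G] in
theorem IsPLin.exists_pow_eq {p : ℕ} (hp : p.Prime) {l : N →* ℂˣ} (h : IsPLin p l) {k : ℕ}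
    (hk : ¬ p ∣ k) : ∃ j, (l ^ k) ^ j = l := by
  have h1 : k.Coprime (orderOf l) := Nat.Coprime.coprime_dvd_right (orderOf_dvd_of_pow_eq_one h)
    ((hp.coprime_iff_not_dvd.2 hk).symm.pow_right _)
  exact exists_pow_eq_self_of_coprime h1

omit hN [Finite G] in
theorem IsPLin.eq_one_of_pow {p : ℕ} (hp : p.Prime) {l : N →* ℂˣ} (h : IsPLin p l) {k : ℕ}
    (hk : ¬ p ∣ k) (h1 : l ^ k = 1) : l = 1 := by
  obtain ⟨j, hj⟩ := h.exists_pow_eq hp hk
  rw [← hj, h1, uh_one_pow]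

omit hN in
theorem IsPLin.pow_ordCompl_eq_one {p q : ℕ} (hp : p.Prime) (hq : q.Prime) (hpq : p ≠ q)
    {l : N →* ℂˣ} (h : IsPLin p l) : l ^ ordCompl[q] (Nat.card G) = 1 := by
  obtain ⟨c, hc⟩ : ordProj[p] (Nat.card G) ∣ ordCompl[q] (Nat.card G) := by
    refine Nat.Coprime.dvd_of_dvd_mul_left (k := ordProj[p] (Nat.card G))
      (m := ordProj[q] (Nat.card G)) ?_ ?_
    · exact Nat.Coprime.pow _ _ ((Nat.coprime_primes hp hq).2 hpq)
    · rw [Nat.ordProj_mul_ordCompl_eq_self]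
      exact Nat.ordProj_dvd _ _
  rw [hc, uh_pow_mul, h, uh_one_pow]

omit hN in
theorem pDet_twist (p : ℕ) (θ : IrrCharacter N) (l : N →* ℂˣ) :
    pDet p (θ.twist l) = l ^ (charDegree θ.1 * ordCompl[p] (Nat.card G)) * pDet p θ := by
  have : detHom (θ.twist l).1 = l ^ charDegree θ.1 * detHom θ.1 :=
    θ.isCharacter.detHom_hom_mul l
  rw [pDet, pDet, this, uh_mul_pow, uh_pow_mul]

omit hN in
theorem exists_pDet_twist_eq {p : ℕ} (hp : p.Prime) (θ : IrrCharacter N)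
    (hθ : ¬ p ∣ charDegree θ.1) {ν : N →* ℂˣ} (hν : IsPLin p ν) :
    ∃ l, IsPLin p l ∧ pDet p (θ.twist l) = ν := by
  have h1 : IsPLin p (ν * (pDet p θ)⁻¹) := hν.mul (isPLin_pDet p θ).inv
  obtain ⟨j, hj⟩ := h1.exists_pow_eq hp (k := charDegree θ.1 * ordCompl[p] (Nat.card G))
    (fun h => ((Nat.Prime.dvd_mul hp).1 h).elim hθ (Nat.not_dvd_ordCompl hp Nat.card_pos.ne'))
  refine ⟨_, h1.pow j, ?_⟩
  rw [pDet_twist, ← uh_pow_mul, mul_comm j, uh_pow_mul, hj, uh_inv_mul_cancel_right]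

omit hN in
theorem pDet_twist_of_ne {p q : ℕ} (hp : p.Prime) (hq : q.Prime) (hpq : p ≠ q)
    (θ : IrrCharacter N) {l : N →* ℂˣ} (hl : IsPLin p l) : pDet q (θ.twist l) = pDet q θ := by
  rw [pDet_twist, mul_comm (charDegree _), uh_pow_mul, hl.pow_ordCompl_eq_one hp hq hpq,
    uh_one_pow, uh_one_mul]

omit hN in
theorem pDet_triv (p : ℕ) : pDet p (IrrCharacter.triv N) = 1 := by
  rw [pDet, ← IrrCharacter.ofHom_one]
  have : detHom (IrrCharacter.ofHom (1 : N →* ℂˣ)).1 = 1 := detHom_unitsHom 1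
  rw [this, uh_one_pow]

omit hN in
theorem exists_pDet_ne_one {θ : IrrCharacter N} (h1 : charDegree θ.1 = 1)
    (h : θ ≠ IrrCharacter.triv N) : ∃ q : ℕ, q.Prime ∧ pDet q θ ≠ 1 := by
  obtain ⟨l, rfl⟩ := θ.exists_eq_ofHom h1
  have h2 : detHom (IrrCharacter.ofHom l).1 = l := detHom_unitsHom l
  have h3 : orderOf l ≠ 1 := fun h3 => h (by rw [orderOf_eq_one_iff.1 h3, IrrCharacter.ofHom_one])
  refine ⟨_, Nat.minFac_prime h3, fun h4 => ?_⟩
  rw [pDet, h2] at h4
  exact Nat.not_dvd_ordCompl (Nat.minFac_prime h3) Nat.card_pos.ne'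
    ((Nat.minFac_dvd _).trans (orderOf_dvd_of_pow_eq_one h4))

theorem one_lt_linLabel {p : ℕ} (hp : p.Prime) (l : N →* ℂˣ) : 1 < linLabel p l := by
  unfold linLabel
  split_ifs with h
  · exact hp.one_lt
  · exact Nat.one_lt_iff_ne_zero_and_ne_one.2 ⟨Subgroup.index_ne_zero_of_finite,
      fun h1 => h (Subgroup.index_eq_one.1 h1)⟩

theorem linLabel_dvd [Fintype N] (hNG : N ≤ commutator G) {p : ℕ} (hp : p.Prime)
    {θ : IrrCharacter N} (h : pDet p θ ≠ 1) (χ : IrrCharacter G)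
    (hχ : classInner (fun n : N => χ.1 n) θ.1 ≠ 0) : linLabel p (pDet p θ) ∣ charDegree χ.1 := by
  classical
  have := Fintype.ofFinite G
  obtain ⟨e, -, -, h1, h2, -⟩ := clifford χ hχ
  unfold linLabel
  split_ifs with h3
  · by_contra h4
    refine h ((isPLin_pDet p θ).eq_one_of_pow hp (k := e * (charInertia θ.1).index)
      (fun h5 => h4 (h2 ▸ h5.mul_right _)) ?_)
    ext n
    have h5 : detChar (fun n : N => χ.1 n) n = 1 := by
      rw [χ.isCharacter.detChar_res, ← coe_detHom,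
        mem_commutator_iff_forall_unitsHom.1 (hNG n.2) (detHom χ.1), Units.val_one]
    have h6 : (fun n : N => χ.1 n) = fun x => ∑ φ ∈ irrFinset (MulAction.orbit G θ),
        ((e : ℕ) : ℂ) * φ.1 x := by
      funext x
      rw [h1, Finset.mul_sum]
    rw [h6, IsCharacter.detChar_sum_nsmul _ (fun _ => e) (fun φ _ => φ.isCharacter)] at h5
    have h7 := congrArg (· ^ ordCompl[p] (Nat.card G)) h5
    simp only [one_pow] at h7
    rw [← Finset.prod_pow, Finset.prod_congr rfl (g := fun _ => ((pDet p θ n : ℂˣ) : ℂ) ^ e),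
      Finset.prod_const, IrrCharacter.card_irrFinset_orbit, ← pow_mul] at h7
    · simpa using h7
    · intro φ hφ
      obtain ⟨g, rfl⟩ := mem_irrFinset.1 hφ
      have h8 := mem_linStab.1 (h3 ▸ Subgroup.mem_top g : g ∈ linStab (pDet p θ)) n
      rw [← pow_mul, mul_comm, pow_mul, ← h8, ← coe_detHom]
      congr 1
      simp only [detHom_smul_apply, pDet, MonoidHom.pow_apply, Units.val_pow_eq_pow_val]
  · rw [h2]
    exact ((Subgroup.index_dvd_of_le ((charInertia_le_linStab_detHom θ).trans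
      (linStab_le_pow _ _))).mul_left e).mul_right _

theorem mem_relCharDegrees_of_over [Fintype N] {θ : IrrCharacter N} (h : θ ≠ IrrCharacter.triv N)
    {χ : IrrCharacter G} (hχ : classInner (fun n : N => χ.1 n) θ.1 ≠ 0) :
    charDegree χ.1 ∈ relCharDegrees N := by
  refine ⟨χ, ?_, rfl⟩
  by_contra h1
  push Not at h1
  have h2 : classInner (fun n : N => χ.1 n) (IrrCharacter.triv N).1 ≠ 0 :=
    (IrrCharacter.over_triv_iff χ).2 h1
  have := Fintype.ofFinite G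
  obtain ⟨g, hg⟩ := clifford_exists_smul χ h2 hχ
  exact h (by rw [← hg, IrrCharacter.smul_triv])

omit hN in
theorem exists_under_of_mem_relCharDegrees [N.Normal] [Fintype N] {a : ℕ}
    (ha : a ∈ relCharDegrees N) : ∃ (χ : IrrCharacter G) (θ : IrrCharacter N),
      charDegree χ.1 = a ∧ θ ≠ IrrCharacter.triv N ∧
        classInner (fun n : N => χ.1 n) θ.1 ≠ 0 := by
  obtain ⟨χ, ⟨x, hx, h1⟩, rfl⟩ := ha
  obtain ⟨θ, hθ⟩ := χ.exists_under N
  refine ⟨χ, θ, rfl, ?_, hθ⟩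
  rintro rfl
  have := Fintype.ofFinite G
  exact h1 ((IrrCharacter.over_triv_iff χ).1 hθ x hx)

/-- twisting `θ` of `p'`-degree to get a prescribed `p`-determinant -/
theorem exists_relDegree_twist (hNG : N ≤ commutator G) {p : ℕ} (hp : p.Prime)
    (θ : IrrCharacter N) (hθ : ¬ p ∣ charDegree θ.1) {ν : N →* ℂˣ} (hν : IsPLin p ν)
    (hν1 : ν ≠ 1) : ∃ d ∈ relCharDegrees N, linLabel p ν ∣ d ∧ charDegree θ.1 ∣ d ∧
      ∀ q : ℕ, q.Prime → p ≠ q → pDet q θ ≠ 1 → linLabel q (pDet q θ) ∣ d := by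
  classical
  have := Fintype.ofFinite G
  obtain ⟨l, hl, rfl⟩ := exists_pDet_twist_eq hp θ hθ hν
  obtain ⟨χ, hχ⟩ := (θ.twist l).exists_over
  refine ⟨_, mem_relCharDegrees_of_over (fun h => hν1 (by rw [h, pDet_triv])) hχ,
    linLabel_dvd hNG hp hν1 χ hχ, ?_, fun q hq hpq h => ?_⟩
  · simpa using clifford_charDegree_dvd χ hχ
  · rw [← pDet_twist_of_ne hp hq hpq θ hl] at h ⊢
    exact linLabel_dvd hNG hq h χ hχ

theorem exists_relDegree_label (hNG : N ≤ commutator G) {p : ℕ} (hp : p.Prime)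
    {ν : N →* ℂˣ} (hν : IsPLin p ν) (hν1 : ν ≠ 1) :
    ∃ d ∈ relCharDegrees N, linLabel p ν ∣ d := by
  obtain ⟨d, h1, h2, -⟩ := exists_relDegree_twist hNG hp (IrrCharacter.triv N)
    (by rw [← IrrCharacter.ofHom_one, IrrCharacter.charDegree_ofHom]; exact hp.one_lt.ne' ∘
      Nat.dvd_one.1) hν hν1
  exact ⟨d, h1, h2⟩

theorem exists_relDegree_label_label (hNG : N ≤ commutator G) {p q : ℕ} (hp : p.Prime)
    (hq : q.Prime) (hpq : p ≠ q) {ν μ : N →* ℂˣ} (hν : IsPLin p ν) (hν1 : ν ≠ 1)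
    (hμ : IsPLin q μ) (hμ1 : μ ≠ 1) :
    ∃ d ∈ relCharDegrees N, linLabel p ν ∣ d ∧ linLabel q μ ∣ d := by
  have h0 : charDegree (IrrCharacter.triv N).1 = 1 := by
    rw [← IrrCharacter.ofHom_one, IrrCharacter.charDegree_ofHom]
  obtain ⟨l, -, rfl⟩ := exists_pDet_twist_eq hq (IrrCharacter.triv N)
    (by rw [h0]; exact hq.one_lt.ne' ∘ Nat.dvd_one.1) hμ
  obtain ⟨d, h1, h2, -, h3⟩ := exists_relDegree_twist hNG hp ((IrrCharacter.triv N).twist l)
    (by rw [IrrCharacter.charDegree_twist, h0]; exact hp.one_lt.ne' ∘ Nat.dvd_one.1) hν hν1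
  exact ⟨d, h1, h2, h3 q hq hpq hμ1⟩

/-- type I / type II alternative -/
theorem relDegree_type (hNG : N ≤ commutator G) {p : ℕ} (hp : p.Prime) {a : ℕ}
    (ha : a ∈ relCharDegrees N) (hpa : ¬ p ∣ a) :
    (∃ ν : N →* ℂˣ, IsPLin p ν ∧ ν ≠ 1 ∧ linLabel p ν ∣ a) ∨
      ∃ s, 1 < s ∧ s ∣ a ∧ ∀ ν : N →* ℂˣ, IsPLin p ν → ν ≠ 1 →
        ∃ d ∈ relCharDegrees N, s ∣ d ∧ linLabel p ν ∣ d := by
  classical
  have := Fintype.ofFinite G
  obtain ⟨χ, θ, rfl, hθ, hχ⟩ := exists_under_of_mem_relCharDegrees ha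
  have h1 := clifford_charDegree_dvd χ hχ
  have h2 : ¬ p ∣ charDegree θ.1 := fun h => hpa (h.trans h1)
  by_cases h3 : pDet p θ = 1
  · right
    by_cases h4 : charDegree θ.1 = 1
    · obtain ⟨q, hq, h5⟩ := exists_pDet_ne_one h4 hθ
      have hpq : p ≠ q := fun h => h5 (h ▸ h3)
      refine ⟨_, one_lt_linLabel hq _, linLabel_dvd hNG hq h5 χ hχ, fun ν hν hν1 => ?_⟩
      obtain ⟨d, h6, h7, -, h8⟩ := exists_relDegree_twist hNG hp θ h2 hν hν1
      exact ⟨d, h6, h8 q hq hpq h5, h7⟩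
    · refine ⟨_, lt_of_le_of_ne θ.charDegree_pos (Ne.symm h4), h1, fun ν hν hν1 => ?_⟩
      obtain ⟨d, h6, h7, h8, -⟩ := exists_relDegree_twist hNG hp θ h2 hν hν1
      exact ⟨d, h6, h8, h7⟩
  · exact Or.inl ⟨_, isPLin_pDet p θ, h3, linLabel_dvd hNG hp h3 χ hχ⟩

/-- two labels prime to `p` are linked through one degree -/
theorem exists_relDegree_link (hNG : N ≤ commutator G) {p : ℕ} (hp : p.Prime)
    {ν ν' : N →* ℂˣ} (hν : IsPLin p ν) (hν1 : ν ≠ 1) (hν' : IsPLin p ν')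
    (h : ¬ p ∣ linLabel p ν) (h' : ¬ p ∣ linLabel p ν') :
    ∃ d ∈ relCharDegrees N, ¬ d.Coprime (linLabel p ν) ∧ ¬ d.Coprime (linLabel p ν') := by
  have hl : ∀ μ : N →* ℂˣ, ¬ p ∣ linLabel p μ →
      linStab μ ≠ ⊤ ∧ linLabel p μ = (linStab μ).index := fun μ hμ => by
    unfold linLabel at hμ ⊢
    split_ifs at hμ ⊢ with h1
    · exact absurd dvd_rfl hμ
    · exact ⟨h1, rfl⟩
  obtain ⟨h1, h2⟩ := hl ν h
  obtain ⟨h1', h2'⟩ := hl ν' h'
  have hnc : ∀ {a b : ℕ}, 1 < a → a ∣ b → ¬ b.Coprime a := fun ha hab hc =>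
    ha.ne' (Nat.eq_one_of_dvd_coprimes hc hab dvd_rfl)
  by_cases hc : (linLabel p ν).Coprime (linLabel p ν')
  swap
  · obtain ⟨d, hd, h3⟩ := exists_relDegree_label hNG hp hν hν1
    exact ⟨d, hd, hnc (one_lt_linLabel hp _) h3, fun h4 => hc (h4.coprime_dvd_left h3)⟩
  have key : ∀ x y : N →* ℂˣ, IsPLin p y → linStab y ≠ ⊤ → ¬ p ∣ (linStab x).index →
      (linStab y).index.Coprime (linStab x).index →
      ¬ (linStab (x * y)).index.Coprime (linStab y).index := by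
    intro x y hy hy1 hx hxy hc
    letI := linConj N
    refine hy1 (eq_top_iff.2 fun g _ => ?_)
    obtain ⟨j, hj⟩ := hy.exists_pow_eq hp hx
    rw [← hj]
    exact linStab_le_pow _ j (smul_pow_index_eq_of_coprime x y hxy hc.symm g)
  rw [h2, h2'] at hc
  have h3 := key ν ν' hν' h1' (h2 ▸ h) hc.symm
  have h4 := key ν' ν hν h1 (h2' ▸ h') hc
  rw [uh_mul_comm] at h4
  have h5 : linStab (ν * ν') ≠ ⊤ := fun h5 => h3 (by rw [h5, Subgroup.index_top]; simp)
  have h6 : ν * ν' ≠ 1 := fun h6 => h5 (by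
    rw [h6]; exact eq_top_iff.2 fun g _ => mem_linStab.2 fun _ => rfl)
  obtain ⟨d, hd, h7⟩ := exists_relDegree_label hNG hp (hν.mul hν') h6
  rw [linLabel, if_neg h5] at h7
  rw [h2, h2']
  exact ⟨d, hd, fun h8 => h4 (h8.coprime_dvd_left h7), fun h8 => h3 (h8.coprime_dvd_left h7)⟩

omit hN [Finite G] in
theorem commutator_index_eq_relIndex (N : Subgroup G) :
    (commutator N).index = ⁅N, N⁆.relIndex N := by
  rw [Subgroup.relIndex, ← Subgroup.map_subtype_commutator, Subgroup.subgroupOf,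
    Subgroup.comap_map_eq_self_of_injective N.subtype_injective]

omit hN in
theorem exists_isPLin_ne_one {p : ℕ} (hp : p.Prime) (h : p ∣ ⁅N, N⁆.relIndex N) :
    ∃ ν : N →* ℂˣ, IsPLin p ν ∧ ν ≠ 1 := by
  haveI := Fact.mk hp
  haveI : Finite (N →* ℂˣ) := Finite.of_injective _ IrrCharacter.ofHom_injective
  rw [← commutator_index_eq_relIndex, ← card_unitsHom] at h
  obtain ⟨l, hl⟩ := exists_prime_orderOf_dvd_card' p h
  refine ⟨_, isPLin_pow_ordCompl p l, fun h1 => ?_⟩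
  exact Nat.not_dvd_ordCompl hp Nat.card_pos.ne' (hl ▸ orderOf_dvd_of_pow_eq_one h1)

omit hN in
theorem dvd_relIndex_of_isPLin {p : ℕ} (hp : p.Prime) {ν : N →* ℂˣ} (hν : IsPLin p ν)
    (h : ν ≠ 1) : p ∣ ⁅N, N⁆.relIndex N := by
  by_contra h1
  refine h (hν.eq_one_of_pow hp h1 ?_)
  rw [← commutator_index_eq_relIndex, ← card_unitsHom]
  exact pow_card_eq_one' (G := N →* ℂˣ)

/-- the relative common divisor graph -/
abbrev relGraph (N : Subgroup G) : SimpleGraph (relCharDegrees N) :=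
  commonDivisorGraph.induce (relCharDegrees N)

omit hN [Finite G] in
theorem relGraph_adj {a b : relCharDegrees N} (hab : a ≠ b) (h : ¬ (a : ℕ).Coprime b) :
    (relGraph N).Adj a b := by
  refine ⟨fun h1 => hab (Subtype.ext h1), ?_⟩
  obtain ⟨χ, -, h2⟩ := a.2
  have h3 : 0 < (a : ℕ) := h2 ▸ χ.charDegree_pos
  exact lt_of_le_of_ne (Nat.gcd_pos_of_pos_left _ h3) (Ne.symm h)

omit hN [Finite G] in
theorem relGraph_reach {a b : relCharDegrees N} (h : ¬ (a : ℕ).Coprime b) :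
    (relGraph N).Reachable a b := by
  by_cases hab : a = b
  · rw [hab]
  · exact (relGraph_adj hab h).reachable

theorem not_coprime_of_dvd_of_dvd {s a b : ℕ} (hs : 1 < s) (ha : s ∣ a) (hb : s ∣ b) :
    ¬ a.Coprime b := fun h => hs.ne' (Nat.eq_one_of_dvd_coprimes h ha hb)

/-- a `p'`-degree carrying a label is at distance at most two from every `p'`-degree -/
theorem relDegree_link_of_label (hNG : N ≤ commutator G) {p : ℕ} (hp : p.Prime) {a b : ℕ}
    (hpa : ¬ p ∣ a) (hb : b ∈ relCharDegrees N) (hpb : ¬ p ∣ b) {ν : N →* ℂˣ} (hν : IsPLin p ν)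
    (hν1 : ν ≠ 1) (h : linLabel p ν ∣ a) :
    ∃ d ∈ relCharDegrees N, ¬ a.Coprime d ∧ ¬ d.Coprime b := by
  rcases relDegree_type hNG hp hb hpb with ⟨ν', h1, -, h2⟩ | ⟨s, h1, h2, h3⟩
  · obtain ⟨d, hd, h3, h4⟩ := exists_relDegree_link hNG hp hν hν1 h1 (fun h3 => hpa (h3.trans h))
      (fun h3 => hpb (h3.trans h2))
    exact ⟨d, hd, fun h5 => h3 (h5.symm.coprime_dvd_right h), fun h5 => h4 (h5.coprime_dvd_right h2)⟩
  · obtain ⟨d, hd, h4, h5⟩ := h3 ν hν hν1
    exact ⟨d, hd, not_coprime_of_dvd_of_dvd (one_lt_linLabel hp ν) h h5,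
      not_coprime_of_dvd_of_dvd h1 h4 h2⟩

theorem relGraph_reach_label (hNG : N ≤ commutator G) {p : ℕ} (hp : p.Prime)
    (hpm : p ∣ ⁅N, N⁆.relIndex N) (a : relCharDegrees N) (hpa : ¬ p ∣ a) :
    ∃ (d : relCharDegrees N) (ν : N →* ℂˣ), IsPLin p ν ∧ ν ≠ 1 ∧ linLabel p ν ∣ d ∧
      (relGraph N).Reachable a d := by
  rcases relDegree_type hNG hp a.2 hpa with ⟨ν, h1, h2, h3⟩ | ⟨s, h1, h2, h3⟩
  · exact ⟨a, ν, h1, h2, h3, SimpleGraph.Reachable.refl _⟩
  · obtain ⟨ν, h4, h5⟩ := exists_isPLin_ne_one hp hpm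
    obtain ⟨d, hd, h6, h7⟩ := h3 ν h4 h5
    exact ⟨⟨d, hd⟩, ν, h4, h5, h7, relGraph_reach (not_coprime_of_dvd_of_dvd h1 h2 h6)⟩

theorem relGraph_reach_of_not_dvd (hNG : N ≤ commutator G) {p : ℕ} (hp : p.Prime)
    (hpm : p ∣ ⁅N, N⁆.relIndex N) (a b : relCharDegrees N) (hpa : ¬ p ∣ a) (hpb : ¬ p ∣ b) :
    (relGraph N).Reachable a b := by
  have key : ∀ (a b : relCharDegrees N) (ν : N →* ℂˣ), ¬ p ∣ a → ¬ p ∣ b → IsPLin p ν → ν ≠ 1 →
      linLabel p ν ∣ a → (relGraph N).Reachable a b := fun a b ν hpa hpb h1 h2 h3 => by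
    obtain ⟨d, hd, h4, h5⟩ := relDegree_link_of_label hNG hp hpa b.2 hpb h1 h2 h3
    exact (relGraph_reach (b := ⟨d, hd⟩) h4).trans (relGraph_reach (a := ⟨d, hd⟩) h5)
  rcases relDegree_type hNG hp a.2 hpa with ⟨ν, h1, h2, h3⟩ | ⟨s, h1, h2, h3⟩
  · exact key a b ν hpa hpb h1 h2 h3
  rcases relDegree_type hNG hp b.2 hpb with ⟨ν, h1', h2', h3'⟩ | ⟨s', h1', h2', h3'⟩
  · exact (key b a ν hpb hpa h1' h2' h3').symm
  obtain ⟨ν, h4, h5⟩ := exists_isPLin_ne_one hp hpm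
  obtain ⟨d, hd, h6, h7⟩ := h3 ν h4 h5
  obtain ⟨d', hd', h6', h7'⟩ := h3' ν h4 h5
  exact ((relGraph_reach (b := ⟨d, hd⟩) (not_coprime_of_dvd_of_dvd h1 h2 h6)).trans
    (relGraph_reach (a := ⟨d, hd⟩) (b := ⟨d', hd'⟩)
      (not_coprime_of_dvd_of_dvd (one_lt_linLabel hp ν) h7 h7'))).trans
    (relGraph_reach (a := ⟨d', hd'⟩) (not_coprime_of_dvd_of_dvd h1' h6' h2'))

theorem relGraph_dvd_or_dvd (hNG : N ≤ commutator G) {a b : relCharDegrees N}
    (hab : ¬ (relGraph N).Reachable a b) {p : ℕ} (hp : p.Prime) (hpm : p ∣ ⁅N, N⁆.relIndex N) :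
    p ∣ a ∨ p ∣ b := by
  by_contra h
  push Not at h
  exact hab (relGraph_reach_of_not_dvd hNG hp hpm a b h.1 h.2)

theorem relGraph_coprime_or (hNG : N ≤ commutator G) {a b : relCharDegrees N}
    (hab : ¬ (relGraph N).Reachable a b) :
    (a : ℕ).Coprime (⁅N, N⁆.relIndex N) ∨ (b : ℕ).Coprime (⁅N, N⁆.relIndex N) := by
  by_contra h
  rw [not_or] at h
  obtain ⟨p, hp, hpa, hpm⟩ := Nat.Prime.not_coprime_iff_dvd.1 h.1
  obtain ⟨q, hq, hqb, hqm⟩ := Nat.Prime.not_coprime_iff_dvd.1 h.2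
  have hpb : ¬ p ∣ b := fun h1 =>
    hab (relGraph_reach (not_coprime_of_dvd_of_dvd hp.one_lt hpa h1))
  have hqa : ¬ q ∣ a := fun h1 =>
    hab (relGraph_reach (not_coprime_of_dvd_of_dvd hq.one_lt h1 hqb))
  obtain ⟨d, ν, h1, h2, h3, h4⟩ := relGraph_reach_label hNG hp hpm b hpb
  obtain ⟨d', μ, h1', h2', h3', h4'⟩ := relGraph_reach_label hNG hq hqm a hqa
  obtain ⟨x, hx, h5, h6⟩ := exists_relDegree_label_label hNG hp hq
    (fun h5 => hpb (h5 ▸ hqb)) h1 h2 h1' h2'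
  exact hab ((h4'.trans (relGraph_reach (b := ⟨x, hx⟩)
    (not_coprime_of_dvd_of_dvd (one_lt_linLabel hq μ) h3' h6))).trans
    ((relGraph_reach (a := ⟨x, hx⟩)
      (not_coprime_of_dvd_of_dvd (one_lt_linLabel hp ν) h5 h3)).trans h4.symm))

omit hN in
theorem exists_prime_dvd_relIndex_of_lt (h : ⁅N, N⁆ < N) :
    ∃ p : ℕ, p.Prime ∧ p ∣ ⁅N, N⁆.relIndex N :=
  Nat.exists_prime_and_dvd fun h1 => h.not_ge (Subgroup.relIndex_eq_one.1 h1)

end rel

end Cfsg
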