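import Mathlib
import Cfsg.Agent.CT.Kernel
import Cfsg.Agent.CT.Induction
import Cfsg.Agent.Blk.AlgBlock2
import Cfsg.Agent.Grp.Basic

/-! Feit's lemma: a representation whose degree is smaller than all non-trivial orbits of a
`p`-subgroup `P ≤ H` on the cosets of `H` has the same fixed points under `H` and under `G`. -/

set_option autoImplicit false

namespace Cfsg

open scoped ComplexConjugate Pointwise

universe u v w

theorem exists_valuationSubring_prime {p : ℕ} (hp : p.Prime) :
    ∃ R : ValuationSubring ℂ, R.valuation (p : ℂ) < 1 := by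
  have hI : Ideal.span {(p : (⊥ : Subring ℂ))} ≠ ⊤ := by
    rw [Ne, Ideal.span_singleton_eq_top]
    intro h
    obtain ⟨⟨b, hb⟩, e⟩ := isUnit_iff_exists_inv.1 h
    obtain ⟨n, rfl⟩ := Subring.mem_bot.1 hb
    have h1 : (p : ℂ) * n = 1 := congrArg Subtype.val e
    have h2 : (p : ℤ) * n = 1 := by exact_mod_cast h1
    have h3 := Int.eq_one_of_mul_eq_one_right (by positivity) h2
    exact hp.ne_one (by exact_mod_cast h3)
  obtain ⟨R, -, hR⟩ := Ideal.image_subset_nonunits_valuationSubring _ hI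
  exact ⟨R, R.mem_nonunits_iff.1 (hR ⟨p, Ideal.mem_span_singleton_self _, by simp⟩)⟩

/-- a transitive `p`-group orbit of vectors spanning a small space satisfies a relation all of
whose coefficients are congruent to one -/
theorem exists_relation_congr_one {p : ℕ} [Fact p.Prime] {P : Type u} [Group P] [Finite P]
    (hP : IsPGroup p P) {O : Type v} [Fintype O] [MulAction P O] [MulAction.IsPretransitive P O]
    {V : Type w} [AddCommGroup V] [Module ℂ V] [FiniteDimensional ℂ V] (ρ : Representation ℂ P V)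
    (f : O → V) (hf : ∀ (x : P) ω, f (x • ω) = ρ x (f ω))
    (hd : Module.finrank ℂ V < Fintype.card O) (R : ValuationSubring ℂ)
    (hR : R.valuation (p : ℂ) < 1) :
    ∃ a : O → ℂ, (∀ ω, R.valuation (a ω - 1) < 1) ∧ ∑ ω, a ω • f ω = 0 := by
  classical
  have hdep : ¬ LinearIndependent ℂ f := fun h => absurd h.fintype_card_le_finrank (by omega)
  obtain ⟨b, hb, ω₁, hω₁⟩ := Fintype.not_linearIndependent_iff.1 hdep
  obtain ⟨ω₀, -, hmax⟩ := Finset.exists_max_image Finset.univ (fun ω => R.valuation (b ω))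
    ⟨ω₁, Finset.mem_univ _⟩
  have hb0 : b ω₀ ≠ 0 := by
    intro h
    have := hmax ω₁ (Finset.mem_univ _)
    rw [h, map_zero, le_zero_iff, map_eq_zero] at this
    exact hω₁ this
  have hmem : ∀ ω, b ω / b ω₀ ∈ R := fun ω => by
    rw [← R.valuation_le_one_iff, map_div₀]
    exact div_le_one_of_le₀ (hmax ω (Finset.mem_univ _)) zero_le
  let k := IsLocalRing.ResidueField R
  let act : DistribMulAction P (O → k) :=
    { smul := fun x F ω => F (x⁻¹ • ω)
      one_smul := fun F => funext fun ω => by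
        change F ((1 : P)⁻¹ • ω) = F ω
        rw [inv_one, one_smul]
      mul_smul := fun x y F => funext fun ω => by
        change F ((x * y)⁻¹ • ω) = F (y⁻¹ • x⁻¹ • ω)
        rw [mul_inv_rev, mul_smul]
      smul_zero := fun _ => rfl
      smul_add := fun _ _ _ => rfl }
  let W : AddSubgroup (O → k) :=
    { carrier := {F | ∃ a : O → R, ∑ ω, (a ω : ℂ) • f ω = 0 ∧
        ∀ ω, F ω = IsLocalRing.residue R (a ω)}
      zero_mem' := ⟨0, by simp, fun ω => by simp⟩
      add_mem' := by
        rintro F F' ⟨a, ha, hF⟩ ⟨a', ha', hF'⟩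
        refine ⟨a + a', ?_, fun ω => by simp [hF, hF']⟩
        simp [add_smul, Finset.sum_add_distrib, ha, ha']
      neg_mem' := by
        rintro F ⟨a, ha, hF⟩
        refine ⟨-a, ?_, fun ω => by simp [hF]⟩
        simp [ha] }
  have hpk : (p : k) = 0 := by
    have h1 : IsLocalRing.residue R (p : R) = 0 := by
      rw [IsLocalRing.residue_eq_zero_iff, ← ValuationSubring.coe_mem_nonunits_iff,
        ValuationSubring.mem_nonunits_iff]
      exact hR
    simpa using h1
  obtain ⟨F, ⟨a, ha, hFa⟩, hF0, hfix⟩ := exists_fixed_ne_zero_of_isPGroup hP (V := O → k)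
    (fun F => funext fun ω => by simp [hpk]) W (v := fun ω => IsLocalRing.residue R ⟨_, hmem ω⟩)
    (by
      rintro x F ⟨a, ha, hF⟩
      refine ⟨fun ω => a (x⁻¹ • ω), ?_, fun ω => hF _⟩
      have h1 := congrArg (ρ x) ha
      rw [map_sum, map_zero] at h1
      rw [← h1]
      refine Fintype.sum_equiv (MulAction.toPerm x⁻¹) _ _ fun ω => ?_
      rw [map_smul, ← hf, MulAction.toPerm_apply, smul_inv_smul])
    ⟨fun ω => ⟨_, hmem ω⟩, by
      simp only [div_eq_inv_mul, mul_smul, ← Finset.smul_sum, hb, smul_zero], fun _ => rfl⟩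
    (fun h => by
      have h1 := congrFun h ω₀
      have h2 : (⟨b ω₀ / b ω₀, hmem ω₀⟩ : R) = 1 := Subtype.ext (div_self hb0)
      simp only [h2, map_one, Pi.zero_apply] at h1
      exact one_ne_zero h1)
  have hconst : ∀ ω, F ω = F ω₀ := fun ω => by
    obtain ⟨x, rfl⟩ := MulAction.exists_smul_eq P ω ω₀
    have := congrFun (hfix x) (x • ω)
    change F (x⁻¹ • x • ω) = _ at this
    rwa [inv_smul_smul] at this
  have hu : IsUnit (a ω₀) := by
    by_contra hnu
    apply hF0
    funext ω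
    rw [hconst, hFa, Pi.zero_apply, IsLocalRing.residue_eq_zero_iff]
    exact hnu
  have hv : R.valuation (a ω₀ : ℂ) = 1 := (R.valuation_eq_one_iff _).1 hu
  have ha0 : (a ω₀ : ℂ) ≠ 0 := fun h => by rw [h, map_zero] at hv; exact zero_ne_one hv
  refine ⟨fun ω => (a ω₀ : ℂ)⁻¹ * a ω, fun ω => ?_, by
    simp only [mul_smul, ← Finset.smul_sum, ha, smul_zero]⟩
  have h1 : (a ω₀ : ℂ)⁻¹ * a ω - 1 = (a ω₀ : ℂ)⁻¹ * ((a ω - a ω₀ : R) : ℂ) := by
    push_cast; field_simp
  rw [h1, map_mul, map_inv₀, hv, inv_one, one_mul, ← ValuationSubring.mem_nonunits_iff,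
    ValuationSubring.coe_mem_nonunits_iff, ← IsLocalRing.residue_eq_zero_iff, map_sub, ← hFa,
    ← hFa, hconst, sub_self]

variable {G : Type u} [Group G] [Finite G]

theorem feit_eq_zero_of_sum_eq_zero {p : ℕ} [Fact p.Prime] {P : Subgroup G} (hP : IsPGroup p P)
    {Ω : Type v} [Fintype Ω] [MulAction G Ω] [MulAction.IsPretransitive G Ω] (ω₀ : Ω)
    (h0 : ∀ x ∈ P, x • ω₀ = ω₀)
    {V : Type w} [AddCommGroup V] [Module ℂ V] [FiniteDimensional ℂ V] (ρ : Representation ℂ G V)
    (f : Ω → V) (hf : ∀ (x : G) ω, f (x • ω) = ρ x (f ω))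
    (hd : ∀ ω, ω ≠ ω₀ → Module.finrank ℂ V < Nat.card (MulAction.orbit P ω))
    (hsum : ∑ ω, f ω = 0) : f ω₀ = 0 := by
  classical
  by_contra hne
  obtain ⟨R, hR⟩ := exists_valuationSubring_prime (Fact.out : p.Prime)
  obtain ⟨l, hl⟩ := Module.Projective.exists_dual_ne_zero ℂ hne
  obtain ⟨ω₁, -, hmax⟩ := Finset.exists_max_image Finset.univ (fun ω => R.valuation (l (f ω)))
    ⟨ω₀, Finset.mem_univ _⟩
  have h1 : l (f ω₁) ≠ 0 := by
    intro h
    have := hmax ω₀ (Finset.mem_univ _)
    rw [h, map_zero, le_zero_iff, map_eq_zero] at this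
    exact hl this
  obtain ⟨g, rfl⟩ := MulAction.exists_smul_eq G ω₀ ω₁
  let l' : V →ₗ[ℂ] ℂ := (l (f (g • ω₀)))⁻¹ • l ∘ₗ ρ g
  have hF : ∀ ω, R.valuation (l' (f ω)) ≤ 1 := fun ω => by
    simp only [l', LinearMap.smul_apply, LinearMap.comp_apply, ← hf, smul_eq_mul]
    rw [← div_eq_inv_mul, map_div₀]
    exact div_le_one_of_le₀ (hmax _ (Finset.mem_univ _)) zero_le
  have hF0 : l' (f ω₀) = 1 := by
    simp only [l', LinearMap.smul_apply, LinearMap.comp_apply, ← hf, smul_eq_mul]
    exact inv_mul_cancel₀ h1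
  let q : Ω → MulAction.orbitRel.Quotient P Ω := Quotient.mk''
  have hfib : ∀ c, c ≠ q ω₀ →
      R.valuation (∑ ω ∈ Finset.univ.filter (fun ω => q ω = c), l' (f ω)) < 1 := by
    intro c hc
    obtain ⟨ω, rfl⟩ := Quotient.mk''_surjective c
    have hω : ω ≠ ω₀ := fun h => hc (by rw [h])
    obtain ⟨a, ha, hrel⟩ := exists_relation_congr_one hP (O := MulAction.orbit P ω)
      (ρ.comp P.subtype) (fun ω' => f ω') (fun x ω' => hf x ω')
      (by rw [← Nat.card_eq_fintype_card]; exact hd ω hω) R hR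
    rw [Finset.sum_subtype (p := fun ω' => ω' ∈ MulAction.orbit P ω) _ (fun ω' => by
      simp only [Finset.mem_filter, Finset.mem_univ, true_and, q]
      rw [Quotient.eq'', MulAction.orbitRel_apply])]
    have h2 := congrArg l' hrel
    rw [map_sum, map_zero] at h2
    have h3 : ∑ ω' : MulAction.orbit P ω, l' (f ω') =
        ∑ ω' : MulAction.orbit P ω, -((a ω' - 1) * l' (f ω')) := by
      rw [← sub_zero (∑ ω' : MulAction.orbit P ω, l' (f ω')), ← h2, ← Finset.sum_sub_distrib]
      refine Finset.sum_congr rfl fun ω' _ => ?_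
      rw [map_smul, smul_eq_mul]; ring
    rw [h3]
    refine R.valuation.map_sum_lt one_ne_zero fun ω' _ => ?_
    rw [Valuation.map_neg, map_mul]
    exact lt_of_le_of_lt (mul_le_of_le_one_right' (hF _)) (ha ω')
  have h2 := congrArg l' hsum
  rw [map_sum, map_zero, ← Finset.sum_fiberwise Finset.univ q,
    ← Finset.add_sum_erase _ _ (Finset.mem_univ (q ω₀))] at h2
  have h3 : Finset.univ.filter (fun ω => q ω = q ω₀) = {ω₀} := by
    ext ω
    simp only [Finset.mem_filter, Finset.mem_univ, true_and, q, Finset.mem_singleton]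
    rw [Quotient.eq'', MulAction.orbitRel_apply]
    exact ⟨fun ⟨x, hx⟩ => by rw [← hx]; exact h0 x x.2, fun h => h ▸ MulAction.mem_orbit_self _⟩
  rw [h3, Finset.sum_singleton, hF0] at h2
  have h4 := R.valuation.map_sum_lt one_ne_zero
    (fun c (hc : c ∈ Finset.univ.erase (q ω₀)) => hfib c (Finset.ne_of_mem_erase hc))
  rw [eq_neg_of_add_eq_zero_right h2, Valuation.map_neg, map_one] at h4
  exact lt_irrefl _ h4

/-- Feit's lemma -/
theorem IsCharacter.classInner_res_one_eq_of_lt {G : Type u} [Group G] [Fintype G] {χ : G → ℂ}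
    (hχ : IsCharacter G χ) {p : ℕ} [Fact p.Prime] {P H : Subgroup G} [Fintype H]
    (hP : IsPGroup p P) (hPH : P ≤ H)
    (h : ∀ g : G, g ∉ H → charDegree χ < (MulAut.conj g • H).relIndex P) :
    classInner (fun x : H => χ x) (fun _ => 1) = classInner χ (fun _ => 1) := by
  classical
  obtain ⟨n, ρ, rfl⟩ := hχ
  rw [charDegree_character] at h
  have hinv : (Representation.invariants (ρ.comp H.subtype)) = ρ.invariants := by
    refine le_antisymm (fun v hv => ?_) fun v hv x => hv x
    have hv' : ∀ x ∈ H, ρ x v = v := fun x hx => hv ⟨x, hx⟩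
    let f₀ : G ⧸ H → (Fin n → ℂ) := fun ω => ρ ω.out v
    have hf₀ : ∀ g : G, f₀ (g : G ⧸ H) = ρ g v := fun g => by
      obtain ⟨x, hx⟩ := QuotientGroup.mk_out_eq_mul H g
      simp only [f₀, hx, map_mul, Module.End.mul_apply, hv' x x.2]
    have hf₁ : ∀ (x : G) ω, f₀ (x • ω) = ρ x (f₀ ω) := fun x ω => by
      obtain ⟨g, rfl⟩ := QuotientGroup.mk_surjective ω
      rw [MulAction.Quotient.smul_mk, hf₀, hf₀, smul_eq_mul, map_mul, Module.End.mul_apply]
    let u := ∑ ω, f₀ ω
    have hu : ∀ x, ρ x u = u := fun x => by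
      simp only [u, map_sum, ← hf₁]
      exact Fintype.sum_equiv (MulAction.toPerm x) _ _ fun ω => rfl
    have hc : (Fintype.card (G ⧸ H) : ℂ) ≠ 0 := by exact_mod_cast Fintype.card_ne_zero
    have h1 := feit_eq_zero_of_sum_eq_zero hP ((1 : G) : G ⧸ H) (fun x hx => by
        rw [MulAction.Quotient.smul_mk, QuotientGroup.eq]; simpa using hPH hx) ρ
      (fun ω => f₀ ω - (Fintype.card (G ⧸ H) : ℂ)⁻¹ • u)
      (fun x ω => by rw [map_sub, map_smul, hu, hf₁]) (fun ω hω => by
        obtain ⟨g, rfl⟩ := QuotientGroup.mk_surjective ω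
        have hg : g ∉ H := fun hg => hω (by rw [QuotientGroup.eq]; simpa using hg)
        refine (h g hg).trans_le (le_of_eq ?_)
        rw [Nat.card_coe_set_eq]
        refine Eq.trans ?_ (MulAction.index_stabilizer _ _)
        rw [Subgroup.relIndex]
        congr 1
        ext x
        rw [Subgroup.mem_subgroupOf, mem_conj_smul_iff, MulAction.mem_stabilizer_iff]
        change _ ↔ (x : G) • ((g : G) : G ⧸ H) = _
        rw [MulAction.Quotient.smul_mk, eq_comm, QuotientGroup.eq, smul_eq_mul,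
          mul_assoc])
      (by
        rw [Finset.sum_sub_distrib, Finset.sum_const, Finset.card_univ,
          ← Nat.cast_smul_eq_nsmul ℂ, smul_smul, mul_inv_cancel₀ hc, one_smul, sub_self])
    simp only [hf₀, map_one, Module.End.one_apply, sub_eq_zero] at h1
    intro x
    rw [h1, map_smul, hu]
  have hG : Invertible (Nat.card G : ℂ) := invertibleOfNonzero (by exact_mod_cast Nat.card_pos.ne')
  have hH : Invertible (Nat.card H : ℂ) := invertibleOfNonzero (by exact_mod_cast Nat.card_pos.ne')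
  have e1 := Representation.card_inv_mul_sum_char_eq_finrank ρ
  have e2 := Representation.card_inv_mul_sum_char_eq_finrank (ρ.comp H.subtype)
  rw [hinv, ← e1] at e2
  simp only [classInner_def, map_one, mul_one]
  exact e2

end Cfsg
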