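import Cfsg.Agent.CT.Galois
import Cfsg.Agent.CT.Monomial
import Cfsg.Agent.CT.Extension
import Cfsg.Agent.CT.Mult
import Cfsg.Agent.Grp.Basic

/-! Bounds for the order of a `p`-group in terms of the degree and the field of values of a
faithful character (Feit, Minkowski). -/

set_option autoImplicit false

namespace Cfsg

universe u

variable {G : Type u} [Group G]

/-- the degree of the field of values -/
noncomputable def IrrCharacter.fieldDeg (χ : IrrCharacter G) : ℕ :=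
  Module.finrank ℚ (IntermediateField.adjoin ℚ (Set.range χ.1))

theorem IrrCharacter.fieldDeg_eq_card_orbit [Finite G] (χ : IrrCharacter G) :
    χ.fieldDeg = Nat.card (MulAction.orbit (ℂ ≃+* ℂ) χ) := by
  rw [IrrCharacter.fieldDeg, χ.finrank_adjoin_range_eq_card]
  refine Nat.card_congr (Equiv.subtypeEquivRight fun ψ => ?_)
  constructor
  · rintro ⟨σ, h⟩
    exact ⟨σ, Subtype.ext h.symm⟩
  · rintro ⟨σ, h⟩
    exact ⟨σ, by rw [← h]; rfl⟩

theorem IrrCharacter.fieldDeg_eq_index [Finite G] (χ : IrrCharacter G) :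
    χ.fieldDeg = (MulAction.stabilizer (ℂ ≃+* ℂ) χ).index := by
  rw [χ.fieldDeg_eq_card_orbit, MulAction.index_stabilizer, Nat.card_coe_set_eq]

theorem IrrCharacter.totient_dvd_fieldDeg (χ : IrrCharacter G) {ζ : ℂ} {m : ℕ} (hm : m ≠ 0)
    (hζ : IsPrimitiveRoot ζ m) (h : ζ ∈ IntermediateField.adjoin ℚ (Set.range χ.1)) :
    m.totient ∣ χ.fieldDeg := by
  haveI : NeZero m := ⟨hm⟩
  have halg : IsAlgebraic ℚ ζ :=
    ((hζ.isIntegral (Nat.pos_of_ne_zero hm)).tower_top (A := ℚ)).isAlgebraic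
  have h1 := isCyclotomicExtension_adjoin_of_isAlgebraic hζ halg
  have h2 := @IsCyclotomicExtension.finrank m _ ℚ (IntermediateField.adjoin ℚ {ζ}) _ _ _ _ h1
    (Polynomial.cyclotomic.irreducible_rat (Nat.pos_of_ne_zero hm))
  rw [← h2]
  exact IntermediateField.finrank_dvd_of_le_right
    (IntermediateField.adjoin_simple_le_iff.2 h)

theorem IrrCharacter.fieldDeg_dvd_totient [Finite G] (χ : IrrCharacter G) :
    χ.fieldDeg ∣ (Nat.card G).totient := by
  rw [← finrank_cycField Nat.card_pos.ne']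
  exact IntermediateField.finrank_dvd_of_le_right
    χ.isCharacter.isGeneralizedCharacter.adjoin_range_le_cycField

theorem IrrCharacter.fieldDeg_pos [Finite G] (χ : IrrCharacter G) : 0 < χ.fieldDeg :=
  Nat.pos_of_dvd_of_pos χ.fieldDeg_dvd_totient (Nat.totient_pos.2 Nat.card_pos)

theorem IrrCharacter.charKer_ringAut_smul [Finite G] (σ : ℂ ≃+* ℂ) (χ : IrrCharacter G) :
    charKer (σ • χ).1 = charKer χ.1 := by
  ext g
  rw [IrrCharacter.mem_charKer, IrrCharacter.mem_charKer, IrrCharacter.ringAut_smul_apply,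
    IrrCharacter.ringAut_smul_apply]
  exact σ.injective.eq_iff

theorem IrrCharacter.totient_dvd_fieldDeg_of_mem_charCenter [Finite G] (χ : IrrCharacter G)
    {Z : Subgroup G} (l : Z →* ℂˣ) (hl : ∀ z : Z, χ.1 z = χ.1 1 * l z) (z : Z) :
    (orderOf (l z)).totient ∣ χ.fieldDeg := by
  have hfin : IsOfFinOrder (l z) := l.isOfFinOrder (isOfFinOrder_of_finite z)
  refine χ.totient_dvd_fieldDeg hfin.orderOf_pos.ne' (ζ := (l z : ℂ))
    (IsPrimitiveRoot.coe_units_iff.2 (IsPrimitiveRoot.orderOf _)) ?_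
  have h1 : (l z : ℂ) = χ.1 z / χ.1 1 := by
    rw [hl, mul_div_cancel_left₀ _ χ.one_ne_zero]
  rw [h1]
  exact div_mem (IntermediateField.subset_adjoin _ _ ⟨_, rfl⟩)
    (IntermediateField.subset_adjoin _ _ ⟨_, rfl⟩)

/-- a nontrivial irreducible character of a `p`-group has a field of degree `(p - 1) p ^ t` -/
theorem IrrCharacter.exists_fieldDeg_of_isPGroup [Finite G] {p : ℕ} [hp : Fact p.Prime]
    (hG : IsPGroup p G) (χ : IrrCharacter G) (hχ : charKer χ.1 ≠ ⊤) :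
    ∃ t, χ.fieldDeg = (p - 1) * p ^ t := by
  obtain ⟨l, -, hl, hk⟩ := χ.isCharacter.exists_hom_of_le_charCenter
    (fun h => χ.one_ne_zero (congrFun h 1))
    (le_refl (charCenter χ.1))
  have hnt : Nontrivial (G ⧸ charKer χ.1) := QuotientGroup.nontrivial_iff.2 hχ
  have hc : Nontrivial (Subgroup.center (G ⧸ charKer χ.1)) :=
    (hG.to_quotient _).center_nontrivial
  obtain ⟨⟨z, hz⟩, hz1⟩ := exists_ne (1 : Subgroup.center (G ⧸ charKer χ.1))
  obtain ⟨z, rfl⟩ := QuotientGroup.mk_surjective z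
  have hzc : z ∈ charCenter χ.1 := by rw [χ.charCenter_eq_comap]; exact hz
  have hl1 : l ⟨z, hzc⟩ ≠ 1 := by
    intro h
    have : (⟨z, hzc⟩ : charCenter χ.1) ∈ l.ker := h
    rw [hk, Subgroup.mem_subgroupOf] at this
    exact hz1 (Subtype.ext ((QuotientGroup.eq_one_iff _).2 this))
  obtain ⟨k, hk⟩ := (hG.to_subgroup (charCenter χ.1)) ⟨z, hzc⟩
  have h1 : orderOf (l ⟨z, hzc⟩) ∣ p ^ k := orderOf_dvd_of_pow_eq_one (by rw [← map_pow, hk, map_one])
  obtain ⟨j, -, hj⟩ := (Nat.dvd_prime_pow hp.out).1 h1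
  have hj0 : 0 < j := by
    rcases Nat.eq_zero_or_pos j with rfl | h
    · exact absurd (orderOf_eq_one_iff.1 (by simpa using hj)) hl1
    · exact h
  have h2 := χ.totient_dvd_fieldDeg_of_mem_charCenter l hl ⟨z, hzc⟩
  rw [hj, Nat.totient_prime_pow hp.out hj0] at h2
  obtain ⟨d, hd⟩ := (Dvd.intro_left _ rfl).trans h2
  obtain ⟨n, hn⟩ := (IsPGroup.iff_card).1 hG
  have h3 := χ.fieldDeg_dvd_totient
  have hn0 : 0 < n := by
    rcases Nat.eq_zero_or_pos n with rfl | h
    · exfalso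
      have : Subsingleton G := (Nat.card_eq_one_iff_unique.1 (by simpa using hn)).1
      exact hχ (Subsingleton.elim _ _)
    · exact h
  rw [hn, Nat.totient_prime_pow hp.out hn0, hd, mul_comm] at h3
  have h4 : d ∣ p ^ (n - 1) :=
    Nat.dvd_of_mul_dvd_mul_right (Nat.sub_pos_of_lt hp.out.one_lt) h3
  obtain ⟨t, -, ht⟩ := (Nat.dvd_prime_pow hp.out).1 h4
  exact ⟨t, by rw [hd, ht]⟩

theorem IrrCharacter.ringAut_smul_smul [Finite G] {N : Subgroup G} [N.Normal] (σ : ℂ ≃+* ℂ)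
    (g : G) (θ : IrrCharacter N) : σ • g • θ = g • σ • θ := Subtype.ext rfl

theorem IrrCharacter.index_charKer_smul [Finite G] {N : Subgroup G} [N.Normal] (g : G)
    (θ : IrrCharacter N) : (charKer (g • θ).1).index = (charKer θ.1).index := by
  have : charKer (g • θ).1 = (charKer θ.1).comap
      ((MulAut.conjNormal g : MulAut N)⁻¹ : MulAut N).toMonoidHom := by
    ext n
    rw [IrrCharacter.mem_charKer, Subgroup.mem_comap, IrrCharacter.mem_charKer,
      IrrCharacter.smul_apply_one]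
    rfl
  rw [this]
  exact Subgroup.index_comap_of_surjective _ (MulEquiv.surjective _)

theorem index_charKer_le_of_linear [Finite G] {p : ℕ} [hp : Fact p.Prime] (χ : IrrCharacter G)
    (h1 : charDegree χ.1 = 1) {t a : ℕ} (ht : χ.fieldDeg ≤ (p - 1) * p ^ t)
    (ha : (charKer χ.1).index = p ^ a) : a ≤ t + 1 := by
  obtain ⟨l, -, hl, hk⟩ := χ.isCharacter.exists_hom_of_le_charCenter
    (fun h => χ.one_ne_zero (congrFun h 1))
    (Z := ⊤) (χ.charCenter_eq_top_iff.2 h1).ge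
  haveI : Finite l.range := Finite.of_surjective _ l.rangeRestrict_surjective
  haveI : IsCyclic l.range := isCyclic_subgroup_units l.range
  obtain ⟨⟨_, z, rfl⟩, hz⟩ := IsCyclic.exists_ofOrder_eq_natCard (α := l.range)
  have h2 : orderOf (l z) = p ^ a := by
    rw [← ha, ← Subgroup.relIndex_top_right, Subgroup.relIndex, ← hk, Subgroup.index_ker, ← hz]
    exact (Subgroup.orderOf_mk _ _).symm
  have h3 := Nat.le_of_dvd χ.fieldDeg_pos (χ.totient_dvd_fieldDeg_of_mem_charCenter l hl z)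
  rcases Nat.eq_zero_or_pos a with rfl | ha0
  · omega
  rw [h2, Nat.totient_prime_pow hp.out ha0, mul_comm] at h3
  have h4 := Nat.le_of_mul_le_mul_left (h3.trans ht) (Nat.sub_pos_of_lt hp.out.one_lt)
  have := (Nat.pow_le_pow_iff_right hp.out.one_lt).1 h4
  omega

theorem exists_index_prime_induced_of_isPGroup [Fintype G] {p : ℕ} [hp : Fact p.Prime]
    (hG : IsPGroup p G) (χ : IrrCharacter G) (h1 : charDegree χ.1 ≠ 1) :
    ∃ (M : Subgroup G) (_ : M.Normal) (θ : IrrCharacter M), M.index = p ∧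
      charInertia θ.1 = M ∧ χ.1 = indFun M θ.1 := by
  classical
  obtain ⟨H, lam, hH⟩ := isMGroup_of_isPGroup hG χ.1 χ.2
  have hH1 : H ≠ ⊤ := by
    rintro rfl
    apply h1
    have := (IrrCharacter.ofHom lam).isCharacter.charDegree_indFun
    rw [IrrCharacter.charDegree_ofHom] at this
    rw [hH]
    exact this.trans (by simp)
  obtain ⟨M, hM, hHM⟩ := (eq_top_or_exists_le_coatom H).resolve_left hH1
  obtain ⟨hn, hi⟩ := index_eq_of_isCoatom_of_isPGroup hG hM
  obtain ⟨θ, hθ⟩ := χ.exists_under M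
  rcases extends_or_indFun_of_prime_index (hi ▸ hp.out) χ hθ with ⟨-, h⟩ | ⟨h, h'⟩
  · exfalso
    have h2 := (classInner_res_eq_index_mul_iff χ.1 M).2
      (fun g hg => by rw [hH]; exact indFun_eq_zero_of_le_normal hHM _ hg)
    have h3 : (fun x : M => χ.1 x) = θ.1 := funext h
    rw [h3, θ.classInner_self, χ.classInner_self, mul_one, hi] at h2
    exact hp.out.one_lt.ne (by exact_mod_cast h2)
  · exact ⟨M, hn, θ, hi, h, h'⟩

/-- Feit's bound -/
theorem index_charKer_bound_of_isPGroup {p : ℕ} [hp : Fact p.Prime] (n : ℕ) :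
    ∀ (G : Type u) [Group G] [Finite G], Nat.card G = n → IsPGroup p G →
      ∀ (χ : IrrCharacter G) (t a : ℕ), χ.fieldDeg ≤ (p - 1) * p ^ t →
      (charKer χ.1).index = p ^ a →
      (p - 1) * a + 1 ≤ charDegree χ.1 + (p - 1) * (t + 1) * charDegree χ.1 := by
  induction n using Nat.strong_induction_on with
  | _ n ih =>
  intro G _ _ hn hG χ t a ht ha
  classical
  haveI := Fintype.ofFinite G
  by_cases h1 : charDegree χ.1 = 1
  · have := index_charKer_le_of_linear χ h1 ht ha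
    rw [h1]
    have := Nat.mul_le_mul_left (p - 1) this
    omega
  obtain ⟨M, hM, θ, hi, hI, hχ⟩ := exists_index_prime_induced_of_isPGroup hG χ h1
  have hlt : Nat.card M < n := by
    rw [← hn, ← M.card_mul_index, hi]
    exact lt_mul_of_one_lt_right Nat.card_pos hp.out.one_lt
  have hdeg : charDegree χ.1 = p * charDegree θ.1 := by
    rw [hχ, θ.isCharacter.charDegree_indFun, hi]
  have hover : ∀ φ : IrrCharacter M, classInner (fun m : M => χ.1 m) φ.1 ≠ 0 ↔
      φ ∈ MulAction.orbit G θ := by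
    refine clifford_over_iff χ ?_
    rw [← classInner_indFun_right M θ.1 χ.isClassFunction, ← hχ, χ.classInner_self]
    exact one_ne_zero
  have hcard : Nat.card (MulAction.orbit G θ) = p := by rw [θ.card_orbit, hI, hi]
  have hkM : charKer χ.1 ≤ M := by
    intro g hg
    by_contra hgM
    rw [χ.mem_charKer, hχ, indFun_eq_zero_of_normal M _ hgM, ← hχ] at hg
    exact χ.one_ne_zero hg.symm
  have hker : (charKer χ.1).subgroupOf M = ⨅ φ : MulAction.orbit G θ, charKer φ.1.1 := by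
    rw [← χ.isCharacter.charKer_res]
    ext m
    rw [(χ.isCharacter.res M).mem_charKer_iff_constituents, Subgroup.mem_iInf]
    exact ⟨fun h φ => h φ ((hover _).2 φ.2), fun h φ hφ => h ⟨φ, (hover _).1 hφ⟩⟩
  have hidx : ((charKer χ.1).subgroupOf M).index * p = p ^ a := by
    rw [← ha, ← hi]
    exact Subgroup.relIndex_mul_index hkM
  obtain ⟨b, hb⟩ := IsPGroup.iff_card.1 ((hG.to_subgroup M).to_quotient (charKer θ.1))
  have hb' : (charKer θ.1).index = p ^ b := hb
  have hle : MulAction.stabilizer (ℂ ≃+* ℂ) θ ≤ MulAction.stabilizer (ℂ ≃+* ℂ) χ := by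
    intro σ hσ
    have h2 : (fun m => (σ : ℂ →+* ℂ) (θ.1 m)) = θ.1 := congrArg Subtype.val hσ
    refine Subtype.ext ?_
    have := indFun_galois (σ : ℂ →+* ℂ) M θ.1
    rw [h2, ← hχ] at this
    exact this.symm
  have hmem : ∀ σ ∈ MulAction.stabilizer (ℂ ≃+* ℂ) χ, σ • θ ∈ MulAction.orbit G θ := by
    intro σ hσ
    rw [← hover]
    have h2 := classInner_res_galois (σ : ℂ →+* ℂ) M χ θ
    have h3 : χ.galois (σ : ℂ →+* ℂ) = χ := hσ
    rw [h3] at h2
    rw [IrrCharacter.ringAut_smul_def]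
    convert (hover θ).2 (MulAction.mem_orbit_self θ) using 1
  have ha1 : 1 ≤ a := by
    rcases Nat.eq_zero_or_pos a with rfl | h
    · exact absurd (Nat.eq_one_of_mul_eq_one_left hidx) hp.out.one_lt.ne'
    · exact h
  have hidx' : ((charKer χ.1).subgroupOf M).index = p ^ (a - 1) := by
    apply Nat.eq_of_mul_eq_mul_right hp.out.pos
    rw [hidx, ← pow_succ, Nat.sub_add_cancel ha1]
  obtain ⟨q, hq⟩ : ∃ q, p = q + 1 := ⟨p - 1, (Nat.sub_add_cancel hp.out.pos).symm⟩
  have hq0 : 1 ≤ q := by have := hp.out.two_le; omega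
  have hq' : p - 1 = q := by omega
  have hθ0 : 1 ≤ charDegree θ.1 := θ.charDegree_pos
  obtain ⟨a', rfl⟩ : ∃ a', a = a' + 1 := ⟨a - 1, by omega⟩
  rw [Nat.add_sub_cancel] at hidx'
  by_cases hst : MulAction.stabilizer (ℂ ≃+* ℂ) χ ≤ MulAction.stabilizer (ℂ ≃+* ℂ) θ
  · have h2 : θ.fieldDeg = χ.fieldDeg := by
      rw [θ.fieldDeg_eq_index, χ.fieldDeg_eq_index, le_antisymm hle hst]
    have h3 := ih _ hlt M rfl (hG.to_subgroup M) θ t b (h2 ▸ ht) hb'
    have h4 : p ^ a' ≤ p ^ (b * p) := by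
      rw [← hidx', hker]
      refine (Subgroup.index_iInf_le _).trans (le_of_eq ?_)
      rw [Finset.prod_congr rfl (g := fun _ => p ^ b), Finset.prod_const, Finset.card_univ,
        ← Nat.card_eq_fintype_card, hcard, pow_mul]
      rintro ⟨_, g, rfl⟩ -
      rw [← hb']
      exact IrrCharacter.index_charKer_smul g θ
    have h5 := (Nat.pow_le_pow_iff_right hp.out.one_lt).1 h4
    rw [hdeg, hq'] at *
    have h6 := Nat.mul_le_mul_left q h5
    have h7 := Nat.mul_le_mul_left p h3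
    subst hq
    nlinarith
  · obtain ⟨σ, hσ, hσ'⟩ := SetLike.not_le_iff_exists.1 hst
    let T : Subgroup G :=
      { carrier := {g | ∃ τ : ℂ ≃+* ℂ, g • θ = τ • θ}
        one_mem' := ⟨1, by simp⟩
        mul_mem' := by
          rintro g h ⟨τ, hτ⟩ ⟨τ', hτ'⟩
          exact ⟨τ' * τ, by rw [mul_smul, hτ', ← IrrCharacter.ringAut_smul_smul, hτ, mul_smul]⟩
        inv_mem' := by
          rintro g ⟨τ, hτ⟩
          refine ⟨τ⁻¹, ?_⟩
          rw [inv_smul_eq_iff, ← IrrCharacter.ringAut_smul_smul, hτ, inv_smul_smul] }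
    have hMT : M ≤ T := fun g hg => ⟨1, by rw [θ.smul_eq_of_mem hg, one_smul]⟩
    obtain ⟨x, hx⟩ := hmem σ hσ
    have hxM : x ∉ M := by
      intro h
      apply hσ'
      have : x • θ = σ • θ := hx
      rw [θ.smul_eq_of_mem h] at this
      exact this.symm
    have hT : T = ⊤ := by
      have h2 : T.index ∣ p := hi ▸ Subgroup.index_dvd_of_le hMT
      rcases (Nat.dvd_prime hp.out).1 h2 with h | h
      · exact Subgroup.index_eq_one.1 h
      · exfalso
        have h3 := Subgroup.relIndex_mul_index hMT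
        rw [h, hi] at h3
        have h4 : M.relIndex T = 1 := by
          have := hp.out.pos
          exact Nat.eq_of_mul_eq_mul_right this (by rw [h3, one_mul])
        exact hxM (Subgroup.relIndex_eq_one.1 h4 ⟨σ, hx⟩)
    have hker' : (charKer χ.1).subgroupOf M = charKer θ.1 := by
      rw [hker]
      apply le_antisymm
      · exact iInf_le_of_le ⟨θ, MulAction.mem_orbit_self θ⟩ le_rfl
      · refine le_iInf ?_
        rintro ⟨_, g, rfl⟩
        obtain ⟨τ, hτ⟩ : g ∈ T := hT ▸ Subgroup.mem_top g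
        show _ ≤ charKer (g • θ).1
        rw [hτ, IrrCharacter.charKer_ringAut_smul]
    have h2 : θ.fieldDeg ≤ (p - 1) * p ^ (t + 1) := by
      rw [θ.fieldDeg_eq_index, ← Subgroup.relIndex_mul_index hle, ← χ.fieldDeg_eq_index]
      have h3 : (MulAction.stabilizer (ℂ ≃+* ℂ) θ).relIndex
          (MulAction.stabilizer (ℂ ≃+* ℂ) χ) ≤ p := by
        have h4 : (MulAction.stabilizer (ℂ ≃+* ℂ) θ).subgroupOf
            (MulAction.stabilizer (ℂ ≃+* ℂ) χ) =
            MulAction.stabilizer (MulAction.stabilizer (ℂ ≃+* ℂ) χ) θ := rfl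
        rw [Subgroup.relIndex, h4, MulAction.index_stabilizer, ← hcard, Nat.card_coe_set_eq]
        refine Set.ncard_le_ncard ?_ (Set.toFinite _)
        rintro _ ⟨τ, rfl⟩
        exact hmem τ τ.2
      calc _ ≤ p * ((p - 1) * p ^ t) := Nat.mul_le_mul h3 ht
        _ = _ := by ring
    have h3 := ih _ hlt M rfl (hG.to_subgroup M) θ (t + 1) a' h2 (hker' ▸ hidx')
    rw [hdeg, hq'] at *
    subst hq
    have h4 : 1 ≤ (t + 1) * charDegree θ.1 := Nat.mul_pos (Nat.succ_pos t) hθ0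
    have h5 : q * 1 ≤ q * (q * ((t + 1) * charDegree θ.1)) :=
      Nat.mul_le_mul_left q (Nat.mul_pos hq0 h4)
    nlinarith

theorem feit_arith {p s t a N : ℕ} (hp : 1 < p)
    (h : (p - 1) * a + 1 ≤ p ^ s + (p - 1) * (t + 1) * p ^ s) (hN : (p - 1) * p ^ t * p ^ s ≤ N) :
    a ≤ ∑ i ∈ Finset.range (N + 1), (p - 1) * p ^ t * p ^ s / ((p - 1) * p ^ i) := by
  have hq : 0 < p - 1 := Nat.sub_pos_of_lt hp
  have h1 : t + s + 1 ≤ N + 1 := by
    have h2 : t + s < p ^ (t + s) := Nat.lt_pow_self hp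
    have h3 : p ^ (t + s) ≤ (p - 1) * p ^ (t + s) := Nat.le_mul_of_pos_left _ hq
    rw [mul_assoc, ← pow_add] at hN
    omega
  refine le_trans ?_ (Finset.sum_le_sum_of_subset (Finset.range_subset_range.2 h1))
  have h2 : ∑ i ∈ Finset.range (t + s + 1), (p - 1) * p ^ t * p ^ s / ((p - 1) * p ^ i) =
      ∑ i ∈ Finset.range (t + s + 1), p ^ i := by
    rw [← Finset.sum_range_reflect (fun i => p ^ i)]
    refine Finset.sum_congr rfl fun i hi => ?_
    rw [mul_assoc, Nat.mul_div_mul_left _ _ hq, ← pow_add,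
      Nat.pow_div (Nat.lt_succ_iff.1 (Finset.mem_range.1 hi)) (by omega)]
    rfl
  rw [h2]
  refine Nat.le_of_mul_le_mul_left ?_ hq
  have h3 : (p - 1) * ∑ i ∈ Finset.range (t + s + 1), p ^ i + 1 = p ^ (t + s + 1) := by
    have h5 := geom_sum_mul_add (p - 1) (t + s + 1)
    rw [Nat.sub_add_cancel hp.le] at h5
    rw [← h5, mul_comm]
  have h4 : 1 + (p - 1) * (t + 1) ≤ p ^ (t + 1) := by
    have := one_add_mul_le_pow (a := ((p - 1 : ℕ) : ℤ)) (by omega) (t + 1)
    have h5 : (1 + ((p - 1 : ℕ) : ℤ)) = p := by omega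
    rw [h5] at this
    have h6 : ((1 + (p - 1) * (t + 1) : ℕ) : ℤ) ≤ ((p ^ (t + 1) : ℕ) : ℤ) := by
      rw [Nat.cast_add, Nat.cast_mul, Nat.cast_pow, mul_comm]
      exact_mod_cast this
    exact_mod_cast h6
  have h5 := Nat.mul_le_mul_right (p ^ s) h4
  rw [← pow_add, show t + 1 + s = t + s + 1 by ring, add_mul, one_mul] at h5
  omega

/-- Minkowski's bound for a rational character of a `p`-group -/
theorem index_charKer_le_of_rational [Finite G] {p : ℕ} [hp : Fact p.Prime] (hG : IsPGroup p G)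
    (N n : ℕ) : n ≤ N → ∀ χ : G → ℂ, IsCharacter G χ → (∀ (σ : ℂ ≃+* ℂ) (g : G), σ (χ g) = χ g) →
      charDegree χ = n →
      (charKer χ).index ≤ p ^ ∑ i ∈ Finset.range (N + 1), n / ((p - 1) * p ^ i) := by
  classical
  haveI := Fintype.ofFinite G
  induction n using Nat.strong_induction_on with
  | _ n ih =>
  intro hn χ hχ hσ hd
  by_cases htop : charKer χ = ⊤
  · rw [htop, Subgroup.index_top]
    exact Nat.one_le_pow _ _ hp.out.pos
  obtain ⟨ψ, hψ, hψ1⟩ : ∃ ψ : IrrCharacter G, classInner χ ψ.1 ≠ 0 ∧ charKer ψ.1 ≠ ⊤ := by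
    by_contra h
    push Not at h
    exact htop (eq_top_iff.2 fun g _ => hχ.mem_charKer_iff_constituents.2 fun ψ hψ =>
      h ψ hψ ▸ Subgroup.mem_top g)
  set S := irrFinset (MulAction.orbit (ℂ ≃+* ℂ) ψ) with hS
  have hSm : ∀ ξ ∈ S, ∃ σ : ℂ ≃+* ℂ, σ • ψ = ξ := fun ξ hξ => mem_irrFinset.1 hξ
  have hS0 : ∀ ξ ∈ S, classInner χ ξ.1 ≠ 0 := by
    intro ξ hξ
    obtain ⟨σ, rfl⟩ := hSm ξ hξ
    have h1 := classInner_galois_eq (σ : ℂ →+* ℂ) hχ.isGeneralizedCharacter
      ψ.isCharacter.isGeneralizedCharacter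
    have h2 : (fun g => (σ : ℂ →+* ℂ) (χ g)) = χ := funext fun g => hσ σ g
    rw [h2] at h1
    exact fun h => hψ (h1.symm.trans h)
  have hχ' := hχ.sub_sum_irr S hS0
  have hdeg := hχ.sum_charDegree_add_eq S hS0
  obtain ⟨t, ht⟩ := ψ.exists_fieldDeg_of_isPGroup hG hψ1
  obtain ⟨k, hk⟩ := IsPGroup.iff_card.1 hG
  obtain ⟨s, -, hs⟩ := (Nat.dvd_prime_pow hp.out).1 (hk ▸ ψ.charDegree_dvd_card)
  have hsum : ∑ ξ ∈ S, charDegree ξ.1 = (p - 1) * p ^ t * p ^ s := by
    rw [Finset.sum_congr rfl (g := fun _ => p ^ s), Finset.sum_const, smul_eq_mul, ← ht,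
      ψ.fieldDeg_eq_card_orbit, hS, card_irrFinset]
    intro ξ hξ
    obtain ⟨σ, rfl⟩ := hSm ξ hξ
    rw [← hs]
    exact IrrCharacter.charDegree_galois _ _
  rw [hsum, hd] at hdeg
  have hpos : 0 < (p - 1) * p ^ t * p ^ s :=
    Nat.mul_pos (Nat.mul_pos (Nat.sub_pos_of_lt hp.out.one_lt) (pow_pos hp.out.pos _))
      (pow_pos hp.out.pos _)
  have hinv : ∀ (σ : ℂ ≃+* ℂ) (g : G), σ (χ g - ∑ ξ ∈ S, ξ.1 g) = χ g - ∑ ξ ∈ S, ξ.1 g := by
    intro σ g
    rw [map_sub, hσ, map_sum]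
    congr 1
    refine Finset.sum_bij (fun ξ _ => σ • ξ) ?_ ?_ ?_ ?_
    · intro ξ hξ
      obtain ⟨τ, rfl⟩ := hSm ξ hξ
      exact mem_irrFinset.2 ⟨σ * τ, mul_smul _ _ _⟩
    · intro ξ _ ξ' _ h
      exact MulAction.injective σ h
    · intro ξ hξ
      obtain ⟨τ, rfl⟩ := hSm ξ hξ
      exact ⟨σ⁻¹ • τ • ψ, mem_irrFinset.2 ⟨σ⁻¹ * τ, mul_smul _ _ _⟩, smul_inv_smul _ _⟩
    · intro ξ _
      rfl
  have h1 := ih _ (by omega) (by omega) _ hχ' hinv rfl
  obtain ⟨a, ha⟩ := IsPGroup.iff_card.1 (hG.to_quotient (charKer ψ.1))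
  have ha' : (charKer ψ.1).index = p ^ a := ha
  have h2 := index_charKer_bound_of_isPGroup _ G rfl hG ψ t a ht.le ha'
  rw [hs] at h2
  have h3 := feit_arith (N := N) hp.out.one_lt h2 (by omega)
  have h4 : charKer ψ.1 ⊓ charKer (fun g => χ g - ∑ ξ ∈ S, ξ.1 g) ≤ charKer χ := by
    rintro g ⟨hg1, hg2⟩
    have h5 := apply_eq_one_of_mem_charKer hg2
    have h6 : ∑ ξ ∈ S, ξ.1 g = ∑ ξ ∈ S, ξ.1 1 := by
      refine Finset.sum_congr rfl fun ξ hξ => ?_
      obtain ⟨σ, rfl⟩ := hSm ξ hξ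
      exact apply_eq_one_of_mem_charKer (by rw [IrrCharacter.charKer_ringAut_smul]; exact hg1)
    rw [hχ.mem_charKer]
    simpa [h6] using h5
  refine (Nat.le_of_dvd (Nat.pos_of_ne_zero Subgroup.FiniteIndex.index_ne_zero)
    (Subgroup.index_dvd_of_le h4)).trans (Subgroup.index_inf_le.trans ?_)
  refine (Nat.mul_le_mul (ha'.le.trans (Nat.pow_le_pow_right hp.out.pos h3)) h1).trans ?_
  rw [← pow_add, ← Finset.sum_add_distrib]
  refine Nat.pow_le_pow_right hp.out.pos (Finset.sum_le_sum fun i _ => ?_)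
  rw [← hdeg]
  exact Nat.div_add_div_le_add_div

end Cfsg
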