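import Cfsg.Agent.CT.NonVan
import Cfsg.Agent.Grp.Frobenius

/-!
# Regular orbits of abelian groups and vanishing elements
-/

set_option autoImplicit false
set_option linter.unusedSectionVars false

open scoped commutatorElement

namespace Cfsg

universe u v

private theorem end_mul_apply {A : Type u} {V : Type v} [Group A] [CommGroup V]
    (ρ : A →* Monoid.End V) (a b : A) (v : V) : ρ (a * b) v = ρ a (ρ b v) := by
  rw [map_mul]; rfl

private theorem end_one_apply {A : Type u} {V : Type v} [Group A] [CommGroup V]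
    (ρ : A →* Monoid.End V) (v : V) : ρ 1 v = v := by
  rw [map_one]; rfl

/-- a commutative coprime action has a point whose stabilizer is the kernel -/
theorem exists_regular_of_comm_of_pow {A : Type u} {V : Type v} [Group A] [Finite A] [CommGroup V]
    (ρ : A →* Monoid.End V) (hcomm : ∀ (a b : A) (v : V), ρ a (ρ b v) = ρ b (ρ a v)) {m : ℕ}
    (hpow : ∀ (a : A) (v : V), ρ (a ^ m) v = v) (hinj : ∀ v : V, v ^ m = 1 → v = 1) :
    ∃ v : V, ∀ a : A, ρ a v = v → ∀ w : V, ρ a w = w := by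
  let S : V → Subgroup A := fun v =>
    { carrier := {a | ρ a v = v}
      one_mem' := by simp
      mul_mem' := fun {a b} ha hb => by
        change ρ _ v = v at *
        rw [end_mul_apply, hb, ha]
      inv_mem' := fun {a} ha => by
        change ρ _ v = v at *
        conv_lhs => rw [← ha]
        rw [← end_mul_apply, inv_mul_cancel, end_one_apply] }
  have hS : ∀ v a, a ∈ S v ↔ ρ a v = v := fun _ _ => Iff.rfl
  have hroot : ∀ (a : A) (v : V), ρ a (v ^ m) = v ^ m → ρ a v = v := fun a v h => by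
    rw [← mul_inv_eq_one]
    exact hinj _ (by rw [mul_pow, ← map_pow, h, inv_pow, mul_inv_cancel])
  obtain ⟨v, hv⟩ := exists_minimalFor_of_wellFoundedLT (fun _ : V => True)
    (fun v => Nat.card (S v)) ⟨1, trivial⟩
  refine ⟨v, fun a ha w => ?_⟩
  by_contra hw
  let π : V →* V := MonoidHom.mk' (fun x => ∏ i ∈ Finset.range m, ρ (a ^ i) x) fun x y => by
    simp only [map_mul, Finset.prod_mul_distrib]
  have hπ : ∀ x, π x = ∏ i ∈ Finset.range m, ρ (a ^ i) x := fun _ => rfl
  have h3 : ∀ (b : A) x, ρ b (π x) = π (ρ b x) := fun b x => by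
    rw [hπ, hπ, map_prod]
    exact Finset.prod_congr rfl fun i _ => hcomm b _ x
  have h4 : ∀ x, ρ a (π x) = π x := fun x => by
    have h5 := Finset.prod_range_succ (fun i => ρ (a ^ i) x) m
    rw [Finset.prod_range_succ', hpow, pow_zero, end_one_apply, mul_left_inj] at h5
    rw [h3, hπ, hπ, ← h5]
    exact Finset.prod_congr rfl fun i _ => by rw [pow_succ, end_mul_apply]
  have h5 : ∀ x, ρ a x = x → π x = x ^ m := fun x hx => by
    rw [hπ, Finset.prod_congr rfl fun i _ => show ρ (a ^ i) x = x from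
      pow_mem ((hS x a).2 hx) i, Finset.prod_const, Finset.card_range]
  have h6 : π (v * (w ^ m * (π w)⁻¹)) = v ^ m := by
    rw [map_mul, map_mul, map_inv, h5 _ (h4 w), map_pow, mul_inv_cancel, mul_one, h5 v ha]
  have h7 : S (v * (w ^ m * (π w)⁻¹)) < S v := by
    refine lt_of_le_of_ne (fun b hb => ?_) fun h => hw ?_
    · rw [hS] at hb ⊢
      refine hroot b v ?_
      rw [← h6, h3, hb]
    · have h8 : a ∈ S (v * (w ^ m * (π w)⁻¹)) := h ▸ ha
      rw [hS, map_mul, map_mul, ha, map_inv, h4, mul_right_inj, mul_left_inj] at h8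
      exact hroot a w h8
  have h8 := hv.2 (j := v * (w ^ m * (π w)⁻¹)) trivial (Subgroup.card_le_of_le h7.le)
  exact h7.ne (Subgroup.eq_of_le_of_card_ge h7.le h8)

variable {G : Type u} [Group G] [Finite G]

/-- conjugation action on the linear characters of a normal subgroup -/
def conjUnitsHom (N : Subgroup G) [N.Normal] : G →* Monoid.End (N →* ℂˣ) where
  toFun g := MonoidHom.mk' (fun l => l.comp (MulAut.conjNormal g⁻¹).toMonoidHom) fun _ _ => rfl
  map_one' := by
    ext l n
    change (l (MulAut.conjNormal (1 : G)⁻¹ n) : ℂ) = l n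
    simp
  map_mul' a b := by
    ext l n
    change (l (MulAut.conjNormal (a * b)⁻¹ n) : ℂ) =
      l (MulAut.conjNormal b⁻¹ (MulAut.conjNormal a⁻¹ n))
    simp

theorem conjUnitsHom_apply (N : Subgroup G) [hN : N.Normal] (g : G) (l : N →* ℂˣ) (n : N) :
    conjUnitsHom N g l n = l ⟨g⁻¹ * n * g, hN.conj_mem' n n.2 g⟩ := by
  change l (MulAut.conjNormal g⁻¹ n) = _
  congr 1
  ext
  simp

theorem conjUnitsHom_of_mem {N : Subgroup G} [hN : N.Normal] {g : G} (hg : g ∈ N)
    (l : N →* ℂˣ) : conjUnitsHom N g l = l := by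
  ext n
  rw [conjUnitsHom_apply, show (⟨g⁻¹ * n * g, hN.conj_mem' n n.2 g⟩ : N) =
    (⟨g, hg⟩ : N)⁻¹ * n * ⟨g, hg⟩ from rfl]
  simp [mul_comm, mul_left_comm]

/-- If `F` is a self-centralizing nilpotent normal `p'`-subgroup and `M / F` is an abelian normal
`p`-subgroup of `G / F` then the elements of `M \ F` are vanishing. -/
theorem exists_eq_zero_of_comm_over_nilpotent {p : ℕ} [Fact p.Prime] {F M : Subgroup G}
    [hF : F.Normal] [hM : M.Normal] (hnil : Group.IsNilpotent F) (hp : ¬ p ∣ Nat.card F)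
    (hC : M ⊓ Subgroup.centralizer (F : Set G) ≤ F) (hcomm : ⁅M, M⁆ ≤ F) {k : ℕ}
    (hpow : ∀ x ∈ M, x ^ p ^ k ∈ F) {x : G} (hx : x ∈ M) (hxF : x ∉ F) :
    ∃ χ : IrrCharacter G, χ.1 x = 0 := by
  have hcop : (Nat.card F).Coprime (p ^ k) :=
    (((Fact.out : p.Prime).coprime_iff_not_dvd.2 hp).symm).pow_right k
  obtain ⟨l, hl⟩ := exists_regular_of_comm_of_pow ((conjUnitsHom F).comp M.subtype)
    (fun a b v => by
      have h1 : (a : G) * b = (b * a) * ⁅(a : G)⁻¹, (b : G)⁻¹⁆ := by
        simp only [commutatorElement_def]; group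
      have h2 := conjUnitsHom_of_mem (hcomm (Subgroup.commutator_mem_commutator
        (M.inv_mem a.2) (M.inv_mem b.2))) v
      simp only [MonoidHom.comp_apply, Subgroup.coe_subtype]
      rw [← end_mul_apply, h1, end_mul_apply, h2, end_mul_apply]) (m := p ^ k)
    (fun a v => conjUnitsHom_of_mem (hpow a a.2) v)
    (fun v hv => by
      ext n
      have h1 : v n ^ p ^ k = 1 := by rw [← MonoidHom.pow_apply, hv, MonoidHom.one_apply]
      have h2 : v n ^ Nat.card F = 1 := by rw [← map_pow, pow_card_eq_one', map_one]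
      have h3 := pow_gcd_eq_one.2 ⟨h2, h1⟩
      rw [hcop.gcd_eq_one, pow_one] at h3
      rw [h3, MonoidHom.one_apply])
  by_contra hcon
  push Not at hcon
  obtain ⟨g, hg⟩ := exists_conj_mem_charInertia_of_nonvanishing hcon (IrrCharacter.ofHom l)
  set y := g * x * g⁻¹ with hy
  have hyM : y ∈ M := hM.conj_mem x hx g
  have h1 : ∀ w, conjUnitsHom F y⁻¹ w = w := hl ⟨y⁻¹, M.inv_mem hyM⟩ (by
    ext n
    simp only [MonoidHom.comp_apply, Subgroup.coe_subtype, conjUnitsHom_apply, inv_inv]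
    exact hg n)
  have h2 : ∀ (j : ℕ) w, conjUnitsHom F (y ^ j)⁻¹ w = w := fun j w => by
    induction j with
    | zero => simp
    | succ j ih => rw [pow_succ, mul_inv_rev, end_mul_apply, ih, h1]
  obtain ⟨j, hj⟩ := exists_pPart_eq_pow p G
  have h3 : Subgroup.zpowers (pPart p y) ≤ Subgroup.centralizer (F : Set G) := by
    refine le_centralizer_of_commutator_le_commutator (Subgroup.le_normalizer_of_normal)
      (coprime_card_of_isPGroup (isPGroup_zpowers_pPart y) hp).symm hnil
      (Subgroup.commutator_le.2 fun n hn a ha => ?_)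
    obtain ⟨i, rfl⟩ := mem_powers_iff_mem_zpowers.2 ha
    have h4 : (⟨n, hn⟩ * ⟨pPart p y ^ i * n⁻¹ * (pPart p y ^ i)⁻¹,
        hF.conj_mem _ (F.inv_mem hn) _⟩ : F) ∈ commutator F := by
      refine mem_commutator_iff_forall_unitsHom.2 fun f => ?_
      have h5 := DFunLike.congr_fun (h2 (j * i) f) (⟨n, hn⟩ : F)⁻¹
      rw [conjUnitsHom_apply] at h5
      simp only [inv_inv, pow_mul, ← hj] at h5
      rw [map_mul]
      exact mul_eq_one_iff_eq_inv'.2 (h5.trans (map_inv _ _))
    rw [← Subgroup.map_subtype_commutator]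
    exact ⟨_, h4, by simp [commutatorElement_def, mul_assoc]⟩
  have h4 : pPart p y ∈ F := hC ⟨pPart_mem p hyM, h3 (Subgroup.mem_zpowers _)⟩
  have h5 : pRegPart p y ∈ F := by
    have h6 := hpow _ (pRegPart_mem p hyM)
    have h7 : (orderOf (pRegPart p y)).Coprime (p ^ k) :=
      (((Fact.out : p.Prime).coprime_iff_not_dvd.2 (not_dvd_orderOf_pRegPart y)).symm).pow_right k
    rw [← QuotientGroup.eq_one_iff] at h6 ⊢
    have h8 := pow_gcd_eq_one.2 ⟨show ((pRegPart p y : G) : G ⧸ F) ^ orderOf (pRegPart p y) = 1 by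
      rw [← QuotientGroup.mk_pow, pow_orderOf_eq_one, QuotientGroup.mk_one], h6⟩
    rwa [h7.gcd_eq_one, pow_one] at h8
  have h6 : y ∈ F := pPart_mul_pRegPart p y ▸ F.mul_mem h4 h5
  exact hxF (by simpa [hy, mul_assoc] using hF.conj_mem' _ h6 g)

/-- if `x` is conjugate to all `x * m`, `m` in a nontrivial normal subgroup, then `x` is
vanishing -/
theorem exists_eq_zero_of_forall_isConj_mul {M : Subgroup G} [M.Normal] (hM : M ≠ ⊥) {x : G}
    (h : ∀ m ∈ M, IsConj x (x * m)) : ∃ χ : IrrCharacter G, χ.1 x = 0 := by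
  have := Fintype.ofFinite M
  obtain ⟨χ, hχ⟩ := exists_irr_not_le_charKer hM
  refine ⟨χ, ?_⟩
  have h1 := χ.sum_coset_eq_zero M hχ x
  rw [Finset.sum_congr rfl fun (m : M) _ => show χ.1 (x * m) = χ.1 x by
    obtain ⟨c, hc⟩ := isConj_iff.1 (h m m.2)
    rw [← hc, χ.isClassFunction], Finset.sum_const, nsmul_eq_mul, mul_eq_zero] at h1
  exact h1.resolve_left (Nat.cast_ne_zero.2 (Finset.card_ne_zero_of_mem (Finset.mem_univ 1)))

end Cfsg
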