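import Cfsg.Agent.FT.CF.Clifford
import Cfsg.Agent.FT.CF.Lin
import Cfsg.Agent.FT.Base.BG1
import Cfsg.Agent.CT.Degrees2
import Cfsg.Agent.CT.Monomial
import Cfsg.Agent.CT.VanOrbit

/-! Garrison's theorem, part 1: character degree tools for subgroups of an ambient group. -/

set_option autoImplicit false
set_option linter.unusedSectionVars false
set_option linter.style.haveILetI false

namespace Cfsg.FT.Gar

open scoped Pointwise Classical

/-- the `r`-adic valuation -/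
def v (r n : ℕ) : ℕ := n.factorization r

section arith
variable {r m n : ℕ}

theorem v_mul (hm : m ≠ 0) (hn : n ≠ 0) : v r (m * n) = v r m + v r n := by
  simp [v, Nat.factorization_mul hm hn]
theorem v_le_of_dvd (h : m ∣ n) (hn : n ≠ 0) : v r m ≤ v r n :=
  (Nat.factorization_le_iff_dvd (ne_zero_of_dvd_ne_zero hn h) hn).2 h r
theorem v_eq_zero (h : ¬ r ∣ n) : v r n = 0 := Nat.factorization_eq_zero_of_not_dvd h
theorem v_pos (hr : r.Prime) (hn : n ≠ 0) (h : r ∣ n) : 0 < v r n :=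
  hr.factorization_pos_of_dvd hn h
theorem dvd_of_v_pos (h : 0 < v r n) : r ∣ n := Nat.dvd_of_factorization_pos h.ne'
theorem not_dvd_of_v (hr : r.Prime) (hn : n ≠ 0) (h : v r n = 0) : ¬ r ∣ n :=
  fun hd => (v_pos hr hn hd).ne' h
theorem v_one : v r 1 = 0 := by simp [v]
theorem v_pow (hr : r.Prime) (k : ℕ) : v r (r ^ k) = k := by simp [v, hr.factorization_pow]
theorem pow_dvd_iff_le_v (hr : r.Prime) (hn : n ≠ 0) {k : ℕ} : r ^ k ∣ n ↔ k ≤ v r n :=
  hr.pow_dvd_iff_le_factorization hn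

theorem two_of_pair {S : ℕ → Prop} (h : ∀ a b, S a → S b → a ≠ 1 → b ≠ 1 → a = b) :
    ∃ m, ∀ a, S a → a = 1 ∨ a = m := by
  by_cases h1 : ∃ m, S m ∧ m ≠ 1
  · obtain ⟨m, h2, h3⟩ := h1
    exact ⟨m, fun a ha => or_iff_not_imp_left.2 fun h4 => h a m ha h2 h4 h3⟩
  · exact ⟨1, fun a ha => Or.inl (by_contra fun h4 => h1 ⟨a, ha, h4⟩)⟩
theorem three_of_triple {S : ℕ → Prop}
    (h : ∀ a b c, S a → S b → S c → a ≠ 1 → b ≠ 1 → c ≠ 1 → a = b ∨ a = c ∨ b = c) :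
    ∃ m n, ∀ a, S a → a = 1 ∨ a = m ∨ a = n := by
  by_cases h1 : ∃ m, S m ∧ m ≠ 1
  · obtain ⟨m, h2, h3⟩ := h1
    obtain ⟨n, hn⟩ := two_of_pair (S := fun a => S a ∧ a ≠ m) fun a b ha hb h4 h5 => by
      have := h a b m ha.1 hb.1 h2 h4 h5 h3
      have := ha.2
      have := hb.2
      omega
    refine ⟨m, n, fun a ha => ?_⟩
    by_cases h4 : a = m
    · exact Or.inr (Or.inl h4)
    · exact (hn a ⟨ha, h4⟩).imp_right Or.inr
  · exact ⟨1, 1, fun a ha => Or.inl (by_contra fun h4 => h1 ⟨a, ha, h4⟩)⟩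
end arith

variable {G : Type*} [Group G] [Finite G] {L H K N X J : Subgroup G} {φ ψ χ θ : G → ℂ}
  {r p n m : ℕ}

/-- derived subgroup -/
abbrev D (L : Subgroup G) : Subgroup G := ⁅L, L⁆

/-- `n ∈ cd(L)` -/
def Deg (L : Subgroup G) (n : ℕ) : Prop := ∃ χ, IsIrr L χ ∧ charDegree χ = n
/-- `n ∈ cd(L / N)` -/
def DegK (L N : Subgroup G) (n : ℕ) : Prop := ∃ χ, IsIrr L χ ∧ N ≤ cfker L χ ∧ charDegree χ = n
/-- `n ∈ cd(L | N)` -/
def DegN (L N : Subgroup G) (n : ℕ) : Prop := ∃ χ, IsIrr L χ ∧ ¬ N ≤ cfker L χ ∧ charDegree χ = n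
/-- at most three nonlinear degrees -/
def H4 (L : Subgroup G) : Prop := ∀ a b c d, Deg L a → Deg L b → Deg L c → Deg L d →
  a ≠ 1 → b ≠ 1 → c ≠ 1 → d ≠ 1 → a = b ∨ a = c ∨ a = d ∨ b = c ∨ b = d ∨ c = d

theorem DegK.deg (h : DegK L N n) : Deg L n := h.imp fun _ h => ⟨h.1, h.2.2⟩
theorem DegN.deg (h : DegN L N n) : Deg L n := h.imp fun _ h => ⟨h.1, h.2.2⟩
theorem Deg.pos (h : Deg L n) : 0 < n := by
  obtain ⟨χ, h1, rfl⟩ := h
  exact h1.charDegree_pos
theorem Deg.dvd (h : Deg L n) : n ∣ Nat.card L := by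
  obtain ⟨χ, h1, rfl⟩ := h
  exact h1.charDegree_dvd_card
theorem DegN.mono (h : DegN L N n) (hN : N ≤ K) : DegN L K n :=
  h.imp fun _ h => ⟨h.1, fun h1 => h.2.1 (hN.trans h1), h.2.2⟩
theorem DegK.mono (h : DegK L N n) (hN : K ≤ N) : DegK L K n :=
  h.imp fun _ h => ⟨h.1, hN.trans h.2.1, h.2.2⟩
theorem DegN.ne_one (h : DegN L N n) (hN : N ≤ D L) : n ≠ 1 := by
  obtain ⟨χ, h1, h2, rfl⟩ := h
  exact fun e => h2 (hN.trans (h1.isLin_iff.2 e).der_le_cfker)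
theorem exists_degN (hN : N ≤ L) (h : N ≠ ⊥) : ∃ n, DegN L N n := by
  obtain ⟨χ, h1, h2⟩ := exists_irr_not_le_cfker hN h
  exact ⟨_, χ, h1, h2, rfl⟩
theorem exists_degK (hN : N ⊴ L) (h : ¬ D L ≤ N) : ∃ n, DegK L N n ∧ n ≠ 1 := by
  obtain ⟨g, h1, h2⟩ := SetLike.not_le_iff_exists.1 h
  obtain ⟨χ, h3, h4, h5⟩ := exists_irr_le_cfker_notMem hN (der_sub L h1) h2
  exact ⟨_, ⟨χ, h3, h4, rfl⟩, fun e => h5 ((h3.isLin_iff.2 e).der_le_cfker h1)⟩

theorem charDegree_extend (θ : L → ℂ) : charDegree (extendByZero L θ) = charDegree θ := by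
  simp only [charDegree]
  rw [extendByZero_of_mem L θ (one_mem L)]; rfl

theorem degK_of_quo (hN : N ⊴ L) [(N.subgroupOf L).Normal]
    (χ : IrrCharacter (L ⧸ N.subgroupOf L)) : DegK L N (charDegree χ.1) := by
  refine ⟨_, isIrr_extendByZero (χ.inflate _), ?_, ?_⟩
  · rw [(isIrr_extendByZero _).isCF.le_cfker_iff_charKer hN.1]
    simpa only [extendByZero_coe] using χ.le_charKer_inflate _
  · rw [charDegree_extend, IrrCharacter.charDegree_inflate]

theorem map_derivedSeries_succ (L : Subgroup G) (k : ℕ) :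
    (derivedSeries L (k + 1)).map L.subtype = D ((derivedSeries L k).map L.subtype) := by
  rw [derivedSeries_succ, Subgroup.map_commutator]

theorem le_of_quo [(N.subgroupOf L).Normal] {k : ℕ}
    (h : derivedSeries (L ⧸ N.subgroupOf L) k = ⊥) : (derivedSeries L k).map L.subtype ≤ N :=
  (Subgroup.map_mono (derivedSeries_le_of_quotient h)).trans
    ((Subgroup.subgroupOf_map_subtype _ _).trans_le inf_le_left)

theorem der2_le (hN : N ⊴ L)
    (h : ∀ a b, DegK L N a → DegK L N b → a ≠ 1 → b ≠ 1 → a = b) : D (D L) ≤ N := by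
  haveI := hN.normal
  obtain ⟨m, hm⟩ := two_of_pair h
  have := le_of_quo (derivedSeries_two_eq_bot_of_two_degrees (m := m)
    fun χ => hm _ (degK_of_quo hN χ))
  simpa only [map_derivedSeries_succ, derivedSeries_zero, map_subtype_top] using this

theorem der3_le (hN : N ⊴ L) (h : ∀ a b c, DegK L N a → DegK L N b → DegK L N c →
    a ≠ 1 → b ≠ 1 → c ≠ 1 → a = b ∨ a = c ∨ b = c) : D (D (D L)) ≤ N := by
  haveI := hN.normal
  obtain ⟨m, n, hm⟩ := three_of_triple h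
  have := le_of_quo (derivedSeries_three_eq_bot_of_three_degrees (m := m) (n := n)
    fun χ => hm _ (degK_of_quo hN χ))
  simpa only [map_derivedSeries_succ, derivedSeries_zero, map_subtype_top] using this

theorem deg_toIrr (χ : IrrCharacter L) : Deg L (charDegree χ.1) :=
  ⟨_, isIrr_extendByZero χ, charDegree_extend _⟩

/-- Thompson -/
theorem pNil_of_dvd [Fact p.Prime] (h : ∀ n, Deg L n → n ≠ 1 → p ∣ n) : PNil p L :=
  pNil_iff.2 (hasNormalPComplement_of_dvd_charDegree fun χ h1 => h _ (deg_toIrr χ) h1)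

/-- Berkovich -/
theorem pNil_of_rel [Fact p.Prime] (hN : N ⊴ L) (h : ∀ n, DegN L (D N) n → p ∣ n) : PNil p N := by
  haveI := hN.normal
  have h1 : PNil p (N.subgroupOf L) :=
    pNil_iff.2 (hasNormalPComplement_of_relative fun χ h1 => h _ ⟨_, isIrr_extendByZero χ, by
      rw [(isIrr_extendByZero _).isCF.le_cfker_iff_charKer ((der_sub N).trans hN.1),
        ← commutator_subgroupOf hN.1 hN.1]
      simpa only [extendByZero_coe] using h1, charDegree_extend _⟩)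
  have h2 := h1.map L.subtype
  rwa [Subgroup.subgroupOf_map_subtype, inf_eq_left.2 hN.1] at h2

/-- small index -/
theorem der_le_of_index (hJ : J ≤ L) (h : ∀ n, Deg L n → n < J.relIndex L → n = 1) : D L ≤ J := by
  have h1 := Subgroup.map_mono (f := L.subtype)
    (commutator_le_of_forall_lt_index (T := J.subgroupOf L) fun χ h1 => h _ (deg_toIrr χ) h1)
  rwa [Subgroup.subgroupOf_map_subtype, inf_eq_left.2 hJ, Subgroup.map_subtype_commutator] at h1

/-- a degree beyond those of `L / F(L)` -/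
theorem exists_big (hs : Group.IsSolvable L) (hL : D L ≠ ⊥) :
    ∃ c, Deg L c ∧ c ≠ 1 ∧ ∀ n, DegK L (fit L) n → n < c := by
  obtain ⟨ψ, hψ, hm⟩ := (irr L).exists_max_image charDegree ⟨_, cf1_mem_irr L⟩
  obtain ⟨a, ha, ha1⟩ := exists_degK (normal1 L) (by simpa using hL)
  have h1 : ∀ n, Deg L n → n ≤ charDegree ψ := by
    rintro _ ⟨χ, h, rfl⟩
    exact hm χ (mem_irr.2 h)
  have h2 : 1 < charDegree ψ := by
    have := h1 a ha.deg
    have := ha.deg.pos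
    omega
  refine ⟨_, ⟨ψ, mem_irr.1 hψ, rfl⟩, h2.ne', ?_⟩
  rintro _ ⟨χ, h3, h4, rfl⟩
  by_cases h5 : charDegree χ = 1
  · omega
  have h6 : ∃ ξ : IrrCharacter L, charDegree h3.toIrr.1 < charDegree ξ.1 := by
    by_cases h7 : charKer h3.toIrr.1 ≤ fittingSubgroup L
    · refine (h3.toIrr.exists_lt_of_eq_fitting (le_antisymm h7 ?_) inferInstance ?_).imp
        fun _ h => h.1
      · have := (h3.isCF.le_cfker_iff_charKer (Fitting_sub L)).1 h4
        refine le_trans ?_ this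
        intro x hx
        exact ⟨x, hx, rfl⟩
      · intro h8
        refine h5 (h3.isLin_iff.1 (h3.isLin_iff_der.2 ?_))
        rw [h3.isCF.le_cfker_iff_charKer (der_sub L)]
        exact le_top.trans_eq h8.symm
    · exact (h3.toIrr.exists_lt_of_not_le_fitting h7).imp fun _ h => h.1
  obtain ⟨ξ, h7⟩ := h6
  exact (h3.charDegree_toIrr ▸ h7).trans_le (h1 _ (deg_toIrr ξ))

theorem exists_monomial [Fact r.Prime] (hL : IsPGroup r L) (hχ : IsIrr L χ) :
    ∃ J ≤ L, ∃ l, IsLin J l ∧ χ = Ind L J l := by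
  haveI := Fintype.ofFinite L
  obtain ⟨J, f, h⟩ := isMGroup_of_isPGroup hL _ hχ.2
  refine ⟨J.map L.subtype, Subgroup.map_subtype_le _,
    linOf (f.comp (J.equivMapOfInjective L.subtype L.subtype_injective).symm.toMonoidHom),
    isLin_linOf _, ?_⟩
  rw [Ind_eq_extendByZero (Subgroup.map_subtype_le _), eq_extendByZero hχ.1, h]
  have h1 : (J.map L.subtype).subgroupOf L = J := Subgroup.comap_map_eq_self_of_injective
    L.subtype_injective J
  congr 1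
  ext g
  simp only [indFun, Nat.card_congr (MulEquiv.subgroupCongr h1).toEquiv]
  congr 1
  refine Finset.sum_congr rfl fun x _ => ?_
  by_cases hx : x⁻¹ * g * x ∈ J
  · rw [extendByZero_of_mem _ _ hx, extendByZero_of_mem _ _ (h1.ge hx),
      linOf_of_mem _ (show ((x⁻¹ * g * x : L) : G) ∈ _ from Subgroup.mem_map_of_mem L.subtype hx)]
    congr 1
    simp only [MonoidHom.comp_apply, MulEquiv.coe_toMonoidHom]
    congr 1
    exact (MulEquiv.eq_symm_apply _).2 rfl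
  · rw [extendByZero_of_not_mem _ _ hx, extendByZero_of_not_mem _ _ (fun h => hx (h1.le h))]

/-! ### `r`-parts of degrees -/

theorem charDegree_add (h : IsChar L φ) (h' : IsChar L ψ) :
    charDegree (φ + ψ) = charDegree φ + charDegree ψ := by
  have := (h.add h').one_eq
  rw [Pi.add_apply, h.one_eq, h'.one_eq] at this
  exact_mod_cast this.symm

theorem dvd_of_constt {d : ℕ} (h : IsChar L φ)
    (hd : ∀ χ, IsIrr L χ → dot L φ χ ≠ 0 → d ∣ charDegree χ) : d ∣ charDegree φ := by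
  obtain ⟨c, h1, h2⟩ := h.exists_sum_irr
  have h3 : (charDegree φ : ℂ) = (∑ χ ∈ irr L, c χ * charDegree χ : ℕ) := by
    rw [← h.one_eq, h2, Finset.sum_apply]
    push_cast
    exact Finset.sum_congr rfl fun χ hχ => by simp [(mem_irr.1 hχ).one_eq]
  rw [Nat.cast_injective h3]
  refine Finset.dvd_sum fun χ hχ => ?_
  by_cases h4 : c χ = 0
  · simp [h4]
  · exact (hd χ (mem_irr.1 hχ) (by rw [h1 χ (mem_irr.1 hχ)]; exact_mod_cast h4)).mul_left _

/-- K0 -/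
theorem exists_constt_v (hr : r.Prime) (h : IsChar L φ) (h0 : φ ≠ 0) :
    ∃ χ, IsIrr L χ ∧ dot L φ χ ≠ 0 ∧ v r (charDegree χ) ≤ v r (charDegree φ) := by
  by_contra hc
  push Not at hc
  have := (pow_dvd_iff_le_v hr (h.charDegree_pos h0).ne').1 (dvd_of_constt
    (d := r ^ (v r (charDegree φ) + 1)) h fun χ h1 h2 =>
      (pow_dvd_iff_le_v hr h1.charDegree_pos.ne').2 (hc χ h1 h2))
  omega

theorem exists_over_v (hr : r.Prime) (hθ : IsIrr H θ) (hH : H ≤ L) :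
    ∃ χ, IsIrr L χ ∧ dot H χ θ ≠ 0 ∧ v r (charDegree χ) ≤ v r (H.relIndex L * charDegree θ) := by
  obtain ⟨χ, h1, h2, h3⟩ := exists_constt_v hr (hθ.isChar.Ind hH) (hθ.Ind_ne_zero hH)
  exact ⟨χ, h1, (dot_Ind_ne_zero_iff hH h1.isCF).1 h2, hθ.isChar.charDegree_Ind hH ▸ h3⟩

theorem charDegree_Res (H : Subgroup G) (χ : G → ℂ) : charDegree (Res H χ) = charDegree χ := by
  simp only [charDegree, Res_one]

theorem exists_under_v (hr : r.Prime) (hχ : IsIrr L χ) (hH : H ≤ L) :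
    ∃ θ, IsIrr H θ ∧ dot H χ θ ≠ 0 ∧ v r (charDegree θ) ≤ v r (charDegree χ) := by
  obtain ⟨θ, h1, h2, h3⟩ := exists_constt_v hr (hχ.isChar.Res hH)
    (fun e => hχ.one_ne_zero (by rw [← Res_one H χ, e]; rfl))
  exact ⟨θ, h1, dot_Res_left (L := H) χ θ ▸ h2, charDegree_Res H χ ▸ h3⟩

theorem v_relIndex (hK : K ≤ H) (hH : H ≤ L) :
    v r (K.relIndex L) = v r (K.relIndex H) + v r (H.relIndex L) := by
  rw [← Subgroup.relIndex_mul_relIndex K H L hK hH, v_mul (relIndex_pos _ _).ne' (relIndex_pos _ _).ne']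

/-- K2 -/
theorem K2 [hr : Fact r.Prime] (hN : N ⊴ L) (hp : IsPGroup r N) (hJ : J ≤ L) (h : ¬ N ≤ J) :
    ∃ m, DegN L N m ∧ v r m < v r (J.relIndex L) := by
  obtain ⟨S, hS⟩ := Sylow_exists r J
  obtain ⟨Q, hQ, hSQ⟩ := Sylow_superset (hS.le.trans hJ) hS.pgroup
  have hNQ := hQ.le_of_normal hp hN
  have h1 := (isChar_cf1 S).Ind hSQ
  have h2 : ¬ N ≤ cfker Q (Ind Q S (cf1 S)) := fun h2 =>
    h (((h2.trans ((isChar_cf1 S).cfker_Ind_le (cf1_ne_zero S) hSQ)).trans (cfker_le _ _)).trans hS.le)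
  obtain ⟨ξ, h3, h4, h5⟩ : ∃ ξ, IsIrr Q ξ ∧ dot Q (Ind Q S (cf1 S)) ξ ≠ 0 ∧ ¬ N ≤ cfker Q ξ := by
    by_contra hc
    push Not at hc
    exact h2 (h1.isCF.le_cfker_of_constt hNQ hc)
  have h6 : charDegree ξ < S.relIndex Q := by
    have h7 : charDegree (Ind Q S (cf1 S)) = S.relIndex Q := by
      rw [(isChar_cf1 S).charDegree_Ind hSQ, (isLin_cf1 S).charDegree_eq, mul_one]
    rw [← h7]
    by_contra h8
    have h9 := h1.eq_of_constt_of_charDegree_le h3 h4 (not_lt.1 h8)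
    have h10 := dot_Ind_cf1 hSQ (cf1 S)
    rw [h9, dot_cf1_cf1] at h10
    have := h3.eq_of_dot_ne_zero (isIrr_cf1 Q) (h10 ▸ one_ne_zero)
    exact h5 (by rw [this, cfker_cf1]; exact hNQ)
  obtain ⟨j, hj⟩ := h3.exists_charDegree_eq_pow hQ.pgroup
  obtain ⟨k, hk⟩ : ∃ k, S.relIndex Q = r ^ k := (hQ.pgroup.index _)
  obtain ⟨χ, h7, h8, h9⟩ := exists_over_v hr.out h3 hQ.le
  refine ⟨_, ⟨χ, h7, fun h10 => h5 ((h7.le_cfker_iff_of_over h3 hQ.le h8 hNQ hN.2).2 h10), rfl⟩, ?_⟩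
  have e1 := v_relIndex (r := r) hSQ hQ.le
  have e2 := v_relIndex (r := r) hS.le hJ
  rw [v_mul (relIndex_pos _ _).ne' h3.charDegree_pos.ne', v_eq_zero hQ.index, hj, v_pow hr.out] at h9
  rw [hk, v_pow hr.out, v_eq_zero hQ.index] at e1
  rw [v_eq_zero hS.index] at e2
  rw [hj, hk, Nat.pow_lt_pow_iff_right hr.out.one_lt] at h6
  omega

/-- K1 -/
theorem K1 [hr : Fact r.Prime] (hX : X ⊴ L) (hp : IsPGroup r X) (h : DegN L (D X) n) :
    ∃ m, DegN L X m ∧ v r m < v r n := by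
  obtain ⟨ψ, h1, h2, rfl⟩ := h
  obtain ⟨Q, hQ⟩ := Sylow_exists r L
  have hXQ := hQ.le_of_normal hp hX
  obtain ⟨ξ, h3, h4, h5⟩ := exists_under_v hr.out h1 hQ.le
  have h6 : ¬ D X ≤ cfker Q ξ := fun h6 =>
    h2 ((h1.le_cfker_iff_of_over h3 hQ.le h4 ((der_sub X).trans hXQ) hX.der.2).1 h6)
  obtain ⟨J, hJ, l, hl, rfl⟩ := exists_monomial hQ.pgroup h3
  obtain ⟨m, h7, h8⟩ := K2 hX hp (hJ.trans hQ.le) fun h7 => h6
    (le_cfker_Ind (hQ.le.trans hX.der.2) ((dergS h7).trans hl.der_le_cfker) hJ)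
  refine ⟨m, h7, h8.trans_le (le_trans ?_ h5)⟩
  rw [v_relIndex hJ hQ.le, v_eq_zero hQ.index, hl.isChar.charDegree_Ind hJ, hl.charDegree_eq,
    mul_one, add_zero]

/-- K6 -/
theorem K6 [hp : Fact p.Prime] {μ : G → ℂ} (hN : N ⊴ L) (hμ : IsLin N μ) (h : ¬ p ∣ linOrder N μ) :
    ∃ φ, IsIrr L φ ∧ dot N φ μ ≠ 0 ∧
      v p (charDegree φ) ≤ v p ((L ⊓ inertia N μ).relIndex L) := by
  obtain ⟨P, hP⟩ := Sylow_exists p (L ⊓ inertia N μ)
  have hU : N ⊔ P ≤ L ⊓ inertia N μ := sup_le (hμ.isCF.sub_Inertia hN.1) hP.le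
  have hPN : P ≤ 𝐍[N] := (hP.le.trans inf_le_left).trans hN.2
  obtain ⟨k, hk⟩ : ∃ k, N.relIndex (N ⊔ P) = p ^ k := by
    rw [(mulEq_of_norm hPN).relIndex_eq]
    exact hP.pgroup.index _
  obtain ⟨l, h1, h2, -⟩ := extend_coprime_lin hμ le_sup_left (hU.trans inf_le_right)
    (hk ▸ ((hp.out.coprime_iff_not_dvd.2 h).symm.pow_right k))
  obtain ⟨φ, h3, h4, h5⟩ := exists_over_v hp.out h1.isIrr (hU.trans inf_le_left)
  refine ⟨φ, h3, h3.isChar.dot_Res_trans' (hU.trans inf_le_left) h1.isIrr le_sup_left hμ.isChar h4 ?_,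
    h5.trans_eq ?_⟩
  · rw [← dot_Res_left, h2, hμ.isIrr.dot_self]; exact one_ne_zero
  · rw [h1.charDegree_eq, mul_one, v_relIndex hU inf_le_left,
      v_eq_zero (fun h6 => hP.index (h6.trans (indexgS _ le_sup_right))), zero_add]

end Cfsg.FT.Gar
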