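import Cfsg.Agent.CT.Gar1

/-! Garrison's theorem, part 2: twisting canonical extensions, transfer, regular orbits. -/

set_option autoImplicit false
set_option linter.unusedSectionVars false
set_option linter.style.haveILetI false

namespace Cfsg.FT.Gar

open scoped Pointwise Classical

variable {G : Type*} [Group G] [Finite G] {L H K N X J F B U T P : Subgroup G}
  {φ ψ χ θ β μ : G → ℂ} {r p q n m : ℕ}

/-- conjugation by a normalizing element as an endomorphism -/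
def conjEnd {g : G} (hg : g ∈ 𝐍[B]) : B →* B where
  toFun x := ⟨g * x * g⁻¹, (memJ_norm hg).2 x.2⟩
  map_one' := by simp
  map_mul' a b := by ext; simp [mul_assoc]

theorem det_inertia (h : IsChar B χ) {g : G} (hg : g ∈ inertia B χ) (x : B) :
    detChar (fun y : B => χ y) (conjEnd (inertia_le_norm _ _ hg) x) =
      detChar (fun y : B => χ y) x := by
  rw [← h.2.detChar_comp]
  congr 1
  ext y
  exact inertia_valJ hg y

theorem extend_canon [Fact p.Prime] (hp : IsPGroup p F) (hθ : IsIrr F θ) (hU : F ≤ U)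
    (hI : U ≤ inertia F θ) (hc : ¬ p ∣ F.relIndex U) :
    ∃ χ, IsIrr U χ ∧ Res F χ = θ ∧ ∃ k, ∀ x : U, detChar (fun y : U => χ y) x ^ p ^ k = 1 := by
  haveI := (normalIn_of_le_inertia hU hI).normal
  obtain ⟨k, hk⟩ := hp.exists_card_eq
  have e := Nat.card_congr (Subgroup.subgroupOfEquivOfLe hU).toEquiv
  obtain ⟨χ, h1, h2⟩ := exists_extension_detOrder_eq (charInertia_toSub_top hθ hU hI)
    (coprime_charDegree_mul_detOrder _ (by
      rw [e, hk]
      exact ((Fact.out : p.Prime).coprime_iff_not_dvd.2 hc).pow_left k))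
  refine ⟨_, isIrr_extendByZero χ, Res_extendByZero_eq hθ.isCF hU h1, k, ?_⟩
  simp only [extendByZero_coe]
  refine detOrder_dvd_iff.1 ?_
  rw [h2, ← hk, ← e]
  exact detOrder_dvd_card _

theorem inertia_twist [hp : Fact p.Prime] (hχ : IsChar B χ) {j k : ℕ} (hd : charDegree χ = p ^ j)
    (hk : ∀ x : B, detChar (fun y : B => χ y) x ^ p ^ k = 1) (hβ : IsLin B β)
    (hc : ¬ p ∣ linOrder B β) : inertia B (β * χ) ≤ inertia B β := by
  intro g hg
  have hn := inertia_le_norm _ _ hg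
  refine mem_inertia_of_forall hβ.isCF.1 hn fun x hx => ?_
  have hx' := (memJ_norm hn).2 hx
  have h1 := det_inertia (hβ.isChar.mul hχ) hg ⟨x, hx⟩
  obtain ⟨b, rfl⟩ := hβ.exists_linOf
  have h2 : (fun y : B => (linOf b * χ) y) = fun y => (b y : ℂ) * (fun y : B => χ y) y := by
    ext y; simp [linOf_coe]
  have h3 : charDegree (fun y : B => χ y) = p ^ j := hd
  rw [h2, hχ.2.detChar_hom_mul, hχ.2.detChar_hom_mul, h3] at h1
  have h4 := congrArg (· ^ p ^ k) h1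
  simp only [mul_pow, hk, mul_one, ← pow_mul, ← pow_add] at h4
  have h5 : (b (conjEnd hn ⟨x, hx⟩) : ℂ) = linOf b (g * x * g⁻¹) := (linOf_of_mem b hx').symm
  rw [h5, ← linOf_of_mem b hx] at h4
  have h6 := hβ.apply_ne_zero hx
  rw [← div_eq_one_iff_eq h6]
  refine (pow_eq_one_iff_of_coprime ((hp.out.coprime_iff_not_dvd.2 hc).pow_left (j + k))).1 ⟨?_, ?_⟩
  · rw [div_pow, h4, div_self (pow_ne_zero _ h6)]
  · rw [div_pow, hβ.pow_linOrder hx, hβ.pow_linOrder hx', div_one]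

/-- K3 -/
theorem K3 [hp : Fact p.Prime] (hF : IsPGroup p F) (hθ : IsIrr F θ) (hFB : F ≤ B) (hBU : B ≤ U)
    (hU : U ≤ L) (hI : U ≤ inertia F θ) (hB : B ⊴ L) (hc : ¬ p ∣ F.relIndex U) (hβ : IsLin U β)
    (hk : F ≤ cfker U β) (hq : q.Prime) :
    ∃ ψ, IsIrr L ψ ∧ dot F ψ θ ≠ 0 ∧
      charDegree θ * (L ⊓ inertia B (Res B β)).relIndex L ∣ charDegree ψ ∧
      charDegree ψ ∣ charDegree θ * B.relIndex L ∧
      v q (charDegree ψ) ≤ v q (U.relIndex L * charDegree θ) := by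
  obtain ⟨χ, h1, h2, k, h3⟩ := extend_canon hF hθ (hFB.trans hBU) hI hc
  obtain ⟨j, hj⟩ := hθ.exists_charDegree_eq_pow hF
  have hd : charDegree χ = charDegree θ := by rw [← h2, charDegree_Res]
  have h4 : IsIrr B (Res B χ) := (h1.isChar.Res hBU).isIrr_of_Res hFB (by rwa [Res_Res hFB, h2])
  have h5 : IsIrr B (Res B (β * χ)) := by rw [Res_mul]; exact (hβ.Res hBU).mul_irr h4
  have hd' : charDegree (β * χ) = charDegree θ := by
    rw [← hd]; simp only [charDegree, Pi.mul_apply, hβ.one, one_mul]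
  have h6 : Res F (β * χ) = θ := by rw [Res_ker_mul hk, hβ.one, one_smul, h2]
  obtain ⟨ψ, h7, h8, h9⟩ := exists_over_v hq (hβ.mul_irr h1) hU
  have h10 : dot B ψ (Res B (β * χ)) ≠ 0 :=
    h7.isChar.dot_Res_trans' hU (hβ.mul_irr h1) hBU h5.isChar h8 (by
      rw [← dot_Res_left, h5.dot_self]; exact one_ne_zero)
  refine ⟨ψ, h7, h7.isChar.dot_Res_trans' hU (hβ.mul_irr h1) (hFB.trans hBU) hθ.isChar h8 (by
    rw [← dot_Res_left, h6, hθ.dot_self]; exact one_ne_zero), ?_, ?_, hd' ▸ h9⟩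
  · obtain ⟨e, he⟩ := h7.isChar.exists_dot_Res hB.1 h5.isChar
    rw [clifford_charDegree hB h7 h5 (e := e) (fun h => h10 (by simp [he, h])) he, charDegree_Res,
      hd', mul_comm (charDegree θ)]
    refine (Nat.mul_dvd_mul_right (indexgS L (inf_le_inf_left L ?_)) _).mul_left _
    rw [Res_mul]
    refine inertia_twist (j := j) (k := k) h4.isChar (by rw [charDegree_Res, hd, hj]) (fun x => ?_)
      (hβ.Res hBU) fun h => hc ((h.trans (hβ.linOrder_Res_dvd hBU)).trans (hβ.linOrder_dvd_relIndex hk))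
    rw [← h3 (Subgroup.inclusion hBU x), ← h1.isChar.2.detChar_comp]
    simp only [Res_coe, Subgroup.coe_inclusion]
  · obtain ⟨e, h11, h12⟩ := exists_charDegree_eq_mul_dvd hB h7 h5 h10
    rw [h11, charDegree_Res, hd', mul_comm]
    exact Nat.mul_dvd_mul_left _ h12

theorem le_inertia_lin (hμ : IsLin N μ) (hX : X ≤ 𝐍[N]) :
    X ≤ inertia N μ ↔ ⁅N, X⁆ ≤ cfker N μ := by
  constructor
  · intro h
    refine commg_le_iff.2 fun x hx y hy => hμ.mem_cfker.2 ?_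
    rw [show x * y * x⁻¹ * y⁻¹ = x * (y * x⁻¹ * y⁻¹) by group,
      hμ.map_mul hx ((memJ_norm (hX hy)).2 (inv_mem hx)), inertia_valJ (h hy), hμ.map_inv hx,
      mul_inv_cancel₀ (hμ.apply_ne_zero hx)]
  · intro h y hy
    refine mem_inertia_of_forall hμ.isCF.1 (hX hy) fun x hx => ?_
    have := cfkerMl (h (commg_le_iff.1 le_rfl x⁻¹ (inv_mem hx) y hy)) 1
    rw [mul_one, hμ.one, inv_inv, show x⁻¹ * y * x * y⁻¹ = x⁻¹ * (y * x * y⁻¹) by group,
      hμ.map_mul (inv_mem hx) ((memJ_norm (hX hy)).2 hx), hμ.map_inv hx,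
      inv_mul_eq_one₀ (hμ.apply_ne_zero hx)] at this
    exact this.symm

/-- an invariant linear character of a normal `q`-subgroup which extends to a Sylow subgroup extends -/
theorem extend_of_syl [hq : Fact q.Prime] {Q : Subgroup G} (hQ : Syl q Q T) (hN : N ≤ Q)
    (hβ : IsLin Q β) (hI : T ≤ inertia N (Res N β)) : ∃ χ, IsLin T χ ∧ Res N χ = Res N β := by
  refine extend_lin_of_der (hβ.Res hN) (hN.trans hQ.le) fun z hz => (hβ.Res hN).mem_cfker.2 ?_
  obtain ⟨b, rfl⟩ := hβ.exists_linOf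
  have hz1 : z ∈ N := hz.1
  have hzT : z ∈ T := hQ.le (hN hz1)
  have h1 := transfer_eq_pow_index_of_conj (Q.subgroupOf T)
    (b.comp (Subgroup.subgroupOfEquivOfLe hQ.le).toMonoidHom) (z := ⟨z, hzT⟩) (c := b ⟨z, hN hz1⟩)
    fun g => by
      have h1 : (g : G)⁻¹ * z * g ∈ N := (memJ_norm' (inertia_le_norm _ _ (hI g.2))).2 hz1
      refine ⟨hN h1, Units.ext ?_⟩
      have h2 := inertia_valJ (inv_mem (hI g.2)) z
      rw [inv_inv, Res_of_mem _ h1, Res_of_mem _ hz1, linOf_of_mem b (hN h1),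
        linOf_of_mem b (hN hz1)] at h2
      exact h2
  have h2 : (⟨z, hzT⟩ : T) ∈ commutator T := by
    have h2 : z ∈ (commutator T).map T.subtype := by
      rw [Subgroup.map_subtype_commutator]; exact hz.2
    obtain ⟨y, h3, rfl⟩ := h2
    exact h3
  rw [Abelianization.commutator_subset_ker _ h2] at h1
  obtain ⟨k, hk⟩ := hQ.pgroup ⟨z, hN hz1⟩
  rw [Res_of_mem _ hz1, linOf_of_mem b (hN hz1), (pow_eq_one_iff_of_coprime
    ((hq.out.coprime_iff_not_dvd.2 hQ.index).pow_left k)).1 ⟨by rw [← map_pow, hk, map_one], h1.symm⟩,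
    Units.val_one]

/-- a regular orbit on linear characters -/
theorem exists_regular [hp : Fact p.Prime] (hP : IsPGroup p P) (ha : IsMulCommutative P)
    (hn : P ≤ 𝐍[T]) (hT : Group.IsNilpotent T) (hc : ¬ p ∣ Nat.card T) :
    ∃ μ, IsLin T μ ∧ P ⊓ inertia T μ ≤ 𝐂[T] := by
  let ρ : P →* Monoid.End (T →* ℂˣ) :=
    { toFun := fun a => MonoidHom.mk' (fun l => l.comp (conjEnd (inv_mem (hn a.2)))) fun _ _ => rfl
      map_one' := by
        ext l x
        change (l (conjEnd _ x) : ℂ) = l x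
        congr 2
        ext; simp [conjEnd]
      map_mul' := fun a b => by
        ext l x
        change (l (conjEnd _ x) : ℂ) = l (conjEnd _ (conjEnd _ x))
        congr 2
        ext; simp [conjEnd, mul_assoc] }
  obtain ⟨k, hk⟩ := hP.exists_card_eq
  obtain ⟨l, hl⟩ := exists_regular_of_comm_of_pow ρ (fun a b w => by
      change (ρ a * ρ b) w = (ρ b * ρ a) w
      rw [← map_mul, ← map_mul, show a * b = b * a from
        Subtype.ext (comm_of_abelian ha a.2 b.2)]) (m := p ^ k)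
    (fun a w => by rw [← hk, pow_card_eq_one', map_one]; rfl) fun w hw => by
      ext x
      rw [(pow_eq_one_iff_of_coprime (a := w x) ((hp.out.coprime_iff_not_dvd.2 hc).pow_left k)).1
        ⟨by rw [← MonoidHom.pow_apply, hw, MonoidHom.one_apply],
          by rw [← map_pow, pow_card_eq_one', map_one]⟩, MonoidHom.one_apply]
  refine ⟨_, isLin_linOf l, fun a ha' => ?_⟩
  have h1 := hl ⟨a⁻¹, inv_mem ha'.1⟩ (by
    ext x
    have := inertia_valJ ha'.2 x
    rw [linOf_coe, linOf_of_mem l ((memJ_norm (hn ha'.1)).2 x.2)] at this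
    refine Eq.trans ?_ this
    change (l (conjEnd _ x) : ℂ) = _
    congr 2
    ext; simp [conjEnd])
  have h2 : ⟪a⟫ ≤ P := Subgroup.zpowers_le.2 ha'.1
  refine coprime_nil_cent_der1 (A := ⟪a⟫) (coprime_pgroup (hP.to_le h2) hc).symm hT ?_
    (Subgroup.mem_zpowers a)
  by_contra h3
  obtain ⟨w, h4, -, h5⟩ := exists_lin_le_cfker_not_le le_rfl (der_sub T)
    (commg_subl.2 (h2.trans hn)) h3
  refine h5 ((le_inertia_lin h4 (h2.trans hn)).1 (Subgroup.zpowers_le.2 ?_))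
  obtain ⟨w, rfl⟩ := h4.exists_linOf
  refine mem_inertia_of_forall h4.isCF.1 (hn ha'.1) fun x hx => ?_
  rw [linOf_of_mem w hx, linOf_of_mem w ((memJ_norm (hn ha'.1)).2 hx),
    ← DFunLike.congr_fun (h1 w) ⟨x, hx⟩]
  change _ = (w (conjEnd _ _) : ℂ)
  congr 2
  ext; simp [conjEnd]

/-- a `q`-subgroup is conjugate into any subgroup of `q'`-index -/
theorem exists_le_conj [Fact q.Prime] {Q : Subgroup G} (hQ : IsPGroup q Q) (hH : Q ≤ H) (hJ : J ≤ H)
    (h : ¬ q ∣ J.relIndex H) : ∃ g ∈ H, Q ≤ g •ᶜ J := by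
  obtain ⟨S, hS⟩ := Sylow_exists q J
  obtain ⟨g, h1, h2⟩ := Sylow_subJ (hS.trans_index hJ h) hH hQ
  exact ⟨g, h1, h2.trans (conj_le_conj.2 hS.le)⟩

theorem le_of_normal_of_index [Fact q.Prime] {Q : Subgroup G} (hQ : IsPGroup q Q) (hH : Q ⊴ H)
    (hJ : J ≤ H) (h : ¬ q ∣ J.relIndex H) : Q ≤ J := by
  obtain ⟨g, h1, h2⟩ := exists_le_conj hQ hH.1 hJ h
  rwa [le_conj_iff, hH.conj_eq (inv_mem h1)] at h2

theorem le_of_index_of_normal [Fact q.Prime] {Q : Subgroup G} (hQ : IsPGroup q Q) (hH : Q ≤ H)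
    (hJ : J ⊴ H) (h : ¬ q ∣ J.relIndex H) : Q ≤ J := by
  obtain ⟨g, h1, h2⟩ := exists_le_conj hQ hH hJ.1 h
  rwa [hJ.conj_eq h1] at h2

theorem over_dvd (hF : F ⊴ L) (hψ : IsIrr L ψ) (hθ : IsIrr F θ) (h : dot F ψ θ ≠ 0) :
    charDegree θ * (L ⊓ inertia F θ).relIndex L ∣ charDegree ψ := by
  obtain ⟨e, he⟩ := hψ.isChar.exists_dot_Res hF.1 hθ.isChar
  rw [clifford_charDegree hF hψ hθ (e := e) (fun h' => h (by simp [he, h'])) he, mul_comm (charDegree θ)]
  exact Dvd.intro_left _ rfl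

theorem dvd_deg [hp : Fact p.Prime] (hF : IsPGroup p F) (hθ : IsIrr F θ) (h : charDegree θ ≠ 1) :
    p ∣ charDegree θ := by
  obtain ⟨k, hk⟩ := hθ.exists_charDegree_eq_pow hF
  rw [hk] at h ⊢
  exact dvd_pow_self _ fun e => h (by rw [e, pow_zero])

/-! ### passing to the quotient -/

variable {G' : Type*} [Group G'] [Finite G'] {f : G →* G'} {M Y Z : Subgroup G'}

/-- `f` maps `L` onto `M` with kernel `F` -/
structure Bar (f : G →* G') (L F : Subgroup G) (M : Subgroup G') : Prop where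
  ker : f.ker = F
  le : F ≤ L
  map : L.map f = M

/-- the image of the inertia group -/
def Jb (f : G →* G') (L F : Subgroup G) (θ : G → ℂ) : Subgroup G' := (L ⊓ inertia F θ).map f

namespace Bar

theorem onto (h : Bar f L F M) : MorphOnto L f M := h.map ▸ morphOnto_map f L
theorem le_comap (h : Bar f L F M) (Y : Subgroup G') : F ≤ Y.comap f := h.ker ▸ Subgroup.ker_le_comap f Y
theorem comap_map (h : Bar f L F M) (hK : F ≤ K) : (K.map f).comap f = K :=
  Subgroup.comap_map_eq_self (h.ker ▸ hK)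
theorem comap_eq (h : Bar f L F M) : M.comap f = L := h.map ▸ h.comap_map h.le
theorem comap_le (h : Bar f L F M) (hY : Y ≤ M) : Y.comap f ≤ L :=
  (Subgroup.comap_mono hY).trans_eq h.comap_eq
theorem map_comap (h : Bar f L F M) (hY : Y ≤ M) : (Y.comap f).map f = Y :=
  Subgroup.map_comap_eq_self ((hY.trans_eq h.map.symm).trans (Subgroup.map_le_range f L))
theorem sub (h : Bar f L F M) (hY : Y ≤ M) : Bar f (Y.comap f) F Y :=
  ⟨h.ker, h.le_comap Y, h.map_comap hY⟩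
theorem normal (h : Bar f L F M) : F ⊴ L := h.ker ▸ normalIn_of_normal (h.ker ▸ h.le)
theorem comap_normal (h : Bar f L F M) (hY : Y ⊴ M) : Y.comap f ⊴ L := h.comap_eq ▸ hY.comap f
theorem onto_ker (h : Bar f L F M) : h.onto.ker = F := by
  ext x
  rw [MorphOnto.mem_ker, ← MonoidHom.mem_ker, h.ker]
  exact and_iff_right_of_imp fun hx => h.le hx
theorem relIndex_ker (h : Bar f L F M) : F.relIndex L = Nat.card M := by
  rw [← h.onto.relIndex_ker, h.onto_ker]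
theorem relIndex_map (h : Bar f L F M) (hF : F ≤ K) (hK : K ≤ L) :
    (K.map f).relIndex M = K.relIndex L :=
  h.onto.relIndex_eq (morphOnto_map f K) hK (h.onto_ker.trans_le hF)
theorem relIndex_comap (h : Bar f L F M) (hY : Y ≤ M) : (Y.comap f).relIndex L = Y.relIndex M := by
  rw [← h.relIndex_map (h.le_comap Y) (h.comap_le hY), h.map_comap hY]
theorem deg (h : Bar f L F M) : Deg M n ↔ DegK L F n := by
  constructor
  · rintro ⟨χ, h1, rfl⟩
    exact ⟨_, h.onto.isIrr h1, h.onto_ker ▸ h.onto.ker_le_cfker h1.isCF, h.onto.charDegree_cfPull χ⟩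
  · rintro ⟨χ, h1, h2, rfl⟩
    obtain ⟨φ, h3, rfl⟩ := h.onto.exists_irr h1 (h.onto_ker.trans_le h2)
    exact ⟨φ, h3, (h.onto.charDegree_cfPull φ).symm⟩
theorem map_le_iff (h : Bar f L F M) : K.map f = ⊥ ↔ K ≤ F := by
  rw [Subgroup.map_eq_bot_iff, h.ker]
theorem map_der (h : Bar f L F M) : (D L).map f = D M := by rw [Subgroup.map_commutator, h.map]
theorem Jb_le (h : Bar f L F M) (θ : G → ℂ) : Jb f L F θ ≤ M := h.map ▸ Subgroup.map_mono inf_le_left
theorem comap_Jb (h : Bar f L F M) (hθ : IsIrr F θ) : (Jb f L F θ).comap f = L ⊓ inertia F θ :=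
  h.comap_map (hθ.isCF.sub_Inertia h.le)
theorem relIndex_Jb (h : Bar f L F M) (hθ : IsIrr F θ) :
    (Jb f L F θ).relIndex M = (L ⊓ inertia F θ).relIndex L :=
  h.relIndex_map (hθ.isCF.sub_Inertia h.le) inf_le_left
theorem over_dvd (h : Bar f L F M) (hψ : IsIrr L ψ) (hθ : IsIrr F θ) (h0 : dot F ψ θ ≠ 0) :
    charDegree θ * (Jb f L F θ).relIndex M ∣ charDegree ψ :=
  h.relIndex_Jb hθ ▸ Gar.over_dvd h.normal hψ hθ h0
theorem degN_of_over (h : Bar f L F M) (hψ : IsIrr L ψ) (hθ : IsIrr F θ) (h0 : dot F ψ θ ≠ 0)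
    (h1 : charDegree θ ≠ 1) : DegN L (D F) (charDegree ψ) :=
  ⟨ψ, hψ, fun h2 => h1 (hθ.isLin_iff.1 (hθ.isLin_iff_der.2
    ((hψ.le_cfker_iff_of_over hθ h.le h0 (der_sub F) h.normal.der.2).2 h2))), rfl⟩
theorem exists_under (h : Bar f L F M) (hn : DegN L (D F) n) :
    ∃ θ, IsIrr F θ ∧ charDegree θ ≠ 1 ∧ charDegree θ * (Jb f L F θ).relIndex M ∣ n := by
  obtain ⟨ψ, h1, h2, rfl⟩ := hn
  obtain ⟨θ, h3, h4⟩ := h1.exists_under h.le
  exact ⟨θ, h3, fun e => h2 ((h1.le_cfker_iff_of_over h3 h.le h4 (der_sub F) h.normal.der.2).1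
    (h3.isLin_iff.2 e).der_le_cfker), h.over_dvd h1 h3 h4⟩
theorem exists_over (h : Bar f L F M) (hθ : IsIrr F θ) (h1 : charDegree θ ≠ 1) :
    ∃ n, DegN L (D F) n ∧ charDegree θ * (Jb f L F θ).relIndex M ∣ n := by
  obtain ⟨ψ, h2, h3⟩ := hθ.exists_over h.le
  exact ⟨_, h.degN_of_over h2 hθ h3 h1, h.over_dvd h2 hθ h3⟩
theorem degK_dvd (h : Bar f L F M) (hn : DegK L (D F) n) : n ∣ Nat.card M := by
  obtain ⟨ψ, h1, h2, rfl⟩ := hn
  obtain ⟨θ, h3, h4⟩ := h1.exists_under h.le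
  obtain ⟨e, h5, h6⟩ := exists_charDegree_eq_mul_dvd h.normal h1 h3 h4
  rwa [h5, (h3.isLin_iff_der.2 ((h1.le_cfker_iff_of_over h3 h.le h4 (der_sub F) h.normal.der.2).2
    h2)).charDegree_eq, mul_one, ← h.relIndex_ker]
theorem exists_Jb_conj (h : Bar f L F M) (hθ : IsIrr F θ) {y : G'} (hy : y ∈ M) :
    ∃ θ', IsIrr F θ' ∧ charDegree θ' = charDegree θ ∧ Jb f L F θ' = y •ᶜ Jb f L F θ := by
  obtain ⟨g, hg, rfl⟩ := h.onto.surj y hy
  refine ⟨cfConj g θ, hθ.cfConj_norm (h.normal.2 hg), charDegree_cfConj g θ, ?_⟩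
  rw [Jb, Jb, ← map_conj, conj_inf, conj_eq_of_mem hg, inertia_cfConj_norm (h.normal.2 hg)]

/-- K3 with data from the quotient -/
theorem K3 [hp : Fact p.Prime] (h : Bar f L F M) (hF : IsPGroup p F) (hθ : IsIrr F θ)
    (h1 : charDegree θ ≠ 1) (hYZ : Y ≤ Z) (hZ : Z ≤ Jb f L F θ) (hY : Y ⊴ M)
    (hc : ¬ p ∣ Nat.card Z) {β : G' → ℂ} (hβ : IsLin Z β) (hq : q.Prime) :
    ∃ n, DegN L (D F) n ∧ charDegree θ * (M ⊓ inertia Y (Res Y β)).relIndex M ∣ n ∧
      n ∣ charDegree θ * Y.relIndex M ∧ v q n ≤ v q (Z.relIndex M * charDegree θ) := by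
  have hZM := hZ.trans (h.Jb_le θ)
  have hZ' := h.sub hZM
  have hY' := h.sub hY.1
  obtain ⟨ψ, h2, h3, h4, h5, h6⟩ := Gar.K3 hF hθ (h.le_comap Y) (Subgroup.comap_mono hYZ)
    (h.comap_le hZM) (((Subgroup.comap_mono hZ).trans_eq (h.comap_Jb hθ)).trans inf_le_right)
    (h.comap_normal hY) (hZ'.relIndex_ker ▸ hc) (hZ'.onto.isLin hβ)
    (hZ'.onto_ker ▸ hZ'.onto.ker_le_cfker hβ.isCF) hq
  rw [h.relIndex_comap hY.1] at h5
  rw [h.relIndex_comap hZM] at h6
  refine ⟨_, h.degN_of_over h2 hθ h3 h1, ?_, h5, h6⟩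
  rw [Res_cfPull (Subgroup.comap_mono hYZ), ← cfPull_Res (L := Y.comap f) (f := f) (L' := Y) (fun x hx => hx)] at h4
  rwa [h.onto.relIndex_eq (h.onto.inertia hY'.onto (h.comap_normal hY) (hβ.Res hYZ).isCF)
    inf_le_left (h.onto_ker.trans_le ((h.le_comap Y).trans
      ((hY'.onto.isCF (hβ.Res hYZ).isCF).sub_Inertia (h.comap_le hY.1))))]

/-- K4 -/
theorem K4 [hp : Fact p.Prime] (h : Bar f L F M) (hF : IsPGroup p F) (h0 : core {p}ᶜ L = ⊥)
    (hY : Y ⊴ M) (h1 : Y ≠ ⊥) (ha : IsMulCommutative Y) (hc : ¬ p ∣ Nat.card Y) :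
    ∃ n, Deg L n ∧ ¬ p ∣ n ∧ ∃ J ≤ M, ¬ Y ≤ J ∧ J.relIndex M ∣ n := by
  have hN := h.comap_normal hY
  have hY' := h.sub hY.1
  have h2 : ¬ PNil p (Y.comap f) := fun h2 => by
    have h3 : core {p}ᶜ (Y.comap f) = ⊥ := le_bot_iff.1 (h0 ▸ hN.core_le _)
    have h4 := h2.index
    rw [h3, Subgroup.relIndex_bot_left] at h4
    have h5 := PiSub.map (π := {p}) h4 f
    rw [hY'.map] at h5
    exact h1 (h5.eq_bot (piSub_compl.2 hc))
  obtain ⟨n, ⟨χ, h3, h4, rfl⟩, h5⟩ : ∃ n, DegN L (D (Y.comap f)) n ∧ ¬ p ∣ n := by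
    by_contra h3
    push Not at h3
    exact h2 (pNil_of_rel hN h3)
  obtain ⟨l, h6, h7⟩ := h3.exists_under h.le
  have h8 := h.over_dvd h3 h6 h7
  have hl : IsLin F l := h6.isLin_iff.2 (by_contra fun h9 =>
    h5 ((dvd_deg hF h6 h9).trans ((Dvd.intro _ rfl).trans h8)))
  refine ⟨_, ⟨χ, h3, rfl⟩, h5, _, h.Jb_le l, fun h9 => h4 ?_, (Dvd.intro_left _ rfl).trans h8⟩
  have h10 : D (Y.comap f) ≤ F := by rw [← h.map_le_iff, hY'.map_der]; exact derG1P.2 ha
  obtain ⟨k, hk⟩ := hF.exists_card_eq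
  obtain ⟨l', h11, h12, -⟩ := extend_coprime_lin hl (h.le_comap Y)
    (((Subgroup.comap_mono h9).trans_eq (h.comap_Jb h6)).trans inf_le_right) (by
      rw [hY'.relIndex_ker]
      exact ((hp.out.coprime_iff_not_dvd.2 hc).pow_left k).coprime_dvd_left
        (hk ▸ hl.linOrder_dvd_card))
  exact (h3.le_cfker_iff_of_over h6 h.le h7 h10 hN.der.2).1
    (h12 ▸ sub_cfker_Res h10 h11.der_le_cfker)

end Bar

end Cfsg.FT.Gar
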