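import Cfsg.Agent.CT.Gar2

/-! Garrison's theorem, part 3: analysis inside the quotient by the Fitting subgroup. -/

set_option autoImplicit false
set_option linter.unusedSectionVars false
set_option linter.style.haveILetI false

namespace Cfsg.FT.Gar

open scoped Pointwise Classical

variable {G : Type*} [Group G] [Finite G] {M E K N P : Subgroup G} {r p q a b : ℕ} {π : Set ℕ}

theorem ne_of_dvd (h : p ∣ a) (h' : ¬ p ∣ b) : a ≠ b := fun e => h' (e ▸ h)
theorem ne_of_v (h : v r a < v r b) : a ≠ b := fun e => (e ▸ h).false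

theorem core_le_of_forall (hE : Group.IsNilpotent E)
    (h : ∀ r, r.Prime → r ∈ π → core {r} E ≤ K) : core π E ≤ K := by
  refine le_of_forall_syl fun r hr S hS => ?_
  haveI := Fact.mk hr
  by_cases h1 : S = ⊥
  · simp [h1]
  · exact (nil_le_core hE (hS.le.trans (pcore_sub _ _)) (piSub_singleton.2 hS.pgroup)).trans
      (h r hr ((pcore_pgroup π E).mem_of_pgroup hS.pgroup hS.le h1))

theorem nil_le_inertia (hE : Group.IsNilpotent E) {ξ : G → ℂ} (hξ : IsCF (core π E) ξ) :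
    E ≤ inertia (core π E) ξ :=
  (nilpotent_pcoreC π hE).sup_eq.ge.trans
    (sup_le hξ.sub_inertia ((nilpotent_pcoreC π hE).cent.trans hξ.cent_sub_inertia))

theorem exists_nonabelian_core (hE : Group.IsNilpotent E) (h : D E ≠ ⊥) :
    ∃ r, r.Prime ∧ D (core {r} E) ≠ ⊥ := by
  by_contra hc
  push Not at hc
  refine h (commG1P.2 (le_of_forall_syl fun r hr S hS => ?_))
  haveI := Fact.mk hr
  rw [nilpotent_Sylow_pcore hE hS]
  exact (centsY (commG1P.1 (hc r hr)) (nilpotent_pcoreC {r} hE).cent').trans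
    (centS (nilpotent_pcoreC {r} hE).sup_eq.ge)

theorem not_dvd_relIndex_join {s : ℕ} [hr : Fact r.Prime] [hs : Fact s.Prime] {Y : Subgroup G}
    (hY : IsPGroup s Y) (hn : Y ≤ 𝐍[E]) (hrs : r ≠ s) : ¬ r ∣ E.relIndex (E ⊔ Y) := by
  rw [(mulEq_of_norm hn).relIndex_eq]
  obtain ⟨k, hk⟩ : ∃ k, E.relIndex Y = s ^ k := hY.index _
  rw [hk]
  exact fun h => hrs ((Nat.prime_dvd_prime_iff_eq hr.out hs.out).1 (hr.out.dvd_of_dvd_pow h))

theorem v_lt_of_dvd (hp : p.Prime) {t i n : ℕ} (ht : p ∣ t) (h : t * i ∣ n) (hn : n ≠ 0) :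
    v p i < v p n := by
  have h0 := ne_zero_of_dvd_ne_zero hn h
  have h1 := v_le_of_dvd (r := p) h hn
  rw [v_mul (left_ne_zero_of_mul h0) (right_ne_zero_of_mul h0)] at h1
  have := v_pos hp (left_ne_zero_of_mul h0) ht
  omega

/-- the case `M' ≰ F(M)` -/
theorem caseB_aux (hab : 1 < a ∧ a < b) (hM : ∀ n, Deg M n → n = 1 ∨ n = a ∨ n = b)
    (hE : ∀ n, DegK M (fit M) n → n = 1 ∨ n = a) (hB : ¬ D M ≤ fit M) :
    ∃ r, r.Prime ∧ ∃ R, R ⊴ M ∧ IsPGroup r R ∧ R ≤ fit M ∧ R ≤ D M ∧ ¬ D M ≤ 𝐂[R] ∧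
      ∀ n, DegN M R n → n = b := by
  set E := fit M
  have hEM : E ⊴ M := Fitting_normal M
  have hEn : Group.IsNilpotent E := Fitting_nil M
  have h2 : D (D M) ≤ E := der2_le hEM fun x y hx hy h1 h2 => by
    have := hE x hx; have := hE y hy; omega
  obtain ⟨s, hs, Y, hY, hYE⟩ : ∃ s, s.Prime ∧ ∃ Y, Syl s Y (D M) ∧ ¬ Y ≤ E := by
    by_contra hc
    push Not at hc
    exact hB (le_of_forall_syl hc)
  haveI := Fact.mk hs
  have hYM : Y ≤ M := hY.le.trans (der_sub M)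
  have hW : D (E ⊔ D M) ≤ E := by
    rw [D, der1_join]
    exact sup_le (sup_le (der_sub E) h2) (hEM.commg_le (der_sub M))
  have hXW : E ⊔ Y ≤ E ⊔ D M := sup_le_sup_left hY.le E
  have hX : E ⊔ Y ⊴ M := ⟨sup_le hEM.1 hYM, (Frattini_arg (der_normal M) hY).sup_eq.ge.trans
    (sup_le (le_sup_right.trans (sub_der1_norm (hW.trans le_sup_left) hXW))
      (normsY (inf_le_left.trans hEM.2) inf_le_right))⟩
  obtain ⟨r, hr, hrs, hYr⟩ : ∃ r, r.Prime ∧ r ≠ s ∧ ¬ core {r} E ≤ 𝐂[Y] := by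
    by_contra hc
    push Not at hc
    have h3 : core {s}ᶜ E ≤ 𝐂[Y] := core_le_of_forall hEn fun r hr h => hc r hr h
    have h4 := nilpotent_pcoreC {s} hEn
    have h5 := nil_sup_cent (sup_le h4.cent' (centsC.1 h3)) (nilpotentS (pcore_sub _ _) hEn)
      (pgroup_nil (pgroup_sup (pcore_pgroup' s E) hY.pgroup (hYM.trans (hEM.core _).2)))
    rw [← sup_assoc, h4.symm.sup_eq] at h5
    exact hYE (le_sup_right.trans (Fitting_max hX h5))
  haveI := Fact.mk hr
  have hR : core {r} E ⊴ M := hEM.core _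
  have hRp := pcore_pgroup' r E
  have hRle : ⁅core {r} E, D M⁆ ≤ core {r} E := hR.commg_le (der_sub M)
  have hrY : ¬ r ∣ Nat.card Y := not_dvd_card_of_pgroup hY.pgroup hrs.symm
  refine ⟨r, hr, ⁅core {r} E, D M⁆, normalR hR (der_normal M), hRp.to_le hRle,
    hRle.trans (pcore_sub _ _), commgSS hR.1 (der_sub M), fun h => hYr ?_, fun n hn => ?_⟩
  · refine centsC.1 (coprime_commGG1P (hYM.trans hR.2) (coprime_pgroup hRp hrY) (le_bot_iff.1 ?_))
    exact (commgSS (commgS _ hY.le) hY.le).trans_eq (commG1P'.2 h)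
  have hn1 := hn.ne_one (commgSS hR.1 (der_sub M))
  rcases hM n hn.deg with h | h | h
  · exact absurd h hn1
  swap
  · exact h
  exfalso
  obtain ⟨χ, h3, h4, h5⟩ := hn
  obtain ⟨ξ, h6, h7⟩ := h3.exists_under hR.1
  have h8 := over_dvd hR h3 h6 h7
  rw [h5, h] at h8
  have h9 : D M ≤ M ⊓ inertia (core {r} E) ξ := der_le_of_index inf_le_left fun m hm h9 => by
    have := Nat.le_of_dvd (by omega) ((Dvd.intro_left _ rfl).trans h8)
    have := hM m hm
    omega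
  have h10 : r ∣ charDegree ξ := dvd_deg hRp h6 fun e => h4
    ((h3.le_cfker_iff_of_over h6 hR.1 h7 hRle (normalR hR (der_normal M)).2).1
      ((le_inertia_lin (h6.isLin_iff.2 e) ((der_sub M).trans hR.2)).1 (h9.trans inf_le_right)))
  have hi := not_dvd_relIndex_join hY.pgroup (hYM.trans hEM.2) hrs
  obtain ⟨β, hβ, h11, h12⟩ := exists_lin_le_cfker_ne ((dergS hXW).trans hW)
    (left_lt_sup.2 hYE)
  obtain ⟨ψ, h13, -, h14, -, -⟩ := K3 hRp h6 ((pcore_sub _ _).trans le_sup_left) le_rfl hX.1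
    (sup_le (nil_le_inertia hEn h6.isCF) (hY.le.trans (h9.trans inf_le_right))) hX (by
      rw [← Subgroup.relIndex_mul_relIndex _ E _ (pcore_sub _ _) le_sup_left, hr.dvd_mul]
      exact not_or.2 ⟨(nilpotent_pcore_Sylow r hEn).index, hi⟩) hβ ((pcore_sub _ _).trans h11) hr
  rw [hβ.isCF.Res_eq] at h14
  obtain ⟨φ, h15, h16, h17⟩ := K6 hX hβ fun h => hi (h.trans (hβ.linOrder_dvd_relIndex h11))
  have h18 := h15.le_cfker_of_Ind hβ.isIrr hX.1 h16 hEM.2 h11
  have h19 : charDegree φ = a := (hE _ ⟨φ, h15, h18, rfl⟩).resolve_left fun e => h12 (by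
    have hl := h15.isLin_iff.2 e
    rw [← hl.eq_of_dot_ne_zero hX.1 hβ.isIrr h16, hl.Res_eq_cf1]
    exact sup_le h18 (hY.le.trans hl.der_le_cfker))
  have h20 := (h19 ▸ h17).trans_lt (v_lt_of_dvd hr h10 h14 h13.charDegree_pos.ne')
  have h21 : r ∣ b := by
    rcases hM _ ⟨ψ, h13, rfl⟩ with e | e | e <;> rw [e] at h20
    · simp [v_one] at h20
    · exact h20.false.elim
    · exact dvd_of_v_pos (by omega)
  have h22 : PNil r M := pNil_of_dvd fun m hm h22 => by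
    rcases hM m hm with e | e | e
    · exact absurd e h22
    · exact e ▸ (h10.mul_right _).trans h8
    · exact e ▸ h21
  exact hYr (centsC.1 (h22.cents hRp hR.1 (le_inf hYM (hYM.trans hR.2)) hrY))

/-- the case `M' ≤ F(M)` -/
theorem caseA_aux [hp : Fact p.Prime] [hq : Fact q.Prime] (hs : Group.IsSolvable M)
    (hE : ¬ p ∣ Nat.card (fit M)) (hA : D M ≤ fit M) (hP : Syl p P M)
    (h : ¬ core {q} (fit M) ≤ 𝐂[P]) : q ≠ p ∧ ∃ Q β, Syl q Q M ∧ core {q} (fit M) ≤ Q ∧ IsLin Q β ∧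
      Deg M ((M ⊓ inertia (core {q} (fit M)) (Res (core {q} (fit M)) β)).relIndex M) ∧
      p ∣ (M ⊓ inertia (core {q} (fit M)) (Res (core {q} (fit M)) β)).relIndex M ∧
      ¬ q ∣ (M ⊓ inertia (core {q} (fit M)) (Res (core {q} (fit M)) β)).relIndex M := by
  set E := fit M
  have hEM : E ⊴ M := Fitting_normal M
  have hEn : Group.IsNilpotent E := Fitting_nil M
  have hqp : q ≠ p := by
    rintro rfl
    exact h (by rw [core_eq_bot_of_compl (piSub_compl.2 hE)]; exact bot_le)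
  refine ⟨hqp, ?_⟩
  obtain ⟨K, hK⟩ := Hall_exists {p}ᶜ hs
  have hKM : K ⊴ M := sub_der1_normal (hA.trans (hK.le_of_normal (piSub_compl.2 hE) hEM)) hK.le
  obtain ⟨Q, hQ, hPQ⟩ := sol_coprime_Sylow_exists q (Or.inl (solvableS hK.le hs)) (hP.le.trans hKM.2)
    (coprime_pgroup hP.pgroup (piSub_compl.1 hK.pi)).symm
  have hQM : Syl q Q M := subHall_Sylow hK hqp hQ
  have hR : core {q} E ⊴ M := hEM.core _
  have hRQ := hQM.le_of_normal (pcore_pgroup' q E) hR
  have hc := coprime_pgroups hQ.pgroup hP.pgroup hqp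
  have h1 : ¬ ⁅core {q} E, P⁆ ≤ D Q := fun h1 => by
    have h2 : ⁅Q, P⁆ ≤ core {q} E := nil_le_core hEn ((commgSS hQM.le hP.le).trans hA)
      (piSub_singleton.2 (hQ.pgroup.to_le (commg_subl.2 hPQ)))
    have h3 := coprime_nil_cent_der1 hc (pgroup_nil hQ.pgroup)
      ((coprime_commGid hPQ hc).ge.trans ((commSg P h2).trans h1))
    exact h (hRQ.trans (centsC.1 h3))
  obtain ⟨β, hβ, -, h2⟩ := exists_lin_le_cfker_not_le le_rfl (der_sub Q)
    ((hR.commg_le hP.le).trans hRQ) h1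
  have hμ := hβ.Res hRQ
  have hT : M ⊓ inertia (core {q} E) (Res (core {q} E) β) ⊴ M :=
    sub_der1_normal (hA.trans (le_inf hEM.1 (nil_le_inertia hEn hμ.isCF))) inf_le_left
  have hQT : Q ≤ M ⊓ inertia (core {q} E) (Res (core {q} E) β) :=
    le_inf hQM.le (hβ.isCF.sub_inertia_Res (hQM.le.trans hR.2))
  obtain ⟨χ, h3, h4⟩ := extend_of_syl (hQM.subl hQT inf_le_left) hRQ hβ inf_le_right
  refine ⟨Q, β, hQM, hRQ, hβ, ⟨_, clifford_corr_irr hR hμ.isIrr (hRQ.trans hQT) inf_le_left le_rfl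
    h3.isIrr (by rw [← dot_Res_left, h4, hμ.isIrr.dot_self]; exact one_ne_zero), ?_⟩, ?_,
    fun h5 => hQM.index (h5.trans (indexgS M hQT))⟩
  · rw [h3.isChar.charDegree_Ind inf_le_left, h3.charDegree_eq, mul_one]
  · by_contra h5
    exact h2 ((hβ.isChar.le_cfker_Res hRQ (hR.commg_le hP.le)).1 ((le_inertia_lin hμ
      (hP.le.trans hR.2)).1 ((le_of_index_of_normal hP.pgroup hP.le hT h5).trans inf_le_right)))

/-- a regular linear character of `O_S(F(M))` -/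
theorem caseA_reg [hp : Fact p.Prime] (hs : Group.IsSolvable M) (hE : ¬ p ∣ Nat.card (fit M))
    (hA : D M ≤ fit M) (hP : Syl p P M) (h : core πᶜ (fit M) ≤ 𝐂[P]) :
    ∃ μ, IsLin (core π (fit M)) μ ∧
      v p ((M ⊓ inertia (core π (fit M)) μ).relIndex M) = v p (Nat.card M) := by
  set E := fit M
  have hEM : E ⊴ M := Fitting_normal M
  have hEn : Group.IsNilpotent E := Fitting_nil M
  have hPE : P ⊓ E = ⊥ := coprime_TIg (coprime_pgroup hP.pgroup hE)
  obtain ⟨μ, h1, h2⟩ := exists_regular hP.pgroup (derG1P.1 (le_bot_iff.1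
    ((le_inf (der_sub P) ((dergS hP.le).trans hA)).trans_eq hPE))) (hP.le.trans (hEM.core π).2)
    (nilpotentS (pcore_sub _ _) hEn) fun h => hE (h.trans (Subgroup.card_dvd_of_le (pcore_sub _ _)))
  have hI : M ⊓ inertia (core π E) μ ⊴ M :=
    sub_der1_normal (hA.trans (le_inf hEM.1 (nil_le_inertia hEn h1.isCF))) inf_le_left
  have h3 : P ⊓ (M ⊓ inertia (core π E) μ) = ⊥ := le_bot_iff.1 ((le_inf inf_le_left
    ((le_inf (inf_le_left.trans hP.le) ((centsY ((inf_le_inf_left P inf_le_right).trans h2)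
      (inf_le_left.trans (centsC.1 h))).trans (centS (nilpotent_pcoreC π hEn).sup_eq.ge))).trans
      (cent_sub_Fitting hs))).trans_eq hPE)
  refine ⟨μ, h1, ?_⟩
  rw [← Subgroup.relIndex_bot_left, v_relIndex bot_le hI.1, Subgroup.relIndex_bot_left,
    v_eq_zero ((Sylow_setI_normal hI hP).eq_bot_iff.1 h3), zero_add]

/-- a nonabelian Sylow subgroup of `M'` when there are only two nonlinear degrees -/
theorem caseA_two (hA : D M ≤ fit M) (h2 : D (D M) ≠ ⊥) (h3 : ∀ a b c, Deg M a → Deg M b → Deg M c →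
      a ≠ 1 → b ≠ 1 → c ≠ 1 → a = b ∨ a = c ∨ b = c) :
    ∃ r, r.Prime ∧ ∃ R, R ⊴ M ∧ R ≤ core {r} (fit M) ∧ R ≠ ⊥ ∧ IsMulCommutative R ∧
      ∃ u w, Deg M u ∧ Deg M w ∧ u ≠ 1 ∧ w ≠ 1 ∧ v r w < v r u ∧ ∀ n, DegN M R n → n = u := by
  obtain ⟨r, hr, h4⟩ := exists_nonabelian_core (nilpotentS hA (Fitting_nil M)) h2
  haveI := Fact.mk hr
  have hR : core {r} (D M) ⊴ M := (der_normal M).core _
  have hRp := pcore_pgroup' r (D M)
  have hRD : core {r} (D M) ≤ D M := pcore_sub _ _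
  obtain ⟨u, hu⟩ := exists_degN hR.der.1 h4
  obtain ⟨w, hw, h5⟩ := K1 hR hRp hu
  have hu1 := hu.ne_one ((der_sub _).trans hRD)
  have hw1 := hw.ne_one hRD
  have h6 : ∀ n, DegN M (D (core {r} (D M))) n → n = u := fun n hn => by
    obtain ⟨m, hm, h6⟩ := K1 hR hRp hn
    have := ne_of_v h5
    rcases h3 u w n hu.deg hw.deg hn.deg hu1 hw1 (hn.ne_one ((der_sub _).trans hRD)) with e | e | e
    · omega
    · omega
    · rcases h3 u w m hu.deg hw.deg hm.deg hu1 hw1 (hm.ne_one hRD) with e' | e' | e' <;>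
        subst_vars <;> omega
  refine ⟨r, hr, _, hR.der, (der_sub _).trans (nil_le_core (Fitting_nil M) (hRD.trans hA)
    (pcore_pgroup _ _)), h4, derG1P.1 (by_contra fun h7 => ?_), u, w, hu.deg, hw.deg, hu1, hw1, h5, h6⟩
  obtain ⟨n, hn⟩ := exists_degN hR.der.der.1 h7
  obtain ⟨m, hm, h8⟩ := K1 hR.der (hRp.to_le (der_sub _)) hn
  exact ne_of_v h8 ((h6 m hm).trans (h6 n (hn.mono (der_sub _))).symm)

end Cfsg.FT.Gar
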