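import Cfsg.Agent.CT.Gar3

/-! Garrison's theorem, part 4: solvable groups with four character degrees. -/

set_option autoImplicit false
set_option linter.unusedSectionVars false
set_option linter.style.haveILetI false

namespace Cfsg.FT.Gar

open scoped Pointwise Classical

variable {G : Type*} [Group G] [Finite G] {G' : Type*} [Group G'] [Finite G'] {f : G →* G'}
  {L F : Subgroup G} {M P : Subgroup G'} {p q n : ℕ}

theorem chain [Fact p.Prime] (h4 : H4 L) (hp : IsPGroup p (D L)) : D (D (D (D L))) = ⊥ := by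
  by_contra h
  have n1 := der_normal L
  have l2 : D (D L) ≤ D L := der_sub _
  have l3 : D (D (D L)) ≤ D L := (der_sub _).trans l2
  obtain ⟨a, ha⟩ := exists_degN n1.der.der.der.1 h
  obtain ⟨b, hb, h1⟩ := K1 n1.der.der (hp.to_le l3) ha
  obtain ⟨c, hc, h2⟩ := K1 n1.der (hp.to_le l2) hb
  obtain ⟨d, hd, h3⟩ := K1 n1 hp hc
  rcases h4 a b c d ha.deg hb.deg hc.deg hd.deg (ha.ne_one ((der_sub _).trans l3)) (hb.ne_one l3)
    (hc.ne_one l2) (hd.ne_one le_rfl) with e | e | e | e | e | e <;> subst e <;> omega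

/-- the reduced situation -/
structure Core (p : ℕ) (f : G →* G') (L F : Subgroup G) (M : Subgroup G') : Prop
    extends Bar f L F M where
  sol : Group.IsSolvable L
  eq : core {p} L = F
  p' : core {p}ᶜ L = ⊥
  h4 : H4 L

namespace Core

variable [hp : Fact p.Prime] (h : Core p f L F M)
include h

theorem pF : IsPGroup p F := h.eq ▸ pcore_pgroup' p L
theorem solM : Group.IsSolvable M := by
  haveI := h.sol
  exact Group.isSolvable_of_surjective h.onto.hom_surjective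
theorem pE : ¬ p ∣ Nat.card (fit M) := by
  rw [← (Sylow_Fitting p M).eq_bot_iff, ← h.map_comap (pcore_sub {p} M), h.map_le_iff, ← h.eq]
  exact pcore_max' ((pcore_pgroup' p M).comap_of_ker_isPGroup f (h.ker ▸ h.pF))
    (h.comap_normal (pcore_normal _ _))
theorem degL (hn : Deg M n) : Deg L n := (h.deg.1 hn).deg
theorem dvd (hn : DegN L (D F) n) : p ∣ n := by
  obtain ⟨θ, h1, h2, h3⟩ := h.exists_under hn
  exact ((dvd_deg h.pF h1 h2).mul_right _).trans h3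
theorem ne_one (hn : DegN L (D F) n) : n ≠ 1 := hn.ne_one (dergS h.le)
theorem der_ne (hM : D M ≠ ⊥) : ¬ D L ≤ F := by rwa [← h.map_le_iff, h.map_der]
theorem exists_p' (hM : D M ≠ ⊥) : ∃ d, Deg L d ∧ d ≠ 1 ∧ ¬ p ∣ d := by
  by_contra hc
  push Not at hc
  have h1 := (pNil_of_dvd hc).index
  rw [h.p', Subgroup.relIndex_bot_left] at h1
  exact h.der_ne hM ((der_sub L).trans (h.eq ▸ (pcore_pgroup_id h1).ge))
theorem big (hM : D M ≠ ⊥) : ∃ c, Deg L c ∧ c ≠ 1 ∧ ∀ n, Deg M n → n < c := by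
  obtain ⟨c, h1, h2, h3⟩ := exists_big h.sol (fun e => h.der_ne hM (e ▸ bot_le))
  rw [Fitting_eq_pcore h.p', h.eq] at h3
  exact ⟨c, h1, h2, fun n hn => h3 n (h.deg.1 hn)⟩
theorem three (hM : D M ≠ ⊥) (a b c : ℕ) (ha : Deg M a) (hb : Deg M b) (hc : Deg M c) (h1 : a ≠ 1)
    (h2 : b ≠ 1) (h3 : c ≠ 1) : a = b ∨ a = c ∨ b = c := by
  obtain ⟨d, h4, h5, h6⟩ := h.big hM
  have := h.h4 a b c d (h.degL ha) (h.degL hb) (h.degL hc) h4 h1 h2 h3 h5
  have := h6 a ha; have := h6 b hb; have := h6 c hc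
  omega
theorem der3 (hM : D M ≠ ⊥) : D (D (D L)) ≤ F :=
  der3_le h.normal fun a b c ha hb hc => h.three hM a b c (h.deg.2 ha) (h.deg.2 hb) (h.deg.2 hc)
theorem multiples (hM : D M ≠ ⊥) {a b c : ℕ} (ha : Deg L a) (hb : Deg L b) (hc : Deg L c)
    (h1 : p ∣ a) (h2 : p ∣ b) (h3 : p ∣ c) : a = b ∨ a = c ∨ b = c := by
  obtain ⟨d, h4, h5, h6⟩ := h.exists_p' hM
  have h7 := hp.out.one_lt.ne'
  have := h.h4 a b c d ha hb hc h4 (ne_of_dvd h1 (by simpa)) (ne_of_dvd h2 (by simpa))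
    (ne_of_dvd h3 (by simpa)) h5
  have := ne_of_dvd h1 h6; have := ne_of_dvd h2 h6; have := ne_of_dvd h3 h6
  omega
theorem exists_two (hF : D (D F) ≠ ⊥) : ∃ a b, DegN L (D F) a ∧ DegN L (D F) b ∧ a ≠ b := by
  obtain ⟨a, ha⟩ := exists_degN h.normal.der.der.1 hF
  obtain ⟨b, hb, h1⟩ := K1 h.normal.der (h.pF.to_le (der_sub _)) ha
  exact ⟨a, b, ha.mono (der_sub _), hb, (ne_of_v h1).symm⟩
theorem der3F (hM : D M ≠ ⊥) : D (D (D F)) = ⊥ := by
  by_contra h0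
  obtain ⟨a, ha⟩ := exists_degN h.normal.der.der.der.1 h0
  obtain ⟨b, hb, h1⟩ := K1 h.normal.der.der (h.pF.to_le ((der_sub _).trans (der_sub _))) ha
  obtain ⟨c, hc, h2⟩ := K1 h.normal.der (h.pF.to_le (der_sub _)) hb
  rcases h.multiples hM ha.deg hb.deg hc.deg (h.dvd (ha.mono ((der_sub _).trans (der_sub _))))
    (h.dvd (hb.mono (der_sub _))) (h.dvd hc) with e | e | e <;> subst e <;> omega
/-- a degree missing from `cd(L / F')` -/
theorem der3_of_not (h1 : Deg L n) (h2 : n ≠ 1) (h3 : ¬ DegK L (D F) n) : D (D (D L)) ≤ D F :=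
  der3_le h.normal.der fun a b c ha hb hc h4 h5 h6 => by
    have := h.h4 a b c n ha.deg hb.deg hc.deg h1 h4 h5 h6 h2
    have : a ≠ n := fun e => h3 (e ▸ ha)
    have : b ≠ n := fun e => h3 (e ▸ hb)
    have : c ≠ n := fun e => h3 (e ▸ hc)
    omega

theorem case1 (hM : D M ≠ ⊥) (hF : D F ≠ ⊥) (hc : ¬ p ∣ Nat.card M) : D (D (D (D L))) = ⊥ := by
  have h1 : ∀ n, DegN L (D F) n → ¬ DegK L (D F) n := fun n hn hn' =>
    hc ((h.dvd hn).trans (h.degK_dvd hn'))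
  by_cases h2 : D (D F) = ⊥
  · obtain ⟨y, hy⟩ := exists_degN h.normal.der.1 hF
    exact le_bot_iff.1 ((dergS (h.der3_of_not hy.deg (h.ne_one hy) (h1 y hy))).trans_eq h2)
  · obtain ⟨c, d, hc, hd, h3⟩ := h.exists_two h2
    refine le_bot_iff.1 ((dergS (dergS (der2_le h.normal.der fun a b ha hb h4 h5 => ?_))).trans_eq
      (h.der3F hM))
    have := h.h4 a b c d ha.deg hb.deg hc.deg hd.deg h4 h5 (h.ne_one hc) (h.ne_one hd)
    have : a ≠ c := fun e => h1 c hc (e ▸ ha)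
    have : a ≠ d := fun e => h1 d hd (e ▸ ha)
    have : b ≠ c := fun e => h1 c hc (e ▸ hb)
    have : b ≠ d := fun e => h1 d hd (e ▸ hb)
    omega

theorem caseB (hB : ¬ D M ≤ fit M) (hF : D F ≠ ⊥) : False := by
  have hM : D M ≠ ⊥ := fun e => hB (e ▸ bot_le)
  obtain ⟨c, hc, hc1, hc2⟩ := h.big hM
  obtain ⟨b, hb, hb1, hb2⟩ := exists_big h.solM hM
  obtain ⟨a, ha, ha1⟩ := exists_degK (Fitting_normal M) hB
  have hab := hb2 a ha
  have hbc := hc2 b hb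
  have ha0 := ha.deg.pos
  have dL : ∀ n, Deg L n → n = 1 ∨ n = a ∨ n = b ∨ n = c := fun n hn => by
    by_cases e : n = 1
    · exact Or.inl e
    · have := h.h4 a b c n (h.degL ha.deg) (h.degL hb) hc hn ha1 hb1 hc1 e
      omega
  have dM : ∀ n, Deg M n → n = 1 ∨ n = a ∨ n = b := fun n hn => by
    have := dL n (h.degL hn); have := hc2 n hn; omega
  obtain ⟨r, hr, R, hR, hRp, hRE, hRD, h1, h2⟩ := caseB_aux ⟨by omega, hab⟩ dM (fun n hn => by
    have := dM n hn.deg; have := hb2 n hn; omega) hB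
  haveI := Fact.mk hr
  have hab' : D R = ⊥ := by
    by_contra h3
    obtain ⟨n, hn⟩ := exists_degN hR.der.1 h3
    obtain ⟨m, hm, h4⟩ := K1 hR hRp hn
    exact ne_of_v h4 ((h2 m hm).trans (h2 n (hn.mono (der_sub _))).symm)
  have hpR : ¬ p ∣ Nat.card R := fun h3 => h.pE (h3.trans (Subgroup.card_dvd_of_le hRE))
  have SI : ∀ J ≤ M, J.relIndex M ∣ a → D M ≤ J := fun J hJ h3 =>
    der_le_of_index hJ fun n hn h4 => by
      have := Nat.le_of_dvd ha0 h3; have := dM n hn; omega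
  have key : ∀ J ≤ M, ∀ n, Deg L n → J.relIndex M ∣ n → n ≠ c → R ≤ J := fun J hJ n hn h3 h4 => by
    by_contra h5
    obtain ⟨m, hm, h6⟩ := K2 hR hRp hJ h5
    have h7 := h6.trans_le (v_le_of_dvd h3 hn.pos.ne')
    rw [h2 m hm] at h7
    rcases dL n hn with e | e | e | e <;> subst e
    · simp [v_one] at h7
    · exact h5 (hRD.trans (SI J hJ h3))
    · exact h7.false
    · exact h4 rfl
  obtain ⟨d, hd, h3, J, hJ, h4, h5⟩ := h.K4 h.pF h.p' hR (fun e => h1 (e ▸ cents1 _))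
    (derG1P.1 hab') hpR
  obtain rfl : d = c := by_contra fun e => h4 (key J hJ d hd h5 e)
  obtain ⟨y, hy⟩ := exists_degN h.normal.der.1 hF
  obtain ⟨θ, hθ, h6, h7⟩ := h.exists_under hy
  have h8 := key _ (h.Jb_le θ) y hy.deg ((Dvd.intro_left _ rfl).trans h7) (ne_of_dvd (h.dvd hy) h3)
  have h9 := hR.commg_le (der_sub M)
  obtain ⟨μ, hμ, -, h10⟩ := exists_lin_le_cfker_not_le hab'.le bot_le h9
    fun e => h1 (commG1P'.1 (le_bot_iff.1 e))
  obtain ⟨φ, h11, h12, h13⟩ := K6 (p := p) hR hμ fun e => hpR (e.trans hμ.linOrder_dvd_card)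
  rw [h2 _ ⟨φ, h11, fun e => h10 (h9.trans
    ((h11.le_cfker_iff_of_over hμ.isIrr hR.1 h12 le_rfl hR.2).2 e)), rfl⟩] at h13
  obtain ⟨n, hn, h14, -, -⟩ := h.K3 h.pF hθ h6 le_rfl h8 hR hpR hμ hr
  rw [hμ.isCF.Res_eq] at h14
  have h15 := h13.trans_lt (v_lt_of_dvd hp.out (dvd_deg h.pF hθ h6) h14 hn.deg.pos.ne')
  rcases dL n hn.deg with e | e | e | e <;> subst e
  · exact h.ne_one hn rfl
  · exact h10 ((le_inertia_lin hμ ((der_sub M).trans hR.2)).1
      ((SI _ inf_le_left ((Dvd.intro_left _ rfl).trans h14)).trans inf_le_right))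
  · exact h15.false
  · exact h3 (h.dvd hn)

theorem zlem (hA : D M ≤ fit M) (hP : Syl p P M) (hq : q.Prime) (h1 : ¬ core {q} (fit M) ≤ 𝐂[P]) :
    ∃ z, Deg M z ∧ p ∣ z ∧ ¬ q ∣ z ∧
      (DegN L (D F) z → ∃ n, DegN L (D F) n ∧ ¬ q ∣ n ∧ v p z < v p n) := by
  haveI := Fact.mk hq
  obtain ⟨hqp, Q, β, hQ, hR, hβ, h2, h3, h4⟩ := caseA_aux h.solM h.pE hA hP h1
  refine ⟨_, h2, h3, h4, fun hz => ?_⟩
  obtain ⟨θ, hθ, h5, h6⟩ := h.exists_under hz
  obtain ⟨g, hg, h7⟩ := exists_le_conj hQ.pgroup hQ.le (h.Jb_le θ)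
    fun e => h4 (e.trans ((Dvd.intro_left _ rfl).trans h6))
  obtain ⟨θ', hθ', h8, h9⟩ := h.exists_Jb_conj hθ hg
  obtain ⟨n, hn, h10, -, h11⟩ := h.K3 h.pF hθ' (h8 ▸ h5) hR (h9 ▸ h7) ((Fitting_normal M).core _)
    (not_dvd_card_of_pgroup hQ.pgroup hqp) hβ hq
  refine ⟨n, hn, not_dvd_of_v hq hn.deg.pos.ne' (Nat.le_zero.1 (h11.trans_eq (v_eq_zero ?_))),
    v_lt_of_dvd hp.out (dvd_deg h.pF hθ' (h8 ▸ h5)) h10 hn.deg.pos.ne'⟩
  rw [hq.dvd_mul, h8]
  exact not_or.2 ⟨hQ.index, fun e => h4 (e.trans ((Dvd.intro _ rfl).trans h6))⟩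

theorem exists_S (hP : Syl p P M) (hd : p ∣ Nat.card M) :
    ∃ q, q.Prime ∧ ¬ core {q} (fit M) ≤ 𝐂[P] := by
  by_contra hc
  push Not at hc
  have h1 := core_le_of_forall (π := Set.univ) (Fitting_nil M) fun r hr _ => hc r hr
  rw [pcore_pgroup_id (piNat_univ _)] at h1
  exact hP.ne_bot hd (le_bot_iff.1 ((le_inf le_rfl ((le_inf hP.le (centsC.1 h1)).trans
    (cent_sub_Fitting h.solM))).trans_eq (coprime_TIg (coprime_pgroup hP.pgroup h.pE))))

theorem caseA1 (hM : D M ≠ ⊥) (hA : D M ≤ fit M) (hd : p ∣ Nat.card M) {a b : ℕ}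
    (ha : DegN L (D F) a) (hb : DegN L (D F) b) (hab : a ≠ b) : D (D (D (D L))) = ⊥ := by
  obtain ⟨P, hP⟩ := Sylow_exists p M
  have h1 : ∀ n, Deg L n → p ∣ n → n = a ∨ n = b := fun n hn h1 => by
    have := h.multiples hM ha.deg hb.deg hn (h.dvd ha) (h.dvd hb) h1
    omega
  have h2 : ∀ n, Deg L n → p ∣ n → DegN L (D F) n := fun n hn h2 => by
    rcases h1 n hn h2 with e | e <;> rwa [e]
  let S : Set ℕ := {q | ¬ core {q} (fit M) ≤ 𝐂[P]}
  have h3 : ∀ q, q.Prime → q ∈ S → ∀ n, DegN L (D F) n → ¬ q ∣ n := fun q hq hS n hn => by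
    obtain ⟨z, h3, h4, h5, h6⟩ := h.zlem hA hP hq hS
    obtain ⟨w, h7, h8, h9⟩ := h6 (h2 z (h.degL h3) h4)
    have := ne_of_v h9
    rcases h.multiples hM (h.degL h3) h7.deg hn.deg h4 (h.dvd h7) (h.dvd hn) with e | e | e
    · exact absurd e this
    · exact e ▸ h5
    · exact e ▸ h8
  obtain ⟨μ, hμ, h4⟩ := caseA_reg (π := S) h.solM h.pE hA hP
    (core_le_of_forall (Fitting_nil M) fun r _ hr => not_not.1 hr)
  obtain ⟨q, hq, hS⟩ := h.exists_S hP hd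
  obtain ⟨z, h5, h6, -, -⟩ := h.zlem hA hP hq hS
  have h7 := v_le_of_dvd (r := p) h5.dvd Nat.card_pos.ne'
  have hT : core S (fit M) ⊴ M := (Fitting_normal M).core _
  have h8 : ∀ θ, IsIrr F θ → charDegree θ ≠ 1 → ∃ n, DegN L (D F) n ∧
      v p n = v p (charDegree θ) + v p (Nat.card M) ∧ v p (Nat.card M) < v p n := fun θ hθ h8 => by
    obtain ⟨m, hm, h9⟩ := h.exists_over hθ h8
    obtain ⟨n, hn, h10, h11, -⟩ := h.K3 h.pF hθ h8 le_rfl
      (core_le_of_forall (Fitting_nil M) fun r hr hrS => by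
        haveI := Fact.mk hr
        exact le_of_normal_of_index (pcore_pgroup' r _) ((Fitting_normal M).core _) (h.Jb_le θ)
          fun e => h3 r hr hrS m hm (e.trans ((Dvd.intro_left _ rfl).trans h9))) hT
      (fun e => h.pE (e.trans (Subgroup.card_dvd_of_le (pcore_sub _ _)))) hμ hq
    rw [hμ.isCF.Res_eq] at h10
    have e1 := v_le_of_dvd (r := p) h10 hn.deg.pos.ne'
    have e2 := v_le_of_dvd (r := p) (h11.trans (Nat.mul_dvd_mul_left _
      (Subgroup.relIndex_dvd_card _ M))) (mul_ne_zero hθ.charDegree_pos.ne' Nat.card_pos.ne')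
    rw [v_mul hθ.charDegree_pos.ne' (relIndex_pos _ _).ne', h4] at e1
    rw [v_mul hθ.charDegree_pos.ne' Nat.card_pos.ne'] at e2
    have := v_pos hp.out hθ.charDegree_pos.ne' (dvd_deg h.pF hθ h8)
    exact ⟨n, hn, by omega, by omega⟩
  have h9 : D (D F) ≤ ⊥ := der2_le (normal1 F) <| by
    rintro _ _ ⟨θ, hθ, -, rfl⟩ ⟨θ', hθ', -, rfl⟩ e e'
    obtain ⟨n, hn, e1, e2⟩ := h8 θ hθ e
    obtain ⟨n', hn', e1', e2'⟩ := h8 θ' hθ' e'
    obtain ⟨j, hj⟩ := hθ.exists_charDegree_eq_pow h.pF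
    obtain ⟨j', hj'⟩ := hθ'.exists_charDegree_eq_pow h.pF
    rw [hj, v_pow hp.out] at e1
    rw [hj', v_pow hp.out] at e1'
    rw [hj, hj']
    rcases h.multiples hM hn.deg hn'.deg (h.degL h5) (h.dvd hn) (h.dvd hn') h6 with e | e | e <;>
      subst e <;> congr 1 <;> omega
  obtain ⟨θ, hθ, h10, -⟩ := h.exists_under ha
  obtain ⟨n, hn, -, h11⟩ := h8 θ hθ h10
  exact le_bot_iff.1 ((dergS (h.der3_of_not hn.deg (h.ne_one hn) fun e =>
    (v_le_of_dvd (h.degK_dvd e) Nat.card_pos.ne').not_gt h11)).trans h9)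

theorem caseA2 (hM : D M ≠ ⊥) (hF : D F ≠ ⊥) (hA : D M ≤ fit M) (hd : p ∣ Nat.card M)
    (h1 : ∀ a b, DegN L (D F) a → DegN L (D F) b → a = b) : D (D (D (D L))) = ⊥ := by
  have h2 : D (D F) = ⊥ := by_contra fun e => by
    obtain ⟨a, b, ha, hb, h2⟩ := h.exists_two e
    exact h2 (h1 a b ha hb)
  by_contra h3
  have h4 : D (D M) ≠ ⊥ := fun e => h3 (le_bot_iff.1 ((dergS (dergS (h.map_le_iff.1 (by
    rw [Subgroup.map_commutator, h.map_der, ← e])))).trans_eq h2))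
  obtain ⟨P, hP⟩ := Sylow_exists p M
  obtain ⟨r, hr, R, hR, hRE, hR0, hRa, u, w, hu, hw, hu1, hw1, huw, h5⟩ := caseA_two hA h4 (h.three hM)
  haveI := Fact.mk hr
  have hRp := (pcore_pgroup' r _).to_le hRE
  have hpR : ¬ p ∣ Nat.card R := fun e =>
    h.pE (e.trans (Subgroup.card_dvd_of_le (hRE.trans (pcore_sub _ _))))
  have key : ∀ J ≤ M, ∀ n, Deg L n → J.relIndex M ∣ n → ¬ R ≤ J → v r u < v r n :=
    fun J hJ n hn h6 h7 => by
      obtain ⟨m, hm, h8⟩ := K2 hR hRp hJ h7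
      exact (h5 m hm ▸ h8).trans_le (v_le_of_dvd h6 hn.pos.ne')
  obtain ⟨d, h6, h7, J, hJ, h8, h9⟩ := h.K4 h.pF h.p' hR hR0 hRa hpR
  have h10 := key J hJ d h6 h9 h8
  have h11 : ∀ n, Deg L n → p ∣ n → n = u ∨ n = w := fun n hn h11 => by
    have := h.h4 u w d n (h.degL hu) (h.degL hw) h6 hn hu1 hw1 (fun e => by simp [e, v_one] at h10)
      (ne_of_dvd h11 (by simpa using hp.out.one_lt.ne'))
    have := ne_of_v h10; have := ne_of_v huw; have := ne_of_v (huw.trans h10)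
    have := ne_of_dvd h11 h7
    omega
  obtain ⟨μ, hμ, -, h12⟩ := exists_lin_le_cfker_not_le (derG1P.2 hRa).le bot_le le_rfl
    fun e => hR0 (le_bot_iff.1 e)
  obtain ⟨φ, h13, h14, h15⟩ := K6 (p := p) hR hμ fun e => hpR (e.trans hμ.linOrder_dvd_card)
  rw [h5 _ ⟨φ, h13, fun e => h12
    ((h13.le_cfker_iff_of_over hμ.isIrr hR.1 h14 le_rfl hR.2).2 e), rfl⟩] at h15
  obtain ⟨y, hy⟩ := exists_degN h.normal.der.1 hF
  rcases h11 y hy.deg (h.dvd hy) with e | e <;> subst e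
  · obtain ⟨θ, hθ, h16, h17⟩ := h.exists_under hy
    obtain ⟨n, hn, h18, -, -⟩ := h.K3 h.pF hθ h16 le_rfl (by_contra fun e =>
      (key _ (h.Jb_le θ) y hy.deg ((Dvd.intro_left _ rfl).trans h17) e).false) hR hpR hμ hr
    rw [hμ.isCF.Res_eq, h1 n y hn hy] at h18
    exact (h15.trans_lt (v_lt_of_dvd hp.out (dvd_deg h.pF hθ h16) h18 hy.deg.pos.ne')).false
  · have h16 : ∀ q, q.Prime → ¬ core {q} (fit M) ≤ 𝐂[P] → p ∣ u ∧ ¬ q ∣ u := fun q hq hS => by
      obtain ⟨z, e1, e2, e3, e4⟩ := h.zlem hA hP hq hS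
      rcases h11 z (h.degL e1) e2 with e | e <;> subst e
      · exact ⟨e2, e3⟩
      · obtain ⟨n, hn, -, e5⟩ := e4 hy
        exact absurd (h1 _ _ hy hn) (ne_of_v e5)
    obtain ⟨q, hq, hS⟩ := h.exists_S hP hd
    have h17 : core {r} (fit M) ≤ 𝐂[P] := by_contra fun e =>
      (h16 r hr e).2 (dvd_of_v_pos (by omega))
    rw [v_eq_zero (n := Subgroup.relIndex _ _) fun e => hP.index (e.trans (indexgS M (le_inf hP.le
      ((centsC.1 (hRE.trans h17)).trans hμ.isCF.cent_sub_inertia))))] at h15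
    exact (v_pos hp.out hu.pos.ne' (h16 q hq hS).1).not_ge h15

theorem main : D (D (D (D L))) = ⊥ := by
  by_cases hM : D M = ⊥
  · exact chain h.h4 (h.pF.to_le (h.map_le_iff.1 (h.map_der.trans hM)))
  by_cases hF : D F = ⊥
  · exact le_bot_iff.1 ((dergS (h.der3 hM)).trans_eq hF)
  by_cases hA : D M ≤ fit M
  swap
  · exact (h.caseB hA hF).elim
  by_cases hd : p ∣ Nat.card M
  swap
  · exact h.case1 hM hF hd
  by_cases h1 : ∀ a b, DegN L (D F) a → DegN L (D F) b → a = b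
  · exact h.caseA2 hM hF hA hd h1
  · push Not at h1
    obtain ⟨a, b, ha, hb, h1⟩ := h1
    exact h.caseA1 hM hA hd ha hb h1

end Core

theorem bar_mk (N : Subgroup G) [N.Normal] : Bar (QuotientGroup.mk' N) ⊤ N ⊤ :=
  ⟨QuotientGroup.ker_mk' N, le_top, Subgroup.map_top_of_surjective _ (QuotientGroup.mk'_surjective N)⟩

universe u

theorem garrison (G : Type u) [Group G] [Finite G] :
    Group.IsSolvable G → H4 (⊤ : Subgroup G) → D (D (D (D (⊤ : Subgroup G)))) = ⊥ := by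
  refine induction_on_card (P := fun G _ _ => Group.IsSolvable G → H4 (⊤ : Subgroup G) →
    D (D (D (D (⊤ : Subgroup G)))) = ⊥) (fun G _ _ ih hs h4 => ?_) G
  have h1 : ∀ N : Subgroup G, N ⊴ ⊤ → N ≠ ⊥ → D (D (D (D (⊤ : Subgroup G)))) ≤ N := fun N hN h0 => by
    haveI := normalIn_top.1 hN
    have hb := bar_mk N
    have := ih (G ⧸ N) (card_quotient_lt h0) inferInstance fun a b c d ha hb' hc hd =>
      h4 a b c d (hb.deg.1 ha).deg (hb.deg.1 hb').deg (hb.deg.1 hc).deg (hb.deg.1 hd).deg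
    rw [← hb.map_le_iff, ← this]
    simp only [Subgroup.map_commutator, hb.map]
  by_cases h0 : (⊤ : Subgroup G) = ⊥
  · simp [h0]
  obtain ⟨p, hp, h2⟩ := sol_core_ne_bot (H := (⊤ : Subgroup G)) inferInstance h0
  haveI := Fact.mk hp
  by_cases h3 : core {p}ᶜ (⊤ : Subgroup G) = ⊥
  · haveI := normalIn_top.1 (pcore_normal {p} (⊤ : Subgroup G))
    exact Core.main (p := p) ⟨bar_mk _, inferInstance, rfl, h3, h4⟩
  · exact le_bot_iff.1 ((le_inf (h1 _ (pcore_normal _ _) h2) (h1 _ (pcore_normal _ _) h3)).trans_eq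
      (TI_pcoreC _ _ _))

end Cfsg.FT.Gar
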