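import Mathlib
import Cfsg.Agent.CT.Glauberman

/-! Complements to the Glauberman correspondence. -/

set_option autoImplicit false
set_option linter.unusedSectionVars false

namespace Cfsg

open scoped ComplexConjugate

universe u v w

section
variable {G : Type u} [Group G] [Finite G] {N : Subgroup G} [hN : N.Normal]

omit hN in
/-- constituents of a character whose restriction is a multiple of `θ` lie over `θ` -/
theorem IsCharacter.over_of_res_eq_mul [Fintype G] [Fintype N] {ξ : G → ℂ} (hξ : IsCharacter G ξ)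
    {θ : IrrCharacter N} {e : ℂ} (h : ∀ n : N, ξ n = e * θ.1 n) {η : IrrCharacter G}
    (hη : classInner ξ η.1 ≠ 0) : classInner (fun n : N => η.1 n) θ.1 ≠ 0 := by
  obtain ⟨φ, hφ⟩ := η.exists_under N
  have h1 := hξ.classInner_comp_ne_zero N.subtype η φ.isCharacter hη hφ
  simp only [Subgroup.coe_subtype, h, classInner_const_mul_left] at h1
  rwa [IrrCharacter.eq_of_classInner_ne_zero (right_ne_zero_of_mul h1)]

/-- Gallagher's theorem for a reducible character lying over an extendible `θ` -/
theorem IsCharacter.exists_gallagher_factor {ξ χ : G → ℂ} (hξ : IsCharacter G ξ)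
    (hχ : IsCharacter G χ) {θ : IrrCharacter N} (hext : ∀ n : N, χ n = θ.1 n) {e : ℂ}
    (h : ∀ n : N, ξ n = e * θ.1 n) :
    ∃ ψ : G ⧸ N → ℂ, IsCharacter (G ⧸ N) ψ ∧ ∀ g : G, ξ g = ψ g * χ g := by
  classical
  have := Fintype.ofFinite G
  have := Fintype.ofFinite N
  obtain ⟨m, hm⟩ := isCharacter_iff_exists_sum.1 hξ
  have h1 : ∀ η : IrrCharacter G, ∃ β : IrrCharacter (G ⧸ N), m η ≠ 0 →
      η.1 = fun g : G => β.1 (g : G ⧸ N) * χ g := fun η => by
    by_cases h0 : m η = 0
    · exact ⟨IrrCharacter.triv _, fun h => absurd h0 h⟩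
    · obtain ⟨β, hβ⟩ := gallagher_surj hχ hext η (hξ.over_of_res_eq_mul h (by
        rw [hm, classInner_sum_irr (fun η => (m η : ℂ))]
        exact Nat.cast_ne_zero.2 h0))
      exact ⟨β, fun _ => hβ⟩
  choose β hβ using h1
  refine ⟨∑ η : IrrCharacter G, fun q => (m η : ℂ) * (β η).1 q,
    IsCharacter.sum _ (fun η _ => (β η).isCharacter.nsmul _), fun g => ?_⟩
  rw [hm, Finset.sum_apply, Finset.sum_mul]
  refine Finset.sum_congr rfl (fun η _ => ?_)
  by_cases h0 : m η = 0
  · simp [h0]
  · rw [hβ η h0, mul_assoc]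

/-- the irreducible characters of degree prime to the index of a normal Hall subgroup -/
theorem card_irr_coprime_index (hcop : (Nat.card N).Coprime N.index) :
    Nat.card {χ : IrrCharacter G // (charDegree χ.1).Coprime N.index} =
      Nat.card {θ : IrrCharacter N // charInertia θ.1 = ⊤} * (N ⊔ commutator G).index := by
  classical
  have := Fintype.ofFinite {θ : IrrCharacter N // charInertia θ.1 = ⊤}
  let f : {χ : IrrCharacter G // (charDegree χ.1).Coprime N.index} →
      {θ : IrrCharacter N // charInertia θ.1 = ⊤} := fun χ =>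
    ⟨⟨_, isIrr_res_of_coprime χ.1 χ.2⟩, χ.1.isClassFunction.charInertia_res⟩
  rw [← Nat.card_congr (Equiv.sigmaFiberEquiv f), Nat.card_sigma]
  have h1 : ∀ θ : {θ : IrrCharacter N // charInertia θ.1 = ⊤},
      Nat.card {χ // f χ = θ} = (N ⊔ commutator G).index := by
    rintro ⟨θ, hθ⟩
    obtain ⟨χ, hχ, -⟩ := exists_extension_of_coprime hθ hcop
    rw [← card_extensions χ.isCharacter hχ]
    refine Nat.card_congr ⟨fun ψ => ⟨ψ.1.1, fun n =>
      congrFun (congrArg Subtype.val (congrArg Subtype.val ψ.2)) n⟩,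
      fun ψ => ⟨⟨ψ.1, ?_⟩, Subtype.ext (Subtype.ext (funext ψ.2))⟩, fun _ => rfl, fun _ => rfl⟩
    rw [charDegree_eq_of_extends ψ.2]
    exact Nat.Coprime.coprime_mul_right (coprime_charDegree_mul_detOrder θ hcop)
  simp only [h1, Finset.sum_const, Finset.card_univ, smul_eq_mul, Nat.card_eq_fintype_card]

omit hN [Finite G] in
theorem index_ker_sup_commutator {Q : Type v} [Group Q] (f : G →* Q)
    (hf : Function.Surjective f) : (f.ker ⊔ commutator G).index = (commutator Q).index := by
  rw [← map_commutator_eq_of_surjective f hf, Subgroup.index_map,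
    MonoidHom.range_eq_top.2 hf, Subgroup.index_top, mul_one, sup_comm]

end

end Cfsg
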