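import Mathlib
import Cfsg.Agent.CT.GlExtra
import Cfsg.Agent.Grp.PSolvable

/-! Invariant constituents under coprime action (Isaacs 13.27, 13.28, 13.30, 13.31). -/

set_option autoImplicit false
set_option linter.unusedSectionVars false

namespace Cfsg

open scoped ComplexConjugate

universe u v w

section ambient
variable {Γ : Type u} [Group Γ] [Finite Γ] {G N S : Subgroup Γ}

omit [Finite Γ] in
theorem classInner_res_normAut_smul [Fintype N] (hNG : N ≤ G) {s : Γ}
    (hsG : s ∈ Subgroup.normalizer (G : Set Γ)) (hsN : s ∈ Subgroup.normalizer (N : Set Γ))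
    (χ : IrrCharacter G) (θ : IrrCharacter N) :
    classInner (fun n : N => (normAut G hsG • χ).1 ⟨n, hNG n.2⟩) (normAut N hsN • θ).1 =
      classInner (fun n : N => χ.1 ⟨n, hNG n.2⟩) θ.1 :=
  classInner_comp_mulEquiv ((normAut N hsN)⁻¹ : MulAut N) (fun n : N => χ.1 ⟨n, hNG n.2⟩) θ.1

theorem clifford_exists_normAut_smul [Fintype N] (hNG : N ≤ G)
    (hGN : G ≤ Subgroup.normalizer (N : Set Γ)) (χ : IrrCharacter G) {θ φ : IrrCharacter N}
    (hθ : classInner (fun n : N => χ.1 ⟨n, hNG n.2⟩) θ.1 ≠ 0)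
    (hφ : classInner (fun n : N => χ.1 ⟨n, hNG n.2⟩) φ.1 ≠ 0) :
    ∃ (g : Γ) (hg : g ∈ G), normAut N (hGN hg) • θ = φ := by
  haveI := (Subgroup.normal_subgroupOf_iff_le_normalizer hNG).2 hGN
  have := Fintype.ofFinite (N.subgroupOf G)
  obtain ⟨g, hg⟩ := clifford_exists_smul (N := N.subgroupOf G) χ (θ := θ.subgroupOf hNG)
    (φ := φ.subgroupOf hNG) (by rwa [← classInner_res_subgroupOf hNG] at hθ)
    (by rwa [← classInner_res_subgroupOf hNG] at hφ)
  refine ⟨g, g.2, Subtype.ext (funext fun n => ?_)⟩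
  have := congrFun (congrArg Subtype.val hg) ⟨⟨n, hNG n.2⟩, n.2⟩
  rw [IrrCharacter.smul_apply] at this
  rw [IrrCharacter.mulAut_smul_apply]
  refine Eq.trans (congrArg θ.1 (Subtype.ext ?_)) this
  exact coe_normAut_inv _ _

/-- Isaacs 13.27 -/
theorem exists_invariant_under [Fintype N] (hNG : N ≤ G) [hn : (N.subgroupOf G).Normal]
    (hSG : S ≤ Subgroup.normalizer (G : Set Γ)) (hSN : S ≤ Subgroup.normalizer (N : Set Γ))
    (hcop : (N.relIndex G).Coprime (Nat.card S))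
    (hs : Group.IsSolvable (G ⧸ N.subgroupOf G) ∨ Group.IsSolvable S) (χ : IrrCharacter G)
    (hinv : ∀ s ∈ S, CharInv s χ.1) :
    ∃ θ : IrrCharacter N, classInner (fun n : N => χ.1 ⟨n, hNG n.2⟩) θ.1 ≠ 0 ∧
      ∀ s ∈ S, CharInv s θ.1 := by
  have hGN := (Subgroup.normal_subgroupOf_iff_le_normalizer hNG).1 hn
  letI : MulAction (Subgroup.normalizer (N : Set Γ)) (IrrCharacter N) :=
    MulAction.compHom _ N.normalizerMonoidHom
  obtain ⟨θ, hθ⟩ := (χ.isCharacter.comp (Subgroup.inclusion hNG)).exists_irr_constituent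
    (fun h => χ.one_ne_zero (by simpa using congrFun h 1))
  obtain ⟨g, hg, h⟩ := glauberman_exists_fixed_sub (L := Subgroup.normalizer (N : Set Γ))
    hNG hGN hSN hSN hSG hcop hs θ
    (fun k hk => (charInv_iff_smul k.2).1 (θ.isClassFunction.charInv_of_mem hk))
    (fun a ha => by
      have h1 := classInner_res_normAut_smul hNG (hSG ha) a.2 χ θ
      rw [(charInv_iff_smul (hSG ha)).1 (hinv a ha)] at h1
      obtain ⟨g, hg, h2⟩ := clifford_exists_normAut_smul hNG hGN χ hθ (h1 ▸ hθ)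
      exact ⟨⟨g, hGN hg⟩, hg, h2⟩)
  refine ⟨g • θ, ?_, fun s hs => (charInv_iff_smul (hSN hs)).2 (h ⟨s, hSN hs⟩ hs)⟩
  have h1 := classInner_res_normAut_smul hNG (G.le_normalizer hg) g.2 χ θ
  rw [(charInv_iff_smul (G.le_normalizer hg)).1 (χ.isClassFunction.charInv_of_mem hg)] at h1
  exact h1 ▸ hθ

theorem coprime_card_of_forall_pow_eq_one {H : Type v} [Group H] [Finite H] {k m : ℕ}
    (h : ∀ x : H, x ^ k = 1) (hk : k.Coprime m) : (Nat.card H).Coprime m := by
  refine Nat.coprime_of_dvd (fun p hp h1 h2 => ?_)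
  haveI := Fact.mk hp
  obtain ⟨x, hx⟩ := exists_prime_orderOf_dvd_card' p h1
  have h3 : p ∣ k := hx ▸ orderOf_dvd_of_pow_eq_one (h x)
  exact hp.one_lt.ne' (Nat.eq_one_of_dvd_coprimes hk h3 h2)

/-- the abelian step of Isaacs 13.28 -/
theorem exists_invariant_over_of_commutator_le [Fintype N] (hNG : N ≤ G) (hab : ⁅G, G⁆ ≤ N)
    (hSG : S ≤ Subgroup.normalizer (G : Set Γ)) (hSN : S ≤ Subgroup.normalizer (N : Set Γ))
    (hcop : (N.relIndex G).Coprime (G.relIndex S)) (θ : IrrCharacter N)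
    (hinv : ∀ s ∈ S, CharInv s θ.1) :
    ∃ χ : IrrCharacter G, classInner (fun n : N => χ.1 ⟨n, hNG n.2⟩) θ.1 ≠ 0 ∧
      ∀ s ∈ S, CharInv s χ.1 := by
  have hab' := commutator_le_subgroupOf hab
  haveI : (N.subgroupOf G).Normal := Subgroup.Normal.of_commutator_le _ hab'
  have := Fintype.ofFinite (N.subgroupOf G)
  have := Fintype.ofFinite G
  let Λ : Subgroup (G →* ℂˣ) :=
    { carrier := {lam | ∀ n ∈ N.subgroupOf G, lam n = 1}
      one_mem' := fun _ _ => rfl
      mul_mem' := fun {a b} ha hb n hn => by rw [MonoidHom.mul_apply, ha n hn, hb n hn, one_mul]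
      inv_mem' := fun {a} ha n hn => by rw [MonoidHom.inv_apply, ha n hn, inv_one] }
  let ρ := MulAction.toPermHom (G →* ℂˣ) (IrrCharacter G)
  let σ : S →* Equiv.Perm (IrrCharacter G) := (MulAction.toPermHom (MulAut G)
    (IrrCharacter G)).comp (G.normalizerMonoidHom.comp (Subgroup.inclusion hSG))
  have hσ : ∀ (s : S) (χ : IrrCharacter G), σ s χ = normAut G (hSG s.2) • χ := fun _ _ => rfl
  obtain ⟨χ, hχ⟩ := (θ.subgroupOf hNG).exists_over
  have hχ' : classInner (fun n : N => χ.1 ⟨n, hNG n.2⟩) θ.1 ≠ 0 := by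
    rwa [← classInner_res_subgroupOf hNG]
  obtain ⟨_, ⟨lam, hlam, rfl⟩, h⟩ := glauberman_exists_fixed (N := Λ.map ρ) (A := σ.range)
    (by
      rw [Subgroup.le_normalizer_iff]
      rintro _ ⟨s, rfl⟩ _ ⟨lam, hlam, rfl⟩
      refine ⟨lam.comp ((normAut G (hSG s.2))⁻¹ : MulAut G).toMonoidHom, fun n hn => ?_, ?_⟩
      · refine hlam _ ?_
        change (((normAut G (hSG s.2))⁻¹ : MulAut G) n : Γ) ∈ N
        rw [coe_normAut_inv]
        exact (Subgroup.mem_normalizer_iff''.1 (hSN s.2) _).1 hn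
      · rw [eq_mul_inv_iff_mul_eq]
        ext χ g
        rfl)
    (by
      refine (coprime_card_of_forall_pow_eq_one (k := N.relIndex G) ?_ hcop).coprime_dvd_right ?_
      · rintro ⟨_, lam, hlam, rfl⟩
        refine Subtype.ext ?_
        rw [Subgroup.coe_pow, ← map_pow]
        change ρ (lam ^ (N.subgroupOf G).index) = 1
        rw [unitsHom_pow_index_eq_one hlam, map_one]
      · rw [← Subgroup.index_ker]
        refine Subgroup.index_dvd_of_le (fun s hs => ?_)
        ext χ : 1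
        exact (charInv_iff_smul _).1 (χ.isClassFunction.charInv_of_mem hs))
    (Or.inl (isSolvable_map ρ inferInstance)) χ (by
      rintro _ ⟨s, rfl⟩
      have h1 := classInner_res_normAut_smul hNG (hSG s.2) (hSN s.2) χ θ
      rw [(charInv_iff_smul (hSN s.2)).1 (hinv s s.2), ← classInner_res_subgroupOf hNG] at h1
      obtain ⟨lam, hlam, h2⟩ := exists_linear_of_over_of_commutator_le hab' χ
        (normAut G (hSG s.2) • χ) hχ (by
          intro h0
          exact hχ' (h1.symm.trans h0))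
      exact ⟨_, ⟨lam, hlam, rfl⟩, Subtype.ext h2.symm⟩)
  refine ⟨lam • χ, ?_, fun s hs => (charInv_iff_smul (hSG hs)).2 (h _ ⟨⟨s, hs⟩, rfl⟩)⟩
  have : (fun n : N => (lam • χ).1 ⟨n, hNG n.2⟩) = fun n : N => χ.1 ⟨n, hNG n.2⟩ := by
    funext n
    rw [IrrCharacter.hom_smul_def, IrrCharacter.twist_apply, hlam ⟨n, hNG n.2⟩ n.2]
    simp
  rwa [this]

omit [Finite Γ] in
theorem le_of_le_sup_commutator_of_isSolvable [(N.subgroupOf G).Normal] (hNG : N ≤ G)
    (hs : Group.IsSolvable (G ⧸ N.subgroupOf G)) {H : Subgroup Γ} (hHG : H ≤ G)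
    (h : H ≤ N ⊔ ⁅H, H⁆) : H ≤ N := by
  by_contra hn
  set π := QuotientGroup.mk' (N.subgroupOf G)
  have h1 : (H.subgroupOf G).map π ≠ ⊥ := fun h0 => hn (fun x hx =>
    map_mk_eq_bot_iff.1 h0 (show (⟨x, hHG hx⟩ : G) ∈ H.subgroupOf G from hx))
  refine (Group.IsSolvable.commutator_lt_of_ne_bot h1).not_ge ?_
  rw [← Subgroup.map_commutator, map_mk_le_map_mk_iff,
    ← Subgroup.map_le_map_iff_of_injective G.subtype_injective, Subgroup.map_sup,
    Subgroup.map_commutator, Subgroup.subgroupOf_map_subtype, Subgroup.subgroupOf_map_subtype,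
    inf_eq_left.2 hHG, inf_eq_left.2 hNG, sup_comm]
  exact h

omit [Finite Γ] in
theorem le_normalizer_commutator_self {H : Subgroup Γ}
    (hS : S ≤ Subgroup.normalizer (H : Set Γ)) :
    S ≤ Subgroup.normalizer ((⁅H, H⁆ : Subgroup Γ) : Set Γ) := by
  intro s hs
  have := Subgroup.mem_normalizer_iff_map_conj_eq.1 (hS hs)
  rw [Subgroup.mem_normalizer_iff_map_conj_eq, Subgroup.map_commutator, this]

omit [Finite Γ] in
theorem le_normalizer_sup {H K : Subgroup Γ} (hH : S ≤ Subgroup.normalizer (H : Set Γ))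
    (hK : S ≤ Subgroup.normalizer (K : Set Γ)) :
    S ≤ Subgroup.normalizer ((H ⊔ K : Subgroup Γ) : Set Γ) := by
  intro s hs
  rw [Subgroup.mem_normalizer_iff_map_conj_eq, Subgroup.map_sup,
    Subgroup.mem_normalizer_iff_map_conj_eq.1 (hH hs),
    Subgroup.mem_normalizer_iff_map_conj_eq.1 (hK hs)]

theorem exists_invariant_over_aux [Fintype N] (hNG : N ≤ G)
    (hs : ∀ H ≤ G, H ≤ N ⊔ ⁅H, H⁆ → H ≤ N)
    (hGN : G ≤ Subgroup.normalizer (N : Set Γ))
    (hSG : S ≤ Subgroup.normalizer (G : Set Γ)) (hSN : S ≤ Subgroup.normalizer (N : Set Γ))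
    (hcop : (N.relIndex G).Coprime (N.relIndex S)) (θ : IrrCharacter N)
    (hinv : ∀ s ∈ S, CharInv s θ.1) :
    ∃ χ : IrrCharacter G, classInner (fun n : N => χ.1 ⟨n, hNG n.2⟩) θ.1 ≠ 0 ∧
      ∀ s ∈ S, CharInv s χ.1 := by
  induction G using WellFoundedLT.induction with
  | ind G ih =>
  by_cases hG : G ≤ N
  · obtain rfl : G = N := le_antisymm hG hNG
    exact ⟨θ, by rw [θ.classInner_self]; exact one_ne_zero, hinv⟩
  · set M := N ⊔ ⁅G, G⁆ with hM
    have := Fintype.ofFinite M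
    have hMG : M ≤ G := sup_le hNG (Subgroup.commutator_le_self G)
    have hNM : N ≤ M := le_sup_left
    have hmul := Subgroup.relIndex_mul_relIndex N M G hNM hMG
    have hSM := le_normalizer_sup hSN (le_normalizer_commutator_self hSG)
    obtain ⟨ψ, hψ, hψ'⟩ := ih M (lt_of_le_of_ne hMG (fun h => hG (hs G le_rfl h.ge))) hNM
      (fun H hH => hs H (hH.trans hMG)) (hMG.trans hGN) hSM
      (hcop.coprime_dvd_left ⟨_, hmul.symm⟩)
    obtain ⟨χ, hχ, hχ'⟩ := exists_invariant_over_of_commutator_le hMG le_sup_right hSG hSM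
      ((hcop.coprime_dvd_left (Dvd.intro_left _ hmul)).coprime_dvd_right
        (Subgroup.relIndex_dvd_of_le_left S hNG)) ψ hψ'
    exact ⟨χ, (χ.isCharacter.comp (Subgroup.inclusion hMG)).classInner_comp_ne_zero
      (Subgroup.inclusion hNM) ψ θ.isCharacter hχ hψ, hχ'⟩

/-- Isaacs 13.28 -/
theorem exists_invariant_over_of_isSolvable [Fintype N] (hNG : N ≤ G)
    [hn : (N.subgroupOf G).Normal] (hs : Group.IsSolvable (G ⧸ N.subgroupOf G))
    (hSG : S ≤ Subgroup.normalizer (G : Set Γ)) (hSN : S ≤ Subgroup.normalizer (N : Set Γ))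
    (hcop : (N.relIndex G).Coprime (N.relIndex S)) (θ : IrrCharacter N)
    (hinv : ∀ s ∈ S, CharInv s θ.1) :
    ∃ χ : IrrCharacter G, classInner (fun n : N => χ.1 ⟨n, hNG n.2⟩) θ.1 ≠ 0 ∧
      ∀ s ∈ S, CharInv s χ.1 :=
  exists_invariant_over_aux hNG (fun _ hH => le_of_le_sup_commutator_of_isSolvable hNG hs hH)
    ((Subgroup.normal_subgroupOf_iff_le_normalizer hNG).1 hn) hSG hSN hcop θ hinv

end ambient

/-! ### central products -/

section central
variable {G : Type u} [Group G] [Finite G]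

/-- gluing a character of `K` with a linear character of a central subgroup `Z` -/
theorem IsCharacter.exists_central_product {Z K : Subgroup G} (hZ : Z ≤ Subgroup.center G)
    (hZK : Z ⊔ K = ⊤) (lam : Z →* ℂˣ) {β : K → ℂ} (hβ : IsCharacter K β)
    (h : ∀ (z : Z) (hz : (z : G) ∈ K), β ⟨z, hz⟩ = lam z * β 1) :
    ∃ ψ : G → ℂ, IsCharacter G ψ ∧ ∀ (z : Z) (k : K), ψ (z * k) = lam z * β k := by
  have hc : ∀ (z : Z) (k : K), Commute (Z.subtype z) (K.subtype k) := fun z k =>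
    (Subgroup.mem_center_iff.1 (hZ z.2) k).symm
  haveI : Z.Normal := ⟨fun z hz g => by
    rwa [Subgroup.mem_center_iff.1 (hZ hz) g, mul_inv_cancel_right]⟩
  have hΘ := ((isCharacter_unitsHom lam).comp (MonoidHom.fst Z K)).mul
    (hβ.comp (MonoidHom.snd Z K))
  obtain ⟨ψ, hψ, h1⟩ := hΘ.exists_comp_eq (MonoidHom.noncommCoprod _ _ hc) (fun g => by
      obtain ⟨z, hz, k, hk, rfl⟩ := Subgroup.mem_sup_of_normal_left.1
        (hZK ▸ Subgroup.mem_top g : g ∈ Z ⊔ K)
      exact ⟨(⟨z, hz⟩, ⟨k, hk⟩), rfl⟩) (by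
      rintro ⟨z, k⟩ hzk
      rw [hΘ.mem_charKer]
      have h2 : (z : G) * k = 1 := hzk
      have h3 : ((z⁻¹ : Z) : G) = k := inv_eq_of_mul_eq_one_right h2
      have h4 := h z⁻¹ (h3 ▸ k.2)
      have h5 : (⟨(z⁻¹ : Z), h3 ▸ k.2⟩ : K) = k := Subtype.ext h3
      rw [h5] at h4
      simp [h4])
  exact ⟨ψ, hψ, fun z k => h1 (z, k)⟩

theorem IrrCharacter.apply_mul_of_over_central {Z : Subgroup G} [Fintype Z]
    (hZ : Z ≤ Subgroup.center G) (lam : Z →* ℂˣ) (χ : IrrCharacter G)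
    (h : classInner (fun z : Z => χ.1 z) (fun z => (lam z : ℂ)) ≠ 0) (z : Z) (g : G) :
    χ.1 (z * g) = lam z * χ.1 g := by
  obtain ⟨l, h1, h2, -⟩ := χ.isCharacter.exists_hom_of_le_charCenter
    (fun h0 => χ.one_ne_zero (congrFun h0 1)) (hZ.trans χ.center_le_charCenter)
  simp only [h2, classInner_const_mul_left] at h
  have h3 : IrrCharacter.ofHom l = IrrCharacter.ofHom lam :=
    IrrCharacter.eq_of_classInner_ne_zero (right_ne_zero_of_mul h)
  rw [h1, IrrCharacter.ofHom_injective h3]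

/-- a normal Hall subgroup supplementing a central subgroup -/
theorem exists_normal_hall_of_central {Z H : Subgroup G} [hH : H.Normal]
    (hZ : Z ≤ Subgroup.center G) (hZH : Z ≤ H) (hcop : H.index.Coprime (Z.relIndex H)) :
    ∃ K : Subgroup G, K.Normal ∧ Z ⊔ K = H ∧ (Nat.card K).Coprime K.index := by
  haveI : IsMulCommutative Z := ⟨⟨fun a b => Subtype.ext
    (Subgroup.mem_center_iff.1 (hZ b.2) a)⟩⟩
  obtain ⟨Y, hY1, hY2⟩ := exists_isPiHall_of_isSolvable
    (isSolvable_of_isMulCommutative (K := Z) inferInstance) {q | ¬ q ∣ Z.relIndex H}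
  set Z₁ := Y.map Z.subtype with hZ₁
  have hZ₁Z : Z₁ ≤ Z := Subgroup.map_subtype_le Y
  have hc1 : Nat.card Z₁ = Nat.card Y := card_map_subtype Y
  have hr : Z₁.relIndex H = Y.index * Z.relIndex H := by
    rw [← Subgroup.relIndex_mul_relIndex Z₁ Z H hZ₁Z hZH]
    congr 1
    rw [Subgroup.relIndex, Subgroup.subgroupOf, hZ₁,
      Subgroup.comap_map_eq_self_of_injective Z.subtype_injective]
  have hcop1 : (Nat.card Y).Coprime (Z.relIndex H) :=
    Nat.coprime_of_dvd (fun p hp h1 => hY1 p hp h1)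
  have hcop2 : (Nat.card Y).Coprime Y.index := IsPiHall.coprime ⟨hY1, hY2⟩
  have hcop3 : H.index.Coprime Y.index := Nat.coprime_of_dvd (fun p hp h1 h2 =>
    hY2 p hp (fun h3 => hp.one_lt.ne' (Nat.eq_one_of_dvd_coprimes hcop h1 h3)) h2)
  haveI : Z₁.Normal := ⟨fun z hz g => by
    rwa [Subgroup.mem_center_iff.1 (hZ (hZ₁Z hz)) g, mul_inv_cancel_right]⟩
  obtain ⟨K, -, hK2, hK3⟩ := exists_complement_in (hZ₁Z.trans hZH)
    (by rw [Subgroup.normalizer_eq_top]; exact le_top)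
    (by rw [hc1, hr]; exact Nat.Coprime.mul_right hcop2 hcop1)
  have hKH : K ≤ H := hK2 ▸ le_sup_right
  have hKr : K.relIndex H = Nat.card Y := by
    have h1 := card_mul_relIndex hKH
    rw [← card_mul_relIndex (hZ₁Z.trans hZH), hK3, hc1, mul_comm (Nat.card Y)] at h1
    refine Nat.eq_of_mul_eq_mul_left (Nat.pos_of_ne_zero ?_) h1
    rw [← hK3]; exact Nat.card_pos.ne'
  have hKc : (Nat.card K).Coprime (K.relIndex H) := by
    rw [hKr, hK3, hr]; exact (Nat.Coprime.mul_right hcop2 hcop1).symm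
  haveI : (K.subgroupOf H).Normal := by
    rw [Subgroup.normal_subgroupOf_iff_le_normalizer hKH, ← hK2]
    refine sup_le (fun z hz => ?_) K.le_normalizer
    exact Subgroup.center_le_normalizer _ (hZ (hZ₁Z hz))
  refine ⟨K, ⟨fun k hk g => ?_⟩, le_antisymm (sup_le hZH hKH) (hK2 ▸ sup_le_sup_right hZ₁Z K), ?_⟩
  · refine mem_of_coprime_orderOf_index (N := K.subgroupOf H)
      (g := ⟨g * k * g⁻¹, hH.conj_mem k (hKH hk) g⟩) ?_
    rw [Subgroup.orderOf_mk]
    have : orderOf (g * k * g⁻¹) = orderOf k := (MulAut.conj g).orderOf_eq k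
    rw [this]
    exact hKc.coprime_dvd_left (K.orderOf_dvd_natCard hk)
  · rw [← Subgroup.relIndex_mul_index hKH]
    refine Nat.Coprime.mul_right hKc ?_
    rw [hK3, hr]
    exact (Nat.Coprime.mul_right hcop3 hcop).symm

/-- the central case of Isaacs 13.31 -/
theorem exists_invariant_over_central {Z H : Subgroup G} [hH : H.Normal]
    (hZ : Z ≤ Subgroup.center G) (hZH : Z ≤ H) (hcop : H.index.Coprime (Z.relIndex H))
    (hs : Group.IsSolvable (G ⧸ H)) (lam : Z →* ℂˣ) :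
    ∃ β : IrrCharacter H, (∀ (z : Z) (h : H), β.1 (⟨z, hZH z.2⟩ * h) = lam z * β.1 h) ∧
      charInertia β.1 = ⊤ := by
  obtain ⟨K, hK, hZK, hKc⟩ := exists_normal_hall_of_central hZ hZH hcop
  have hKH : K ≤ H := hZK ▸ le_sup_right
  obtain ⟨S, hS⟩ := Subgroup.exists_right_complement'_of_coprime hKc
  obtain ⟨hKS1, hKS2⟩ := isComplement'_iff_inf_sup.1 hS
  have hSs : Group.IsSolvable S := by
    haveI : IsMulCommutative (H.subgroupOf S) := ⟨⟨fun a b => Subtype.ext (Subtype.ext (by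
      have ha : (a : G) ∈ K ⊔ Z := by rw [sup_comm, hZK]; exact a.2
      have hb : (b : G) ∈ K ⊔ Z := by rw [sup_comm, hZK]; exact b.2
      obtain ⟨k, hk, z, hz, hkz⟩ := Subgroup.mem_sup_of_normal_left.1 ha
      obtain ⟨k', hk', z', hz', hkz'⟩ := Subgroup.mem_sup_of_normal_left.1 hb
      have h1 : (a : G) * b * ((b : G) * a)⁻¹ ∈ K ⊓ S := by
        refine ⟨?_, S.mul_mem (S.mul_mem a.1.2 b.1.2) (S.inv_mem (S.mul_mem b.1.2 a.1.2))⟩
        have h2 := Subgroup.mem_center_iff.1 (hZ hz)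
        have h3 := Subgroup.mem_center_iff.1 (hZ hz')
        have : (a : G) * b * ((b : G) * a)⁻¹ = k * k' * (k' * k)⁻¹ := by
          rw [← hkz, ← hkz', mul_assoc k, ← mul_assoc z, ← h2 k', mul_assoc k' z', ← mul_assoc z',
            ← h3 k, mul_assoc k z', h2 z']
          group
        rw [this]
        exact K.mul_mem (K.mul_mem hk hk') (K.inv_mem (K.mul_mem hk' hk))
      rw [hKS1, Subgroup.mem_bot, mul_inv_eq_one] at h1
      exact h1))⟩⟩
    haveI := isSolvable_of_isMulCommutative (K := H.subgroupOf S) inferInstance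
    refine Group.isSolvable_of_ker_le_range (H.subgroupOf S).subtype
      ((QuotientGroup.mk' H).comp S.subtype) ?_
    rw [← MonoidHom.comap_ker, QuotientGroup.ker_mk', Subgroup.range_subtype]
    exact le_rfl
  set C := K ⊓ Subgroup.centralizer (S : Set G) with hC
  have hZC : Z ⊓ K ≤ C := fun z hz =>
    ⟨hz.2, fun s _ => Subgroup.mem_center_iff.1 (hZ hz.1) s⟩
  have := Fintype.ofFinite C
  have := Fintype.ofFinite ↥(Z ⊓ K)
  have := Fintype.ofFinite ((Z ⊓ K).subgroupOf C)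
  have := Fintype.ofFinite ((Z ⊓ K).subgroupOf K)
  let lam' : ↥(Z ⊓ K) →* ℂˣ := lam.comp (Subgroup.inclusion inf_le_left)
  obtain ⟨γ, hγ⟩ := ((IrrCharacter.ofHom lam').subgroupOf hZC).exists_over
  replace hγ := (classInner_res_subgroupOf hZC γ.1 (IrrCharacter.ofHom lam').1).symm.trans_ne hγ
  obtain ⟨ξ, hξ, hξγ⟩ := (constBij_of_isSolvable hSs (G := K)
    (by rw [Subgroup.normalizer_eq_top]; exact le_top) (by rwa [hS.symm.index_eq_card] at hKc)
    hC inf_le_left).exists_over (β := γ) trivial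
  have h1 := (ξ.isCharacter.comp _).classInner_comp_ne_zero (Subgroup.inclusion hZC) γ
    (IrrCharacter.ofHom lam').isCharacter hξγ hγ
  have h2 := ξ.apply_mul_of_over_central (Z := (Z ⊓ K).subgroupOf K)
    (fun z hz => Subgroup.mem_center_iff.2 fun k => Subtype.ext
      (Subgroup.mem_center_iff.1 (hZ hz.1) k))
    (lam'.comp (Subgroup.subgroupOfEquivOfLe (inf_le_right : Z ⊓ K ≤ K)).toMonoidHom)
    (by
      rw [classInner_subgroupOf (inf_le_right : Z ⊓ K ≤ K)]
      exact h1)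
  have hξinv : charInertia ξ.1 = ⊤ := by
    rw [eq_top_iff, ← hKS2]
    exact sup_le ξ.le_charInertia (fun s hs => mem_charInertia_iff_charInv.2 (hξ s hs))
  obtain ⟨ψ, hψ, hψ'⟩ := (ξ.subgroupOf hKH).isCharacter.exists_central_product
    (Z := Z.subgroupOf H)
    (fun z hz => Subgroup.mem_center_iff.2 fun k => Subtype.ext
      (Subgroup.mem_center_iff.1 (hZ hz) k))
    (by rw [← Subgroup.subgroupOf_sup hZH hKH, hZK, Subgroup.subgroupOf_self])
    (lam.comp (Subgroup.subgroupOfEquivOfLe hZH).toMonoidHom)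
    (fun z hz => by
      have h3 := h2 ⟨⟨z, hz⟩, z.2, hz⟩ 1
      rw [mul_one] at h3
      exact h3)
  have hdec : ∀ h : H, ∃ (z : Z) (k : K), (h : G) = z * k := fun h => by
    have hh : (h : G) ∈ K ⊔ Z := by rw [sup_comm, hZK]; exact h.2
    obtain ⟨k, hk, z, hz, hkz⟩ := Subgroup.mem_sup_of_normal_left.1 hh
    exact ⟨⟨z, hz⟩, ⟨k, hk⟩, by rw [← hkz]; exact Subgroup.mem_center_iff.1 (hZ hz) k⟩
  have hval : ∀ (h : H) (z : Z) (k : K), (h : G) = z * k → ψ h = lam z * ξ.1 k :=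
    fun h z k hh => by
      have := hψ' ⟨⟨z, hZH z.2⟩, z.2⟩ ⟨⟨k, hKH k.2⟩, k.2⟩
      rw [show h = ⟨z, hZH z.2⟩ * ⟨k, hKH k.2⟩ from Subtype.ext hh]
      exact this
  refine ⟨⟨ψ, hψ.isIrr_of_res (θ := ξ.subgroupOf hKH) (fun k => ?_)⟩, fun z h => ?_, ?_⟩
  · simpa using hval k 1 ⟨k, k.2⟩ (by simp)
  · obtain ⟨z', k, hh⟩ := hdec h
    change ψ _ = lam z * ψ h
    rw [hval h z' k hh, hval _ (z * z') k (by simp [hh, mul_assoc])]
    simp [mul_assoc]
  · rw [charInertia_eq_top_iff]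
    intro g h
    obtain ⟨z, k, hh⟩ := hdec h
    change ψ _ = ψ h
    rw [hval h z k hh, hval _ z ⟨g * k * g⁻¹, hK.conj_mem k k.2 g⟩ (by
      simp only [hh, ← mul_assoc, Subgroup.mem_center_iff.1 (hZ z.2) g]),
      charInertia_eq_top_iff.1 hξinv]

end central

section general
variable {Γ : Type u} [Group Γ] [Finite Γ]

/-- Isaacs 13.31 -/
theorem exists_invariant_over_of_coprime {G N : Subgroup Γ} [hG : G.Normal] [hN : N.Normal]
    [Fintype N] (hNG : N ≤ G) (hcop : G.index.Coprime (N.relIndex G))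
    (hs : Group.IsSolvable (Γ ⧸ G) ∨ Group.IsSolvable (G ⧸ N.subgroupOf G))
    (θ : IrrCharacter N) (hinv : charInertia θ.1 = ⊤) :
    ∃ χ : IrrCharacter G, classInner (fun n : N => χ.1 ⟨n, hNG n.2⟩) θ.1 ≠ 0 ∧
      charInertia χ.1 = ⊤ := by
  rcases hs with hs | hs
  · obtain ⟨T⟩ := nonempty_tripleIso hinv
    have := Fintype.ofFinite (N.subgroupOf G)
    have hsE : Group.IsSolvable (T.E ⧸ T.star G) := by
      let f : T.E →* Γ ⧸ G := (QuotientGroup.map N G (MonoidHom.id Γ) hNG).comp T.ϖ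
      have hf : f.ker = T.star G := by
        ext e
        obtain ⟨g, hg⟩ := QuotientGroup.mk_surjective (T.ϖ e)
        rw [T.mem_star_iff hNG hg, MonoidHom.mem_ker, MonoidHom.comp_apply, ← hg]
        exact QuotientGroup.eq_one_iff g
      refine Group.isSolvable_of_isSolvable_injective
        (f := QuotientGroup.lift (T.star G) f hf.ge) ?_
      rw [← MonoidHom.ker_eq_bot_iff, QuotientGroup.ker_lift, hf, map_mk_eq_bot_iff]
    obtain ⟨β, hβ, hβ'⟩ := exists_invariant_over_central T.ker_le_center (T.ker_le_star G)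
      (by rwa [T.index_star hNG, ← T.star_self, T.relIndex_star le_rfl hNG]) hsE T.lam
    have hover : (T.restrict G hNG).IsOver β.1 := (T.restrict_isOver_iff hNG β.1).2 hβ
    refine ⟨⟨_, TripleIso.lift_isIrr hover β.2⟩, ?_, ?_⟩
    · rw [← classInner_res_subgroupOf hNG]
      exact (TripleIso.classInner_res_lift hover).trans_ne β.one_ne_zero
    · rw [charInertia_eq_top_iff]
      intro x g
      have h1 := T.ϖ_sec g
      have h2 := T.ϖ_sec x
      change (T.restrict G hNG).lift β.1 _ = (T.restrict G hNG).lift β.1 _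
      rw [T.restrict_lift_apply hNG hover g ⟨T.sec g, T.sec_mem_star g.2⟩ h1.symm,
        T.restrict_lift_apply hNG hover _ ⟨T.sec x * T.sec g * (T.sec x)⁻¹,
          (T.star_normal G).conj_mem _ (T.sec_mem_star g.2) _⟩ (by simp [h1, h2]),
        charInertia_eq_top_iff.1 hβ' (T.sec x) ⟨T.sec g, T.sec_mem_star g.2⟩]
      exact congrArg _ (T.tau_conj h2.symm g (T.sec g))
  · have hi : (G.map (QuotientGroup.mk' N)).index = G.index := by
      rw [index_map_mk, sup_eq_left.2 hNG]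
    haveI : (G.map (QuotientGroup.mk' N)).Normal := hG.map _ (QuotientGroup.mk'_surjective N)
    obtain ⟨S, hS⟩ := Subgroup.exists_right_complement'_of_coprime
      (N := G.map (QuotientGroup.mk' N)) (by rw [hi, card_map_mk]; exact hcop.symm)
    obtain ⟨χ, hχ, hχ'⟩ := exists_invariant_over_of_isSolvable hNG hs
      (S := S.comap (QuotientGroup.mk' N)) (by rw [Subgroup.normalizer_eq_top]; exact le_top)
      (by rw [Subgroup.normalizer_eq_top]; exact le_top)
      (by rw [relIndex_comap_mk, ← hS.symm.index_eq_card, hi]; exact hcop.symm) θ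
      (fun s _ => mem_charInertia_iff_charInv.1 (hinv ▸ Subgroup.mem_top s))
    refine ⟨χ, hχ, ?_⟩
    have h1 : G ⊔ S.comap (QuotientGroup.mk' N) = ⊤ := by
      rw [← sup_eq_left.2 hNG, ← comap_map_mk N G,
        Subgroup.comap_sup_eq _ _ _ (QuotientGroup.mk'_surjective N),
        (isComplement'_iff_inf_sup.1 hS).2, Subgroup.comap_top]
    rw [eq_top_iff, ← h1]
    exact sup_le χ.le_charInertia (fun s hs => mem_charInertia_iff_charInv.2 (hχ' s hs))

/-- Isaacs 13.31 in an ambient group -/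
theorem exists_invariant_over_of_le_charStab {G N S : Subgroup Γ} [Fintype N] (hNG : N ≤ G)
    (hSG : S ≤ Subgroup.normalizer (G : Set Γ)) (hcop : (G.relIndex S).Coprime (N.relIndex G))
    (hs : Group.IsSolvable S) (θ : IrrCharacter N) (hG : G ≤ charStab θ.1)
    (hS : S ≤ charStab θ.1) :
    ∃ χ : IrrCharacter G, classInner (fun n : N => χ.1 ⟨n, hNG n.2⟩) θ.1 ≠ 0 ∧
      ∀ s ∈ S, CharInv s χ.1 := by
  set L := G ⊔ S with hL
  have hGL : G ≤ L := le_sup_left
  have hSL : S ≤ L := le_sup_right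
  have hLθ : L ≤ charStab θ.1 := sup_le hG hS
  haveI : (G.subgroupOf L).Normal := (Subgroup.normal_subgroupOf_iff_le_normalizer hGL).2
    (sup_le G.le_normalizer hSG)
  haveI : (N.subgroupOf L).Normal := (Subgroup.normal_subgroupOf_iff_le_normalizer
    (hNG.trans hGL)).2 (fun x hx => (hLθ hx).1)
  have := Fintype.ofFinite (N.subgroupOf L)
  obtain ⟨χ, hχ, hχ'⟩ := exists_invariant_over_of_coprime (G := G.subgroupOf L)
    (N := N.subgroupOf L) (fun _ h => hNG h)
    (by rwa [Subgroup.relIndex_subgroupOf hGL, ← Subgroup.relIndex,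
      relIndex_sup_of_le_normalizer hSG])
    (Or.inl (Group.isSolvable_of_surjective
      (f := (QuotientGroup.mk' (G.subgroupOf L)).comp (Subgroup.inclusion hSL)) (fun q => by
        obtain ⟨x, rfl⟩ := QuotientGroup.mk_surjective q
        obtain ⟨g, hg, s, hs, hx⟩ := (mem_sup_of_le_normalizer hSG).1 x.2
        refine ⟨⟨s, hs⟩, ?_⟩
        have : x = ⟨g, hGL hg⟩ * ⟨s, hSL hs⟩ := Subtype.ext hx.symm
        rw [this, QuotientGroup.mk_mul, (QuotientGroup.eq_one_iff _).2 (by exact hg), one_mul]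
        rfl)))
    (θ.subgroupOf (hNG.trans hGL)) (by
      rw [eq_top_iff]
      intro x _
      exact mem_charInertia_iff_charInv.2
        ((charInv_subgroupOf_iff (hNG.trans hGL)).2 (hLθ x.2).2))
  refine ⟨χ.ofSubgroupOf hGL, ?_, fun s hs => ?_⟩
  · rwa [classInner_subgroupOf (hNG.trans hGL)] at hχ
  · exact (charInv_subgroupOf_iff hGL (s := ⟨s, hSL hs⟩)).1
      (mem_charInertia_iff_charInv.1 (hχ' ▸ Subgroup.mem_top _))

omit [Finite Γ] in
theorem le_normalizer_charStab {N S : Subgroup Γ} {θ : N → ℂ} (hS : S ≤ charStab θ) :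
    S ≤ Subgroup.normalizer ((charStab θ : Subgroup Γ) : Set Γ) :=
  hS.trans (charStab θ).le_normalizer

/-- inducing an invariant character from an invariant subgroup -/
theorem charInv_indFun {G T : Subgroup Γ} [Fintype G] {s : Γ}
    (hsG : s ∈ Subgroup.normalizer (G : Set Γ)) (hsT : s ∈ Subgroup.normalizer (T : Set Γ))
    {ψ : T → ℂ} (h : CharInv s ψ) :
    CharInv s (indFun (T.subgroupOf G) (fun t => ψ ⟨t, t.2⟩)) :=
  (charInv_iff hsG).2 (fun g => indFun_mulEquiv (normAut G hsG)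
    (fun x => Subgroup.mem_normalizer_iff.1 hsT x) (fun _ => h _ _ rfl) g)

theorem charInertia_subgroupOf_eq_charStab {G N : Subgroup Γ} (hNG : N ≤ G)
    [hn : (N.subgroupOf G).Normal] (θ : N → ℂ) :
    charInertia (N := N.subgroupOf G) (fun n => θ ⟨n, n.2⟩) = (charStab θ).subgroupOf G := by
  ext x
  rw [mem_charInertia_iff_charInv, charInv_subgroupOf_iff hNG, Subgroup.mem_subgroupOf,
    mem_charStab, and_iff_right ((Subgroup.normal_subgroupOf_iff_le_normalizer hNG).1 hn x.2)]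

/-- the Clifford correspondence in an ambient group -/
theorem clifford_corr_ambient {G N T : Subgroup Γ} [Fintype G] [Fintype N] (hNT : N ≤ T)
    (hTG : T ≤ G) (hGN : G ≤ Subgroup.normalizer (N : Set Γ)) {θ : IrrCharacter N}
    (hT : G ⊓ charStab θ.1 ≤ T) (ψ : IrrCharacter T)
    (hψ : classInner (fun n : N => ψ.1 ⟨n, hNT n.2⟩) θ.1 ≠ 0) :
    IsIrrCharacter G (indFun (T.subgroupOf G) (fun t => ψ.1 ⟨t, t.2⟩)) ∧
      classInner (fun n : N => indFun (T.subgroupOf G) (fun t => ψ.1 ⟨t, t.2⟩)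
        ⟨n, hTG (hNT n.2)⟩) θ.1 = classInner (fun n : N => ψ.1 ⟨n, hNT n.2⟩) θ.1 := by
  have hNG := hNT.trans hTG
  haveI := (Subgroup.normal_subgroupOf_iff_le_normalizer hNG).2 hGN
  have := Fintype.ofFinite (N.subgroupOf G)
  have h1 : charInertia (θ.subgroupOf hNG).1 ≤ T.subgroupOf G := by
    intro x hx
    have h2 : x ∈ (charStab θ.1).subgroupOf G := charInertia_subgroupOf_eq_charStab hNG θ.1 ▸ hx
    exact hT ⟨x.2, h2⟩
  have h2 : N.subgroupOf G ≤ T.subgroupOf G := fun _ h => hNT h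
  have h3 : classInner (fun n : N.subgroupOf G => (ψ.subgroupOf hTG).1 ⟨n, h2 n.2⟩)
      (θ.subgroupOf hNG).1 = classInner (fun n : N => ψ.1 ⟨n, hNT n.2⟩) θ.1 :=
    classInner_subgroupOf hNG _ _
  refine ⟨clifford_corr_isIrr h2 h1 (ψ.subgroupOf hTG) (h3 ▸ hψ), ?_⟩
  rw [← h3, ← clifford_corr_classInner h2 h1 (ψ.subgroupOf hTG) (h3 ▸ hψ),
    classInner_subgroupOf hNG]
  rfl

/-- Isaacs 13.30 -/
theorem exists_invariant_over_of_isSolvable_action {G N S : Subgroup Γ} [Fintype N]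
    (hNG : N ≤ G) (hGN : G ≤ Subgroup.normalizer (N : Set Γ))
    (hSG : S ≤ Subgroup.normalizer (G : Set Γ)) (hSN : S ≤ Subgroup.normalizer (N : Set Γ))
    (hcop : (N.relIndex G).Coprime (Nat.card S)) (hs : Group.IsSolvable S)
    (θ : IrrCharacter N) (hinv : ∀ s ∈ S, CharInv s θ.1) :
    ∃ χ : IrrCharacter G, classInner (fun n : N => χ.1 ⟨n, hNG n.2⟩) θ.1 ≠ 0 ∧
      ∀ s ∈ S, CharInv s χ.1 := by
  have := Fintype.ofFinite G
  set T := G ⊓ charStab θ.1 with hT
  have hSθ := (forall_charInv_iff_le_charStab hSN).1 hinv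
  have hNT : N ≤ T := le_inf hNG θ.isClassFunction.le_charStab
  have hST : S ≤ Subgroup.normalizer (T : Set Γ) :=
    (le_inf hSG (le_normalizer_charStab hSθ)).trans Subgroup.inf_normalizer_le_normalizer_inf
  obtain ⟨ψ, hψ, hψ'⟩ := exists_invariant_over_of_le_charStab hNT hST
    (((hcop.coprime_dvd_left ⟨_, (Subgroup.relIndex_mul_relIndex N T G hNT inf_le_left).symm⟩
      ).coprime_dvd_right (Subgroup.relIndex_dvd_card T S)).symm) hs θ inf_le_right hSθ
  obtain ⟨h1, h2⟩ := clifford_corr_ambient hNT inf_le_left hGN le_rfl ψ hψ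
  exact ⟨⟨_, h1⟩, h2.trans_ne hψ, fun s hs => charInv_indFun (hSG hs) (hST hs) (hψ' s hs)⟩

end general

end Cfsg
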