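import Mathlib
import Cfsg.Agent.CT.GlInv

/-! Automorphisms acting trivially on a quotient, the Glauberman correspondence for a single
automorphism, and involutions attached to coprime actions on groups of class two. -/

set_option autoImplicit false
set_option linter.unusedSectionVars false

namespace Cfsg

open scoped ComplexConjugate commutatorElement

universe u v w

theorem smul_eq_of_commute_of_coprime {A B Ω : Type*} [Group A] [Group B] [MulAction A Ω]
    [MulAction B Ω] {a : A} {x : B} {ω : Ω} (hc : ∀ ω' : Ω, a • x • ω' = x • a • ω')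
    (h : a • ω = x • ω) {n m : ℕ} (ha : a ^ n • ω = ω) (hx : x ^ m • ω = ω)
    (hnm : n.Coprime m) : a • ω = ω := by
  have h0 : ∀ (j : ℕ) (ω' : Ω), a • x ^ j • ω' = x ^ j • a • ω' := fun j => by
    induction j with
    | zero => simp
    | succ j ih => intro ω'; rw [pow_succ, mul_smul, ih, hc, mul_smul]
  have h1 : ∀ j : ℕ, a ^ j • ω = x ^ j • ω := fun j => by
    induction j with
    | zero => simp
    | succ j ih => rw [pow_succ', mul_smul, ih, h0, h, pow_succ, mul_smul]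
  have h2 : x ^ n ∈ MulAction.stabilizer B ω := by
    rw [MulAction.mem_stabilizer_iff, ← h1, ha]
  have h3 : x ^ m ∈ MulAction.stabilizer B ω := hx
  rw [h]
  have h4 := mul_mem (zpow_mem h2 (Nat.gcdA n m)) (zpow_mem h3 (Nat.gcdB n m))
  rwa [← zpow_natCast, ← zpow_natCast, ← zpow_mul, ← zpow_mul, ← zpow_add, ← Nat.gcd_eq_gcd_ab,
    hnm, Nat.cast_one, zpow_one] at h4

/-- the Glauberman correspondence for an automorphism of `p`-power order -/
theorem glBij_mulAut {G : Type u} [Group G] [Finite G] {p k : ℕ} (hp : p.Prime)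
    (hG : ¬ p ∣ Nat.card G) {τ : MulAut G} (hτ : τ ^ p ^ k = 1) {C : Subgroup G}
    (hC : ∀ g, g ∈ C ↔ τ g = g) :
    GlBij p C.subtype (fun χ => τ • χ = χ) (fun _ => True) := by
  let Γ := G ⋊[MonoidHom.id (MulAut G)] MulAut G
  haveI : Finite Γ := Finite.of_equiv _ SemidirectProduct.equivProd.symm
  let i : G →* Γ := SemidirectProduct.inl
  have hi : Function.Injective i := SemidirectProduct.inl_injective
  let s : Γ := SemidirectProduct.inr τ
  have hs : ∀ g, s * i g * s⁻¹ = i (τ g) := fun g => by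
    rw [← map_inv]
    exact (SemidirectProduct.inl_aut τ g).symm
  have hsk : s ^ p ^ k = 1 := by rw [← map_pow, hτ, map_one]
  haveI : i.range.Normal := by
    rw [SemidirectProduct.range_inl_eq_ker_rightHom]
    infer_instance
  have h1 := glBij_of_pElement (G := i.range) (C := C.map i) (s := s)
    (by rw [Subgroup.normalizer_eq_top]; exact Subgroup.mem_top s)
    (by
      rw [← Nat.card_congr (MonoidHom.ofInjective hi).toEquiv]
      exact (Nat.Coprime.pow_right k ((Nat.Prime.coprime_iff_not_dvd hp).2 hG).symm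
        ).coprime_dvd_right (orderOf_dvd_of_pow_eq_one hsk))
    (by
      ext x
      rw [Subgroup.mem_inf, Subgroup.mem_centralizer_singleton_iff]
      constructor
      · rintro ⟨g, hg, rfl⟩
        refine ⟨⟨g, rfl⟩, ?_⟩
        rw [mul_inv_eq_iff_eq_mul.1 (hs g), (hC g).1 hg]
      · rintro ⟨⟨g, rfl⟩, h⟩
        refine ⟨g, (hC g).2 (hi ?_), rfl⟩
        rw [← hs, ← h, mul_inv_cancel_right])
    (Subgroup.map_le_range i C) hp hsk
  have h2 := (glBij_mulEquiv hp (MonoidHom.ofInjective hi).symm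
    (P := fun χ => τ • χ = χ) (Q := fun χ => CharInv s χ.1) (fun β => by
      rw [IrrCharacter.mulAut_smul_eq_iff]
      constructor
      · exact fun h g => h _ _ (hs g).symm
      · rintro h ⟨_, g, rfl⟩ ⟨_, g', rfl⟩ hg
        obtain rfl : g' = τ g := hi (hg.trans (hs g))
        exact h g)).trans hp (h1.trans hp (glBij_mulEquiv hp
        (C.equivMapOfInjective i hi) (Q := fun _ => True) (fun _ => Iff.rfl)))
  refine h2.congr (fun c => ?_) (fun _ => Iff.rfl) (fun _ => Iff.rfl)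
  exact ((MonoidHom.ofInjective hi).symm_apply_apply c).symm

section restrict
variable {Γ : Type u} [Group Γ] {G K U : Subgroup Γ}

/-- restriction of an automorphism to an invariant subgroup -/
def autRestrict (hUG : U ≤ G) (α : MulAut G) (h : ∀ g : G, (α g : Γ) ∈ U ↔ (g : Γ) ∈ U) :
    MulAut U where
  toFun u := ⟨α ⟨u, hUG u.2⟩, (h _).2 u.2⟩
  invFun u := ⟨α⁻¹ ⟨u, hUG u.2⟩, (h _).1 (by simp)⟩
  left_inv u := by simp
  right_inv u := by simp
  map_mul' u v := by
    have := congrArg Subtype.val (map_mul α ⟨u, hUG u.2⟩ ⟨v, hUG v.2⟩)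
    exact Subtype.ext this

theorem coe_autRestrict (hUG : U ≤ G) (α : MulAut G)
    (h : ∀ g : G, (α g : Γ) ∈ U ↔ (g : Γ) ∈ U) (u : U) :
    (autRestrict hUG α h u : Γ) = α ⟨u, hUG u.2⟩ := rfl

theorem autRestrict_pow_eq_one (hUG : U ≤ G) {α : MulAut G}
    (h : ∀ g : G, (α g : Γ) ∈ U ↔ (g : Γ) ∈ U) {n : ℕ} (hn : α ^ n = 1) :
    autRestrict hUG α h ^ n = 1 := by
  have h1 : ∀ (j : ℕ) (u : U), ((autRestrict hUG α h ^ j) u : Γ) = (α ^ j) ⟨u, hUG u.2⟩ := by
    intro j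
    induction j with
    | zero => intro u; rfl
    | succ j ih => intro u; rw [pow_succ, pow_succ, MulAut.mul_apply, ih]; rfl
  ext u
  rw [h1, hn]
  rfl

theorem mem_iff_of_mul_inv_mem (hKU : K ≤ U) {α : MulAut G}
    (hα : ∀ g : G, (α g : Γ) * (g : Γ)⁻¹ ∈ K) (g : G) : (α g : Γ) ∈ U ↔ (g : Γ) ∈ U := by
  rw [← U.mul_mem_cancel_left (y := g) (hKU (hα g)), inv_mul_cancel_right]

theorem inv_mul_inv_mem {α : MulAut G} (hα : ∀ g : G, (α g : Γ) * (g : Γ)⁻¹ ∈ K) (g : G) :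
    (α⁻¹ g : Γ) * (g : Γ)⁻¹ ∈ K := by
  have := K.inv_mem (hα (α⁻¹ g))
  simpa using this

variable [Finite Γ]

theorem IsClassFunction.apply_eq_of_forall_constituent {H : Type v} [Group H] [Fintype H]
    {χ : H → ℂ} (hχ : IsClassFunction H χ) {x y : H}
    (h : ∀ η : IrrCharacter H, classInner χ η.1 ≠ 0 → η.1 x = η.1 y) : χ x = χ y := by
  rw [hχ.eq_sum_irr x, hχ.eq_sum_irr y]
  refine Finset.sum_congr rfl (fun η _ => ?_)
  by_cases h0 : classInner χ η.1 = 0
  · rw [h0, zero_mul, zero_mul]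
  · rw [h η h0]

theorem smul_eq_of_res_of_commutator_le (hKG : K ≤ G) (hab : ⁅G, G⁆ ≤ K) {α : MulAut G}
    (hα : ∀ g : G, (α g : Γ) * (g : Γ)⁻¹ ∈ K) {n : ℕ} (hn : α ^ n = 1)
    (hcop : n.Coprime (K.relIndex G)) (η : IrrCharacter G)
    (h : ∀ g : G, (g : Γ) ∈ K → η.1 (α g) = η.1 g) : α • η = η := by
  have hab' := commutator_le_subgroupOf hab
  haveI : (K.subgroupOf G).Normal := Subgroup.Normal.of_commutator_le _ hab'
  have := Fintype.ofFinite (K.subgroupOf G)
  obtain ⟨θ, hθ⟩ := η.exists_under (K.subgroupOf G)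
  obtain ⟨lam, hlam, h2⟩ := exists_linear_of_over_of_commutator_le hab' η (α • η) hθ (by
    have : (fun k : K.subgroupOf G => (α • η).1 k) = fun k : K.subgroupOf G => η.1 k := by
      funext k
      rw [IrrCharacter.mulAut_smul_apply, ← h (α⁻¹ k) ((mem_iff_of_mul_inv_mem le_rfl
        (inv_mul_inv_mem hα) _).2 k.2)]
      simp
    rwa [this])
  refine smul_eq_of_commute_of_coprime (x := lam) (fun ξ => Subtype.ext (funext fun g => ?_))
    (Subtype.ext h2) (by rw [hn, one_smul])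
    (by rw [Subgroup.relIndex, unitsHom_pow_index_eq_one hlam]; exact one_smul (G →* ℂˣ) η) hcop
  have h3 : lam (α⁻¹ g) = lam g := by
    have := hlam (α⁻¹ g * g⁻¹) (inv_mul_inv_mem hα g)
    rwa [map_mul, map_inv, mul_inv_eq_one] at this
  change (lam (α⁻¹ g) : ℂ) * ξ.1 (α⁻¹ g) = lam g * ξ.1 (α⁻¹ g)
  rw [h3]

theorem normAut_pow {s : Γ} (hs : s ∈ Subgroup.normalizer (G : Set Γ)) (n : ℕ) :
    normAut G hs ^ n = normAut G (pow_mem hs n) :=
  (map_pow G.normalizerMonoidHom ⟨s, hs⟩ n).symm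

theorem normAut_mul {s t : Γ} (hs : s ∈ Subgroup.normalizer (G : Set Γ))
    (ht : t ∈ Subgroup.normalizer (G : Set Γ)) :
    normAut G (mul_mem hs ht) = normAut G hs * normAut G ht :=
  map_mul G.normalizerMonoidHom ⟨s, hs⟩ ⟨t, ht⟩

theorem normAut_pow_orderOf {s : Γ} (hs : s ∈ Subgroup.normalizer (G : Set Γ)) :
    normAut G hs ^ orderOf s = 1 := by
  rw [normAut_pow]
  ext g
  rw [coe_normAut, pow_orderOf_eq_one]
  simp

theorem autRestrict_smul_eq_of_under [Fintype K] (hKG : K ≤ G)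
    (hGK : G ≤ Subgroup.normalizer (K : Set Γ)) {α : MulAut G}
    (hα : ∀ g : G, (α g : Γ) * (g : Γ)⁻¹ ∈ K) {n : ℕ} (hn : α ^ n = 1)
    (hcop : n.Coprime (K.relIndex G)) (χ : IrrCharacter G)
    (h : ∀ g : G, (g : Γ) ∈ K → χ.1 (α g) = χ.1 g) {θ : IrrCharacter K}
    (hθ : classInner (fun k : K => χ.1 ⟨k, hKG k.2⟩) θ.1 ≠ 0) :
    autRestrict hKG α (mem_iff_of_mul_inv_mem le_rfl hα) • θ = θ := by
  set α' := autRestrict hKG α (mem_iff_of_mul_inv_mem le_rfl hα) with hα'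
  obtain ⟨x, hx, h1⟩ := clifford_exists_normAut_smul hKG hGK χ hθ (φ := α' • θ) (by
    rw [← classInner_comp_mulEquiv α']
    have h2 : (fun k : K => (α' • θ).1 (α' k)) = θ.1 := by
      funext k
      rw [IrrCharacter.mulAut_smul_apply]
      simp
    have h3 : (fun k : K => χ.1 ⟨α' k, hKG (α' k).2⟩) = fun k : K => χ.1 ⟨k, hKG k.2⟩ :=
      funext fun k => h ⟨k, hKG k.2⟩ k.2
    rwa [h2, h3])
  haveI := (Subgroup.normal_subgroupOf_iff_le_normalizer hKG).2 hGK
  refine smul_eq_of_commute_of_coprime (x := normAut K (hGK hx))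
    (fun ξ => Subtype.ext (funext fun k => ?_)) h1.symm
    (by rw [autRestrict_pow_eq_one hKG _ hn, one_smul]) ?_ hcop
  · simp only [IrrCharacter.mulAut_smul_apply]
    have h4 := inv_mul_inv_mem hα ⟨x, hx⟩
    have h5 := (Subgroup.mem_normalizer_iff''.1 (hGK hx) _).1 h4
    refine (ξ.isClassFunction.charInv_of_mem h5 _ _ ?_)
    have h6 : ((α'⁻¹ ((normAut K (hGK hx))⁻¹ k) : K) : Γ) =
        (α⁻¹ ⟨x, hx⟩ : Γ)⁻¹ * (α'⁻¹ k : K) * (α⁻¹ ⟨x, hx⟩ : G) := by
      have h7 : (⟨((normAut K (hGK hx))⁻¹ k : K), hKG ((normAut K (hGK hx))⁻¹ k).2⟩ : G) =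
          (⟨x, hx⟩ : G)⁻¹ * ⟨k, hKG k.2⟩ * ⟨x, hx⟩ := Subtype.ext (coe_normAut_inv _ _)
      change ((α⁻¹ ⟨_, _⟩ : G) : Γ) = _
      rw [h7, map_mul, map_mul, map_inv]
      rfl
    rw [coe_normAut_inv, h6]
    group
  · rw [normAut_pow]
    refine (charInv_iff_smul _).1 (θ.isClassFunction.charInv_of_mem ?_)
    exact Subgroup.pow_index_mem (K.subgroupOf G) ⟨x, hx⟩

theorem commutator_sup_zpowers_le {g : Γ} (hg : g ∈ Subgroup.normalizer (K : Set Γ)) :
    ⁅K ⊔ Subgroup.zpowers g, K ⊔ Subgroup.zpowers g⁆ ≤ K := by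
  rw [Subgroup.commutator_le]
  intro a ha b hb
  have hN := Subgroup.zpowers_le.2 hg
  obtain ⟨k, hk, y, hy, rfl⟩ := (mem_sup_of_le_normalizer hN).1 ha
  obtain ⟨k', hk', y', hy', rfl⟩ := (mem_sup_of_le_normalizer hN).1 hb
  have hc : Commute y' y := commute_of_mem_zpowers
    (commute_of_mem_zpowers (Commute.refl g) hy').symm hy
  have : ⁅k * y, k' * y'⁆ = k * (y * k' * y⁻¹) * (y' * k⁻¹ * y'⁻¹) * k'⁻¹ := by
    rw [commutatorElement_def, mul_assoc k y, ← mul_assoc y, mul_inv_rev k y]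
    calc k * (y * k' * y') * (y⁻¹ * k⁻¹) * (k' * y')⁻¹
        = k * (y * k') * (y' * y⁻¹) * k⁻¹ * (k' * y')⁻¹ := by group
      _ = _ := by rw [hc.inv_right.eq]; group
  rw [this]
  exact K.mul_mem (K.mul_mem (K.mul_mem hk ((Subgroup.mem_normalizer_iff.1 (hN hy) _).1 hk'))
    ((Subgroup.mem_normalizer_iff.1 (hN hy') _).1 (K.inv_mem hk))) (K.inv_mem hk')

/-- an automorphism of coprime order acting trivially on `G / K` fixes `χ` iff it fixes the
constituents of `χ_K` -/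
theorem smul_eq_iff_forall_under [Fintype K] (hKG : K ≤ G)
    (hGK : G ≤ Subgroup.normalizer (K : Set Γ)) {α : MulAut G}
    (hα : ∀ g : G, (α g : Γ) * (g : Γ)⁻¹ ∈ K) {n : ℕ} (hn : α ^ n = 1)
    (hcop : n.Coprime (K.relIndex G)) (χ : IrrCharacter G) :
    α • χ = χ ↔ ∀ θ : IrrCharacter K, classInner (fun k : K => χ.1 ⟨k, hKG k.2⟩) θ.1 ≠ 0 →
      autRestrict hKG α (mem_iff_of_mul_inv_mem le_rfl hα) • θ = θ := by
  refine ⟨fun h θ hθ => autRestrict_smul_eq_of_under hKG hGK hα hn hcop χ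
    (fun g _ => (IrrCharacter.mulAut_smul_eq_iff α χ).1 h g) hθ, fun h => ?_⟩
  rw [IrrCharacter.mulAut_smul_eq_iff]
  intro g
  set U := K ⊔ Subgroup.zpowers (g : Γ) with hU
  have := Fintype.ofFinite U
  have hKU : K ≤ U := le_sup_left
  have hUG : U ≤ G := sup_le hKG (Subgroup.zpowers_le.2 g.2)
  have hgU : (g : Γ) ∈ U := (le_sup_right : _ ≤ U) (Subgroup.mem_zpowers _)
  set α' := autRestrict hUG α (mem_iff_of_mul_inv_mem hKU hα) with hα'
  refine (χ.isClassFunction.comp (Subgroup.inclusion hUG)).apply_eq_of_forall_constituent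
    (x := α' ⟨g, hgU⟩) (y := ⟨g, hgU⟩) (fun η hη => ?_)
  refine (IrrCharacter.mulAut_smul_eq_iff α' η).1 (smul_eq_of_res_of_commutator_le hKU
    (commutator_sup_zpowers_le (hGK g.2)) (fun u => hα ⟨u, hUG u.2⟩)
    (autRestrict_pow_eq_one hUG _ hn) (hcop.coprime_dvd_right
      ⟨_, (Subgroup.relIndex_mul_relIndex K U G hKU hUG).symm⟩) η (fun u hu => ?_)) _
  refine (η.isClassFunction.comp (Subgroup.inclusion hKU)).apply_eq_of_forall_constituent
    (x := autRestrict hKG α (mem_iff_of_mul_inv_mem le_rfl hα) ⟨u, hu⟩) (y := ⟨u, hu⟩)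
    (fun θ hθ => (IrrCharacter.mulAut_smul_eq_iff _ θ).1 (h θ ?_) _)
  exact (χ.isCharacter.comp (Subgroup.inclusion hUG)).classInner_comp_ne_zero
    (Subgroup.inclusion hKU) η θ.isCharacter hη hθ

end restrict

end Cfsg
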