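import Mathlib
import Cfsg.Agent.CT.GlAut

/-! The odd multiplicity correspondence of Isaacs for coprime actions on groups of odd order. -/

set_option autoImplicit false
set_option linter.unusedSectionVars false

namespace Cfsg

open scoped ComplexConjugate commutatorElement

universe u v w

section unique
variable {Γ : Type u} [Group Γ] [Finite Γ] {K L S : Subgroup Γ}

theorem exists_linear_of_over_ambient [Fintype L] (hLK : L ≤ K) (hab : ⁅K, K⁆ ≤ L)
    {φ : IrrCharacter L} (θ θ' : IrrCharacter K)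
    (h : classInner (fun l : L => θ.1 ⟨l, hLK l.2⟩) φ.1 ≠ 0)
    (h' : classInner (fun l : L => θ'.1 ⟨l, hLK l.2⟩) φ.1 ≠ 0) :
    ∃ ν : K →* ℂˣ, (∀ k : K, (k : Γ) ∈ L → ν k = 1) ∧ ∀ k, θ'.1 k = ν k * θ.1 k := by
  have hab' := commutator_le_subgroupOf hab
  haveI : (L.subgroupOf K).Normal := Subgroup.Normal.of_commutator_le _ hab'
  have := Fintype.ofFinite (L.subgroupOf K)
  obtain ⟨ν, h1, h2⟩ := exists_linear_of_over_of_commutator_le hab' (θ := φ.subgroupOf hLK) θ θ'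
    (by rwa [← classInner_res_subgroupOf hLK] at h)
    (by rwa [← classInner_res_subgroupOf hLK] at h')
  exact ⟨ν, h1, congrFun h2⟩

/-- uniqueness of the invariant character over `φ` when `S` has no fixed points on the abelian
section `K / L` -/
theorem eq_of_invariant_of_over [Fintype L] (hLK : L ≤ K) (hab : ⁅K, K⁆ ≤ L)
    (hSK : S ≤ Subgroup.normalizer (K : Set Γ)) (hSL : S ≤ Subgroup.normalizer (L : Set Γ))
    (hcop : (Nat.card K).Coprime (Nat.card S)) (hs : Group.IsSolvable K)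
    (hfix : K ⊓ Subgroup.centralizer (S : Set Γ) ≤ L) {φ : IrrCharacter L}
    {θ θ' : IrrCharacter K} (h : classInner (fun l : L => θ.1 ⟨l, hLK l.2⟩) φ.1 ≠ 0)
    (h' : classInner (fun l : L => θ'.1 ⟨l, hLK l.2⟩) φ.1 ≠ 0)
    (hθ : ∀ s ∈ S, CharInv s θ.1) (hθ' : ∀ s ∈ S, CharInv s θ'.1) : θ' = θ := by
  obtain ⟨ν, hν, h1⟩ := exists_linear_of_over_ambient hLK hab θ θ' h h'
  let Z' : Subgroup K := ⨅ s : S, (ν.comp (normAut K (hSK s.2)).toMonoidHom).eqLocus ν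
  have hZ' : ∀ k : K, k ∈ Z' ↔ ∀ s : S, ν (normAut K (hSK s.2) k) = ν k := fun k =>
    Subgroup.mem_iInf
  have hZK : Z'.map K.subtype ≤ K := Subgroup.map_subtype_le Z'
  have hSZ : S ≤ Subgroup.normalizer ((Z'.map K.subtype : Subgroup Γ) : Set Γ) := by
    rw [Subgroup.le_normalizer_iff]
    rintro t ht _ ⟨k, hk, rfl⟩
    refine ⟨normAut K (hSK ht) k, (hZ' _).2 (fun s => ?_), rfl⟩
    rw [(hZ' k).1 hk ⟨t, ht⟩, ← (hZ' k).1 hk (s * ⟨t, ht⟩), ← MulAut.mul_apply, ← normAut_mul]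
  have h2 : Z'.map K.subtype ≤ ν.ker.map K.subtype := by
    rw [← commutator_sup_centralizer_of_coprime hSZ
      (hcop.coprime_dvd_left (Subgroup.card_dvd_of_le hZK)) (Or.inl (isSolvable_of_le hZK hs))]
    refine sup_le ?_ (fun x hx => ⟨⟨x, hZK hx.1⟩, hν _ (hfix ⟨hZK hx.1, hx.2⟩), rfl⟩)
    rw [Subgroup.commutator_le]
    rintro _ ⟨k, hk, rfl⟩ s hs
    refine ⟨k * (normAut K (hSK hs) k)⁻¹, ?_, ?_⟩
    · rw [SetLike.mem_coe, MonoidHom.mem_ker, map_mul, map_inv, (hZ' k).1 hk ⟨s, hs⟩,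
        mul_inv_cancel]
    · simp [coe_normAut, commutatorElement_def, mul_assoc]
  refine Subtype.ext (funext fun k => ?_)
  by_cases h0 : θ.1 k = 0
  · rw [h1, h0, mul_zero]
  · have h3 : k ∈ Z' := (hZ' k).2 (fun s => by
      have h4 := h1 (normAut K (hSK s.2) k)
      rw [(charInv_iff _).1 (hθ s s.2), (charInv_iff _).1 (hθ' s s.2), h1] at h4
      exact Units.ext (mul_right_cancel₀ h0 h4).symm)
    obtain ⟨k', hk', h5⟩ := h2 ⟨k, h3, rfl⟩
    obtain rfl : k' = k := Subtype.ext h5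
    rw [h1, MonoidHom.mem_ker.1 hk']
    simp

theorem eq_of_inverting_of_over [Fintype L] (hLK : L ≤ K) (hab : ⁅K, K⁆ ≤ L)
    (hodd : Odd (Nat.card K)) {τ : MulAut K} (hτ : ∀ k : K, (τ k : Γ) * k ∈ L)
    {φ : IrrCharacter L} {θ θ' : IrrCharacter K}
    (h : classInner (fun l : L => θ.1 ⟨l, hLK l.2⟩) φ.1 ≠ 0)
    (h' : classInner (fun l : L => θ'.1 ⟨l, hLK l.2⟩) φ.1 ≠ 0)
    (hθ : τ • θ = θ) (hθ' : τ • θ' = θ') : θ' = θ := by
  obtain ⟨ν, hν, h1⟩ := exists_linear_of_over_ambient hLK hab θ θ' h h'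
  rw [IrrCharacter.mulAut_smul_eq_iff] at hθ hθ'
  refine Subtype.ext (funext fun k => ?_)
  by_cases h0 : θ.1 k = 0
  · rw [h1, h0, mul_zero]
  · have h4 := h1 (τ k)
    rw [hθ, hθ', h1] at h4
    have h5 : ν k = ν (τ k) := Units.ext (mul_right_cancel₀ h0 h4)
    have h6 := hν (τ k * k) (hτ k)
    rw [map_mul, ← h5, ← sq] at h6
    have h7 : ν k ^ Nat.card K = 1 := by rw [← map_pow, pow_card_eq_one', map_one]
    have h8 := pow_gcd_eq_one.2 ⟨h6, h7⟩
    rw [Nat.coprime_two_left.2 hodd, pow_one] at h8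
    rw [h1, h8]
    simp

end unique

section involution
variable {Γ : Type u} [Group Γ]

theorem mem_normalizer_commutator_gl {H K : Subgroup Γ} {g : Γ}
    (hH : g ∈ Subgroup.normalizer (H : Set Γ)) (hK : g ∈ Subgroup.normalizer (K : Set Γ)) :
    g ∈ Subgroup.normalizer ((⁅H, K⁆ : Subgroup Γ) : Set Γ) := by
  rw [Subgroup.mem_normalizer_iff_map_conj_eq] at hH hK ⊢
  rw [Subgroup.map_commutator, hH, hK]

theorem mem_normalizer_sup {H K : Subgroup Γ} {g : Γ}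
    (hH : g ∈ Subgroup.normalizer (H : Set Γ)) (hK : g ∈ Subgroup.normalizer (K : Set Γ)) :
    g ∈ Subgroup.normalizer ((H ⊔ K : Subgroup Γ) : Set Γ) := by
  rw [Subgroup.mem_normalizer_iff_map_conj_eq] at hH hK ⊢
  rw [Subgroup.map_sup, hH, hK]

theorem map_mem_normalizer_map {Γ' : Type v} [Group Γ'] (f : Γ →* Γ') {H : Subgroup Γ} {g : Γ}
    (hH : g ∈ Subgroup.normalizer (H : Set Γ)) :
    f g ∈ Subgroup.normalizer ((H.map f : Subgroup Γ') : Set Γ') :=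
  H.le_normalizer_map f ⟨g, hH, rfl⟩

/-- a symmetric subgroup of `G × G` which is the graph of a function is the graph of an
involution -/
theorem exists_mulAut_of_graph {G : Subgroup Γ} {R : Subgroup (Γ × Γ)}
    (h1 : ∀ g ∈ G, ∃ y, (g, y) ∈ R) (h2 : ∀ x y, (x, y) ∈ R → x ∈ G)
    (h3 : ∀ y, (1, y) ∈ R → y = 1) (h4 : ∀ x y, (x, y) ∈ R → (y, x) ∈ R) :
    ∃ τ : MulAut G, τ ^ 2 = 1 ∧ ∀ (g : G) (y : Γ), ((g : Γ), y) ∈ R ↔ (τ g : Γ) = y := by
  choose f hf using h1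
  have hu : ∀ x y y', (x, y) ∈ R → (x, y') ∈ R → y = y' := fun x y y' h h' => by
    have := h3 (y⁻¹ * y') (by simpa using R.mul_mem (R.inv_mem h) h')
    exact inv_mul_eq_one.1 this
  let t : G → G := fun g => ⟨f g g.2, h2 _ _ (h4 _ _ (hf g g.2))⟩
  have ht : ∀ g : G, ((g : Γ), (t g : Γ)) ∈ R := fun g => hf g g.2
  have htt : ∀ g, t (t g) = g := fun g => Subtype.ext (hu _ _ _ (ht (t g)) (h4 _ _ (ht g)))
  refine ⟨⟨⟨t, t, htt, htt⟩, fun a b => Subtype.ext (hu _ _ _ (ht (a * b))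
    (R.mul_mem (ht a) (ht b)))⟩, ?_, fun g y => ⟨fun h => hu _ _ _ (ht g) h, fun h => h ▸ ht g⟩⟩
  ext g
  exact congrArg Subtype.val (htt g)

variable [Finite Γ]

theorem isSolvable_of_commutator_le_center {H : Subgroup Γ}
    (h : ⁅H, H⁆ ≤ Subgroup.center Γ) : Group.IsSolvable H := by
  have h1 := commutator_le_subgroupOf h
  haveI : Group.IsSolvable (commutator H) := isSolvable_of_isMulCommutative
    ⟨⟨fun a b => Subtype.ext (Subtype.ext (Subgroup.mem_center_iff.1 (h1 b.2) _))⟩⟩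
  refine Group.isSolvable_of_ker_le_range (commutator H).subtype Abelianization.of ?_
  rw [Abelianization.ker_of, Subgroup.range_subtype]

theorem exists_inverting_graph {K L S : Subgroup Γ} (hL : L ≤ Subgroup.center Γ) (hLK : L ≤ K)
    (hab : ⁅K, K⁆ ≤ L) (hSK : S ≤ Subgroup.normalizer (K : Set Γ))
    (hcop : (Nat.card K).Coprime (Nat.card S))
    (hfix : K ⊓ Subgroup.centralizer (S : Set Γ) ≤ L) :
    ∃ W : Subgroup (Γ × Γ), (∀ x ∈ K, ∃ y, (x, y) ∈ W) ∧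
      (∀ x y, (x, y) ∈ W → x ∈ K ∧ x * y ∈ L) ∧ (∀ y, (1, y) ∈ W → y = 1) ∧
      (∀ x y, (x, y) ∈ W → (y, x) ∈ W) ∧ (∀ l ∈ L, (l, l) ∈ W) ∧
      ∀ g ∈ Subgroup.normalizer (K : Set Γ), g ∈ Subgroup.normalizer (S : Set Γ) →
        (g, g) ∈ Subgroup.normalizer (W : Set (Γ × Γ)) := by
  have hc : ∀ l ∈ L, ∀ g, g * l = l * g := fun l hl => Subgroup.mem_center_iff.1 (hL hl)
  have hLn : L.Normal := ⟨fun l hl g => by rwa [hc l hl g, mul_inv_cancel_right]⟩
  have hcomm : ∀ a ∈ K, ∀ b ∈ K, a * b * a⁻¹ * b⁻¹ ∈ L := fun a ha b hb =>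
    hab (Subgroup.commutator_mem_commutator ha hb)
  let D : Subgroup (Γ × Γ) :=
    { carrier := {x | x.1 ∈ K ∧ x.2 ∈ K ∧ x.1 * x.2 ∈ L}
      one_mem' := ⟨K.one_mem, K.one_mem, by simp⟩
      mul_mem' := fun {a b} ha hb => ⟨K.mul_mem ha.1 hb.1, K.mul_mem ha.2.1 hb.2.1, by
        have : (a * b).1 * (a * b).2 =
            a.1 * a.2 * (a.2⁻¹ * b.1 * a.2⁻¹⁻¹ * b.1⁻¹) * (b.1 * b.2) := by
          simp only [Prod.fst_mul, Prod.snd_mul]; group
        rw [this]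
        exact L.mul_mem (L.mul_mem ha.2.2 (hcomm _ (K.inv_mem ha.2.1) _ hb.1)) hb.2.2⟩
      inv_mem' := fun {a} ha => ⟨K.inv_mem ha.1, K.inv_mem ha.2.1, by
        have : a⁻¹.1 * a⁻¹.2 = a.2 * (a.1 * a.2)⁻¹ * a.2⁻¹ := by
          simp only [Prod.fst_inv, Prod.snd_inv]; group
        rw [this]
        exact hLn.conj_mem _ (L.inv_mem ha.2.2) _⟩ }
  have hD : ∀ x y, (x, y) ∈ D ↔ x ∈ K ∧ y ∈ K ∧ x * y ∈ L := fun _ _ => Iff.rfl
  let d : Γ →* Γ × Γ := (MonoidHom.id Γ).prod (MonoidHom.id Γ)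
  have hd : ∀ g, d g = (g, g) := fun _ => rfl
  have hDn : ∀ g ∈ Subgroup.normalizer (K : Set Γ),
      d g ∈ Subgroup.normalizer (D : Set (Γ × Γ)) := by
    have : Subgroup.normalizer (K : Set Γ) ≤ (Subgroup.normalizer (D : Set (Γ × Γ))).comap d := by
      rw [← Subgroup.map_le_iff_le_comap, Subgroup.le_normalizer_iff]
      rintro _ ⟨g, hg, rfl⟩ ⟨x, y⟩ h
      refine ⟨(Subgroup.mem_normalizer_iff.1 hg x).1 h.1,
        (Subgroup.mem_normalizer_iff.1 hg y).1 h.2.1, ?_⟩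
      have : g * x * g⁻¹ * (g * y * g⁻¹) = g * (x * y) * g⁻¹ := by group
      exact this ▸ hLn.conj_mem _ h.2.2 g
    exact fun g hg => this hg
  have hAD : S.map d ≤ Subgroup.normalizer (D : Set (Γ × Γ)) := by
    rintro _ ⟨s, hs, rfl⟩
    exact hDn s (hSK hs)
  have hΔc : L.map d ≤ Subgroup.center (Γ × Γ) := by
    rintro _ ⟨l, hl, rfl⟩
    exact Subgroup.mem_center_iff.2 fun g => Prod.ext (hc l hl g.1) (hc l hl g.2)
  haveI hΔn : (L.map d).Normal := ⟨fun z hz g => by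
    rwa [Subgroup.mem_center_iff.1 (hΔc hz) g, mul_inv_cancel_right]⟩
  have hΔD : L.map d ≤ D := by
    rintro _ ⟨l, hl, rfl⟩
    exact ⟨hLK hl, hLK hl, L.mul_mem hl hl⟩
  have hcD : ⁅D, S.map d⁆ ≤ D := Subgroup.le_normalizer_iff_commutator_le_left.1 hAD
  have hDK : D ≤ K.prod K := fun x hx => ⟨hx.1, hx.2.1⟩
  have hcopD : (Nat.card D).Coprime (Nat.card (S.map d)) := by
    refine ((Nat.Coprime.mul_left hcop hcop).coprime_dvd_left ?_).coprime_dvd_right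
      (Subgroup.card_map_dvd S d)
    rw [← Nat.card_prod, ← Nat.card_congr (K.prodEquiv K).toEquiv]
    exact Subgroup.card_dvd_of_le hDK
  have hDD : ⁅D, D⁆ ≤ L.map d := by
    rw [Subgroup.commutator_le]
    rintro ⟨x, y⟩ h ⟨x', y'⟩ h'
    refine ⟨⁅x, x'⁆, hcomm x h.1 x' h'.1, Prod.ext rfl ?_⟩
    have e1 : y = x⁻¹ * (x * y) := by group
    have e2 : y' = x'⁻¹ * (x' * y') := by group
    have e3 := hc _ h.2.2
    have e4 := hc _ h'.2.2
    have e5 := hc _ (hcomm x h.1 x' h'.1)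
    change ⁅x, x'⁆ = ⁅y, y'⁆
    generalize x * y = l at e1 e3
    generalize x' * y' = l' at e2 e4
    subst e1 e2
    have e6 : ⁅x⁻¹ * l, x'⁻¹ * l'⁆ = x⁻¹ * x'⁻¹ * x * x' := by
      rw [commutatorElement_def, mul_assoc x⁻¹ l, ← e3, mul_inv_rev, mul_inv_rev, inv_inv,
        inv_inv]
      calc x⁻¹ * (x'⁻¹ * l' * l) * (l⁻¹ * x) * (l'⁻¹ * x') = x⁻¹ * x'⁻¹ * (l' * x) * l'⁻¹ * x' := by
            group
        _ = _ := by rw [← e4]; group
    rw [e6]
    calc ⁅x, x'⁆ = (x' * x)⁻¹ * ((x' * x) * (x * x' * x⁻¹ * x'⁻¹)) := by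
          rw [commutatorElement_def]; group
      _ = _ := by rw [e5]; group
  have hDs : Group.IsSolvable D := isSolvable_of_commutator_le_center (hDD.trans hΔc)
  refine ⟨⁅D, S.map d⁆ ⊔ L.map d, fun x hx => ?_, fun x y h => ?_, fun y h => ?_, ?_,
    fun l hl => (le_sup_right : L.map d ≤ _) ⟨l, hl, rfl⟩, fun g hgK hgS => ?_⟩
  · obtain ⟨⟨c, c'⟩, hc', ⟨k, k'⟩, hk, he⟩ := exists_centralizer_mul_commutator_of_coprime hAD
      hcopD (Or.inl hDs) ((hD x x⁻¹).2 ⟨hx, K.inv_mem hx, by simp⟩)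
    have hcL : c ∈ L := hfix ⟨hc'.1.1, fun s hs => congrArg Prod.fst (hc'.2 (d s) ⟨s, hs, rfl⟩)⟩
    refine ⟨c * k', ?_⟩
    have he1 : x = c * k := congrArg Prod.fst he
    have : (x, c * k') = d c * (k, k') := Prod.ext he1 rfl
    rw [this]
    exact Subgroup.mul_mem _ ((le_sup_right : L.map d ≤ _) ⟨c, hcL, rfl⟩)
      ((le_sup_left : ⁅D, S.map d⁆ ≤ _) hk)
  · have := sup_le hcD hΔD h
    exact ⟨this.1, this.2.2⟩
  · set π := QuotientGroup.mk' (L.map d)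
    have hy : y ∈ L := by simpa using (sup_le hcD hΔD h).2.2
    have h1 := centralizer_inf_commutator_eq_bot_of_coprime (N := D.map π)
      (A := (S.map d).map π) (by
        rintro _ ⟨a, ha, rfl⟩
        exact map_mem_normalizer_map π (hAD ha))
      ((hcopD.coprime_dvd_left (Subgroup.card_map_dvd _ π)).coprime_dvd_right
        (Subgroup.card_map_dvd _ π))
      (by
        rw [← Subgroup.le_centralizer_iff_isMulCommutative, ← Subgroup.commutator_eq_bot_iff_le_centralizer,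
          ← Subgroup.map_commutator, map_mk_eq_bot_iff]
        exact hDD)
    have h2 : π (1, y) ∈ (D.map π ⊓ Subgroup.centralizer (((S.map d).map π : Subgroup _) : Set _)) ⊓
        ⁅D.map π, (S.map d).map π⁆ := by
      refine ⟨⟨⟨_, sup_le hcD hΔD h, rfl⟩, ?_⟩, ?_⟩
      · rintro _ ⟨a, -, rfl⟩
        rw [← map_mul, ← map_mul]
        exact congrArg π (Prod.ext (by simp) (hc y hy a.2))
      · rw [← Subgroup.map_commutator]
        exact map_mk_le_map_mk_iff.2 le_rfl ⟨_, h, rfl⟩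
    rw [h1, Subgroup.mem_bot] at h2
    obtain ⟨l, -, hl⟩ := (QuotientGroup.eq_one_iff _).1 h2
    exact (congrArg Prod.snd hl).symm.trans (congrArg Prod.fst hl)
  · let e := (MulEquiv.prodComm : Γ × Γ ≃* Γ × Γ).toMonoidHom
    have h1 : ∀ X : Subgroup Γ, (X.map d).map e = X.map d := fun X => by
      rw [Subgroup.map_map]; rfl
    have h2 : D.map e ≤ D := by
      rintro _ ⟨⟨x, y⟩, h, rfl⟩
      refine ⟨h.2.1, h.1, ?_⟩
      have : y * x = y * (x * y) * y⁻¹ := by group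
      exact this ▸ hLn.conj_mem _ h.2.2 y
    have h3 : (⁅D, S.map d⁆ ⊔ L.map d).map e ≤ ⁅D, S.map d⁆ ⊔ L.map d := by
      rw [Subgroup.map_sup, Subgroup.map_commutator, h1, h1]
      exact sup_le_sup_right (Subgroup.commutator_mono h2 le_rfl) _
    exact fun x y h => h3 ⟨_, h, rfl⟩
  · exact mem_normalizer_sup (mem_normalizer_commutator_gl (hDn g hgK) (map_mem_normalizer_map d hgS))
      (by rw [Subgroup.normalizer_eq_top]; exact Subgroup.mem_top _)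

/-- the involution inverting `K / L` and centralizing `C` -/
theorem exists_inverting_mulAut {G K L S C : Subgroup Γ} (hL : L ≤ Subgroup.center Γ)
    (hLK : L ≤ K) (hab : ⁅K, K⁆ ≤ L) (hGK : G ≤ Subgroup.normalizer (K : Set Γ))
    (hSG : S ≤ Subgroup.normalizer (G : Set Γ)) (hSK : S ≤ Subgroup.normalizer (K : Set Γ))
    (hcop : (Nat.card K).Coprime (Nat.card S)) (hCS : C ≤ Subgroup.centralizer (S : Set Γ))
    (hfix : K ⊓ Subgroup.centralizer (S : Set Γ) ≤ L) (hKC : K ⊔ C = G) :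
    ∃ τ : MulAut G, τ ^ 2 = 1 ∧ (∀ g : G, (g : Γ) ∈ C → τ g = g) ∧
      (∀ g : G, (g : Γ) ∈ L → τ g = g) ∧ (∀ g : G, (g : Γ) ∈ K → (τ g : Γ) * g ∈ L) ∧
      ∀ (s : Γ) (hs : s ∈ S) (g : G), τ (normAut G (hSG hs) g) = normAut G (hSG hs) (τ g) := by
  obtain ⟨W, h1, h2, h3, h4, h5, h6⟩ := exists_inverting_graph hL hLK hab hSK hcop hfix
  have hKG : K ≤ G := hKC ▸ le_sup_left
  have hCG : C ≤ G := hKC ▸ le_sup_right
  let d : Γ →* Γ × Γ := (MonoidHom.id Γ).prod (MonoidHom.id Γ)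
  have hCW : C.map d ≤ Subgroup.normalizer (W : Set (Γ × Γ)) := by
    rintro _ ⟨c, hc, rfl⟩
    exact h6 c (hGK (hCG hc)) (Subgroup.centralizer_le_normalizer _ (hCS hc))
  have hR : ∀ x y, (x, y) ∈ W ⊔ C.map d ↔
      ∃ k k' c, (k, k') ∈ W ∧ c ∈ C ∧ k * c = x ∧ k' * c = y := fun x y => by
    rw [mem_sup_of_le_normalizer hCW]
    constructor
    · rintro ⟨⟨k, k'⟩, hk, _, ⟨c, hc, rfl⟩, h⟩
      exact ⟨k, k', c, hk, hc, congrArg Prod.fst h, congrArg Prod.snd h⟩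
    · rintro ⟨k, k', c, hk, hc, rfl, rfl⟩
      exact ⟨(k, k'), hk, d c, ⟨c, hc, rfl⟩, rfl⟩
  obtain ⟨τ, hτ, hτ'⟩ := exists_mulAut_of_graph (G := G) (R := W ⊔ C.map d)
    (fun g hg => by
      rw [← hKC] at hg
      obtain ⟨k, hk, c, hc, rfl⟩ := (mem_sup_of_le_normalizer (hCG.trans hGK)).1 hg
      obtain ⟨k', hk'⟩ := h1 k hk
      exact ⟨k' * c, (hR _ _).2 ⟨k, k', c, hk', hc, rfl, rfl⟩⟩)
    (fun x y h => by
      obtain ⟨k, k', c, hk, hc, rfl, -⟩ := (hR _ _).1 h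
      exact G.mul_mem (hKG (h2 _ _ hk).1) (hCG hc))
    (fun y h => by
      obtain ⟨k, k', c, hk, hc, e, rfl⟩ := (hR _ _).1 h
      have hkL : k ∈ L := hfix ⟨(h2 _ _ hk).1, by
        rw [eq_inv_of_mul_eq_one_left e]
        exact Subgroup.inv_mem _ (hCS hc)⟩
      have := h3 (k⁻¹ * k') (by simpa using W.mul_mem (W.inv_mem (h5 k hkL)) hk)
      rw [← inv_mul_eq_one.1 this, e])
    (fun x y h => by
      obtain ⟨k, k', c, hk, hc, rfl, rfl⟩ := (hR _ _).1 h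
      exact (hR _ _).2 ⟨k', k, c, h4 _ _ hk, hc, rfl, rfl⟩)
  refine ⟨τ, hτ, fun g hg => Subtype.ext ((hτ' g g).1 ((le_sup_right : C.map d ≤ _) ⟨g, hg, rfl⟩)),
    fun g hg => Subtype.ext ((hτ' g g).1 ((le_sup_left : W ≤ _) (h5 g hg))), fun g hg => ?_,
    fun s hs g => Subtype.ext ((hτ' _ _).1 ?_)⟩
  · obtain ⟨y, hy⟩ := h1 g hg
    rw [(hτ' g y).1 ((le_sup_left : W ≤ _) hy)]
    exact (h2 _ _ (h4 _ _ hy)).2
  · have h7 : d s ∈ Subgroup.normalizer ((W ⊔ C.map d : Subgroup (Γ × Γ)) : Set (Γ × Γ)) :=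
      mem_normalizer_sup (h6 s (hSK hs) (S.le_normalizer hs)) (map_mem_normalizer_map d
        (Subgroup.centralizer_le_normalizer _ (Subgroup.le_centralizer_iff.1 hCS hs)))
    exact (Subgroup.mem_normalizer_iff.1 h7 _).1 ((hτ' g _).2 rfl)

end involution

section central
variable {Γ : Type u} [Group Γ] [Finite Γ]

omit [Finite Γ] in
theorem conj_mul_inv_mem_of_sup {G K C : Subgroup Γ} {s : Γ}
    (hCK : C ≤ Subgroup.normalizer (K : Set Γ)) (hs : s ∈ Subgroup.normalizer (K : Set Γ))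
    (hsC : ∀ c ∈ C, s * c = c * s) (hKC : K ⊔ C = G) {g : Γ} (hg : g ∈ G) :
    s * g * s⁻¹ * g⁻¹ ∈ K := by
  rw [← hKC] at hg
  obtain ⟨k, hk, c, hc, rfl⟩ := (mem_sup_of_le_normalizer hCK).1 hg
  have : s * (k * c) * s⁻¹ * (k * c)⁻¹ = s * k * s⁻¹ * (s * c * (c * s)⁻¹) * k⁻¹ := by group
  rw [this, hsC c hc, mul_inv_cancel, mul_one]
  exact K.mul_mem ((Subgroup.mem_normalizer_iff.1 hs k).1 hk) (K.inv_mem hk)

/-- the central case of the odd multiplicity correspondence -/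
theorem glBij_two_central {G K L S C : Subgroup Γ} (hL : L ≤ Subgroup.center Γ)
    (hLK : L ≤ K) (hab : ⁅K, K⁆ ≤ L) (hGK : G ≤ Subgroup.normalizer (K : Set Γ))
    (hSG : S ≤ Subgroup.normalizer (G : Set Γ)) (hSK : S ≤ Subgroup.normalizer (K : Set Γ))
    (hcop : (Nat.card G).Coprime (Nat.card S)) (hodd : Odd (Nat.card G))
    (hCS : C ≤ Subgroup.centralizer (S : Set Γ)) (hLC : L ≤ C)
    (hfix : K ⊓ Subgroup.centralizer (S : Set Γ) ≤ L) (hKC : K ⊔ C = G) (hCG : C ≤ G) :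
    GlBij 2 (Subgroup.inclusion hCG) (fun χ => ∀ s ∈ S, CharInv s χ.1) (fun _ => True) := by
  have hKG : K ≤ G := hKC ▸ le_sup_left
  have hcopK := hcop.coprime_dvd_left (Subgroup.card_dvd_of_le hKG)
  have hoddK : Odd (Nat.card K) := hodd.of_dvd_nat (Subgroup.card_dvd_of_le hKG)
  obtain ⟨τ, h1, h2, h3, h4, h5⟩ :=
    exists_inverting_mulAut hL hLK hab hGK hSG hSK hcopK hCS hfix hKC
  have := Fintype.ofFinite K
  have := Fintype.ofFinite L
  have hdec : ∀ g : G, ∃ k c : G, (k : Γ) ∈ K ∧ (c : Γ) ∈ C ∧ g = k * c := fun g => by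
    obtain ⟨k, hk, c, hc, h⟩ := (mem_sup_of_le_normalizer (hCG.trans hGK)).1 (hKC.ge g.2)
    exact ⟨⟨k, hKG hk⟩, ⟨c, hCG hc⟩, hk, hc, Subtype.ext h.symm⟩
  have hτK : ∀ g : G, (τ g : Γ) * (g : Γ)⁻¹ ∈ K := fun g => by
    obtain ⟨k, c, hk, hc, rfl⟩ := hdec g
    have : (τ (k * c) : Γ) * ((k * c : G) : Γ)⁻¹ = τ k * k * (k : Γ)⁻¹ * (k : Γ)⁻¹ := by
      rw [map_mul, h2 c hc]
      push_cast
      group
    rw [this]
    exact K.mul_mem (K.mul_mem (hLK (h4 k hk)) (K.inv_mem hk)) (K.inv_mem hk)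
  have hsK : ∀ (s : Γ) (hs : s ∈ S) (g : G), (normAut G (hSG hs) g : Γ) * (g : Γ)⁻¹ ∈ K :=
    fun s hs g => conj_mul_inv_mem_of_sup (hCG.trans hGK) (hSK hs)
      (fun c hc => hCS hc s hs) hKC g.2
  have hSL : S ≤ Subgroup.normalizer (L : Set Γ) := fun s _ =>
    Subgroup.mem_normalizer_iff.2 (fun l => ⟨fun hl => by
      rwa [Subgroup.mem_center_iff.1 (hL hl) s, mul_inv_cancel_right], fun hl => by
      have := Subgroup.mem_center_iff.1 (hL hl) s⁻¹
      rw [← mul_assoc, ← mul_assoc, inv_mul_cancel, one_mul, mul_left_inj] at this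
      rwa [this]⟩)
  set τ' := autRestrict hKG τ (mem_iff_of_mul_inv_mem le_rfl hτK) with hτ'
  have hcomm : ∀ (s : Γ) (hs : s ∈ S), τ' * normAut K (hSK hs) = normAut K (hSK hs) * τ' :=
    fun s hs => MulEquiv.ext fun k => by
      have := congrArg Subtype.val (h5 s hs ⟨k, hKG k.2⟩)
      exact Subtype.ext this
  have hover : ∀ (α : MulAut K), (∀ l : L, α ⟨l, hLK l.2⟩ = ⟨l, hLK l.2⟩) →
      ∀ (θ : IrrCharacter K) (l : L), (α • θ).1 ⟨l, hLK l.2⟩ = θ.1 ⟨l, hLK l.2⟩ :=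
    fun α hα θ l => by
      rw [IrrCharacter.mulAut_smul_apply]
      nth_rewrite 1 [← hα l]
      simp
  have hKiff : ∀ θ : IrrCharacter K, τ' • θ = θ ↔ ∀ s ∈ S, CharInv s θ.1 := fun θ => by
    obtain ⟨φ, hφ⟩ := (θ.isCharacter.comp (Subgroup.inclusion hLK)).exists_irr_constituent
      (fun h => θ.one_ne_zero (by simpa using congrFun h 1))
    constructor
    · intro h s hs
      refine (charInv_iff_smul (hSK hs)).2 (eq_of_inverting_of_over hLK hab hoddK (τ := τ')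
        (fun k => h4 ⟨k, hKG k.2⟩ k.2) hφ ?_ h (by rw [← mul_smul, hcomm s hs, mul_smul, h]))
      rw [funext (hover _ (fun l => Subtype.ext ?_) θ)]
      · exact hφ
      · rw [coe_normAut, Subgroup.mem_center_iff.1 (hL l.2) s, mul_inv_cancel_right]
    · intro h
      refine eq_of_invariant_of_over hLK hab hSK hSL hcopK
        (isSolvable_of_commutator_le_center (hab.trans hL)) hfix hφ ?_ h (fun s hs => ?_)
      · rw [funext (hover _ (fun l => Subtype.ext ?_) θ)]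
        · exact hφ
        · have := congrArg Subtype.val (h3 ⟨l, hKG (hLK l.2)⟩ l.2)
          exact this
      · rw [charInv_iff_smul (hSK hs), ← mul_smul, ← hcomm s hs, mul_smul,
          (charInv_iff_smul (hSK hs)).1 (h s hs)]
  have hidx : K.relIndex G ∣ Nat.card G := Subgroup.relIndex_dvd_card K G
  have hGiff : ∀ χ : IrrCharacter G, (∀ s ∈ S, CharInv s χ.1) ↔ τ • χ = χ := fun χ => by
    rw [smul_eq_iff_forall_under hKG hGK hτK h1
      ((Nat.coprime_two_left.2 hodd).coprime_dvd_right hidx)]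
    have h6 : ∀ (s : Γ) (hs : s ∈ S), CharInv s χ.1 ↔ ∀ θ : IrrCharacter K,
        classInner (fun k : K => χ.1 ⟨k, hKG k.2⟩) θ.1 ≠ 0 → CharInv s θ.1 := fun s hs => by
      rw [charInv_iff_smul (hSG hs), smul_eq_iff_forall_under hKG hGK (hsK s hs)
        (normAut_pow_orderOf _) ((hcop.symm.coprime_dvd_left
          (S.orderOf_dvd_natCard hs)).coprime_dvd_right hidx)]
      simp only [charInv_iff_smul (hSK hs)]
      rfl
    exact ⟨fun h θ hθ => (hKiff θ).2 (fun s hs => (h6 s hs).1 (h s hs) θ hθ),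
      fun h s hs => (h6 s hs).2 (fun θ hθ => (hKiff θ).1 (h θ hθ) s hs)⟩
  have h7 := glBij_mulAut (k := 1) Nat.prime_two hodd.not_two_dvd_nat (τ := τ) h1
    (C := C.subgroupOf G) (fun g => ⟨h2 g, fun h => by
      obtain ⟨k, c, hk, hc, rfl⟩ := hdec g
      rw [map_mul, h2 c hc, mul_left_inj] at h
      have h8 := h4 k hk
      rw [h, ← sq] at h8
      have h9 : (k : Γ) ∈ L := by
        obtain ⟨m, hm⟩ := hodd
        have h10 : (k : Γ) ^ Nat.card G = 1 := congrArg Subtype.val (pow_card_eq_one' (x := k))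
        rw [hm, pow_succ, pow_mul, mul_eq_one_iff_eq_inv'] at h10
        rw [h10]
        exact L.inv_mem (L.pow_mem h8 m)
      exact C.mul_mem (hLC h9) hc⟩)
  exact (h7.trans Nat.prime_two (glBij_mulEquiv Nat.prime_two
    (Subgroup.subgroupOfEquivOfLe hCG).symm (Q := fun _ => True) (fun _ => Iff.rfl))).congr
    (fun _ => rfl) hGiff (fun _ => Iff.rfl)

end central

end Cfsg
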