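import Mathlib
import Cfsg.Agent.CT.GlOdd

/-! The odd multiplicity correspondence: reduction to the central case. -/

set_option autoImplicit false
set_option linter.unusedSectionVars false

namespace Cfsg

open scoped ComplexConjugate commutatorElement

universe u v w

/-- the relation `R` is a bijection between `{a | P a}` and `{b | Q b}` -/
def RelBij {α β : Type*} (R : α → β → Prop) (P : α → Prop) (Q : β → Prop) : Prop :=
  (∀ a, P a → ∃! b, Q b ∧ R a b) ∧ ∀ b, Q b → ∃! a, P a ∧ R a b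

theorem RelBij.transfer {α β α' β' : Type*} {R : α → β → Prop} {P : α → Prop} {Q : β → Prop}
    {R' : α' → β' → Prop} {P' : α' → Prop} {Q' : β' → Prop} (h : RelBij R' P' Q')
    {M : α' → α → Prop} {N : β' → β → Prop} (hM : RelBij M P' P) (hN : RelBij N Q' Q)
    (hR : ∀ a' a b' b, P' a' → Q' b' → M a' a → N b' b → (R a b ↔ R' a' b')) :
    RelBij R P Q := by
  constructor
  · intro a ha
    obtain ⟨a', ⟨ha', h1⟩, -⟩ := hM.2 a ha
    obtain ⟨b', ⟨hb', h2⟩, hu⟩ := h.1 a' ha'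
    obtain ⟨b, ⟨hb, h3⟩, hu'⟩ := hN.1 b' hb'
    refine ⟨b, ⟨hb, (hR _ _ _ _ ha' hb' h1 h3).2 h2⟩, fun c hc => ?_⟩
    obtain ⟨c', ⟨hc', h4⟩, -⟩ := hN.2 c hc.1
    obtain rfl := hu c' ⟨hc', (hR _ _ _ _ ha' hc' h1 h4).1 hc.2⟩
    exact hu' c ⟨hc.1, h4⟩
  · intro b hb
    obtain ⟨b', ⟨hb', h1⟩, -⟩ := hN.2 b hb
    obtain ⟨a', ⟨ha', h2⟩, hu⟩ := h.2 b' hb'
    obtain ⟨a, ⟨ha, h3⟩, hu'⟩ := hM.1 a' ha'
    refine ⟨a, ⟨ha, (hR _ _ _ _ ha' hb' h3 h1).2 h2⟩, fun c hc => ?_⟩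
    obtain ⟨c', ⟨hc', h4⟩, -⟩ := hM.2 c hc.1
    obtain rfl := hu c' ⟨hc', (hR _ _ _ _ hc' hb' h4 h1).1 hc.2⟩
    exact hu' c ⟨hc.1, h4⟩

theorem RelBij.restrict {α β : Type*} {R : α → β → Prop} {P : α → Prop} {Q : β → Prop}
    (h : RelBij R P Q) {P' : α → Prop} {Q' : β → Prop} (hP : ∀ a, P' a → P a)
    (hQ : ∀ b, Q' b → Q b) (hc : ∀ a b, P a → Q b → R a b → (P' a ↔ Q' b)) :
    RelBij R P' Q' := by
  constructor
  · intro a ha
    obtain ⟨b, ⟨hb, h1⟩, hu⟩ := h.1 a (hP a ha)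
    exact ⟨b, ⟨(hc a b (hP a ha) hb h1).1 ha, h1⟩, fun c hc => hu c ⟨hQ c hc.1, hc.2⟩⟩
  · intro b hb
    obtain ⟨a, ⟨ha, h1⟩, hu⟩ := h.2 b (hQ b hb)
    exact ⟨a, ⟨(hc a b ha (hQ b hb) h1).2 hb, h1⟩, fun c hc => hu c ⟨hP c hc.1, hc.2⟩⟩

theorem relBij_of_map {G : Type u} [Group G] {H : Type v} [Group H] (F : (G → ℂ) → (H → ℂ))
    {P : IrrCharacter G → Prop} {Q : IrrCharacter H → Prop}
    (h1 : ∀ χ, P χ → ∃ ψ, Q ψ ∧ ψ.1 = F χ.1) (h2 : ∀ ψ, Q ψ → ∃ χ, P χ ∧ ψ.1 = F χ.1)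
    (h3 : ∀ χ χ', P χ → P χ' → F χ.1 = F χ'.1 → χ = χ') :
    RelBij (fun χ ψ => ψ.1 = F χ.1) P Q := by
  constructor
  · intro χ hχ
    obtain ⟨ψ, hψ, h⟩ := h1 χ hχ
    exact ⟨ψ, ⟨hψ, h⟩, fun ψ' h' => Subtype.ext (h'.2.trans h.symm)⟩
  · intro ψ hψ
    obtain ⟨χ, hχ, h⟩ := h2 ψ hψ
    exact ⟨χ, ⟨hχ, h⟩, fun χ' h' => h3 _ _ h'.1 hχ (h'.2.symm.trans h)⟩

/-- the multiplicity of `ψ` in the restriction of `χ` is odd -/
def OddMult {G : Type u} [Group G] {H : Type v} [Group H] [Fintype H] (f : H →* G)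
    (χ : IrrCharacter G) (ψ : IrrCharacter H) : Prop :=
  ∃ m : ℕ, classInner (fun h => χ.1 (f h)) ψ.1 = (m : ℂ) ∧ Odd m

theorem OddMult.ne_zero {G : Type u} [Group G] {H : Type v} [Group H] [Fintype H] {f : H →* G}
    {χ : IrrCharacter G} {ψ : IrrCharacter H} (h : OddMult f χ ψ) :
    classInner (fun h => χ.1 (f h)) ψ.1 ≠ 0 := by
  obtain ⟨m, hm, ho⟩ := h
  rw [hm, Nat.cast_ne_zero]
  exact ho.pos.ne'

theorem GlBij.relBij_oddMult {G : Type u} [Group G] {H : Type v} [Group H] [Fintype H]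
    {f : H →* G} {P : IrrCharacter G → Prop} {Q : IrrCharacter H → Prop} (h : GlBij 2 f P Q) :
    RelBij (OddMult f) P Q := by
  have h1 : ∀ (χ : IrrCharacter G) (ψ : IrrCharacter H), GlCorr 2 f χ.1 ψ.1 → OddMult f χ ψ :=
    fun χ ψ h => by
      obtain ⟨m, hm, h2, -⟩ := h.exists_nat Nat.prime_two χ.isCharacter
      exact ⟨m, hm, Nat.not_even_iff_odd.1 (fun h => h2 h.two_dvd)⟩
  have h2 : ∀ χ, P χ → ∀ ψ, OddMult f χ ψ → GlCorr 2 f χ.1 ψ.1 := by
    rintro χ hχ ψ ⟨m, hm, ho⟩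
    obtain ⟨β, -, hβ⟩ := h.ex χ hχ
    rwa [hβ.eq_of_not_dvd (β' := ψ) (m := m) (by exact_mod_cast hm)
      (by rw [Int.natCast_dvd_natCast]; exact ho.not_two_dvd_nat)]
  constructor
  · intro χ hχ
    obtain ⟨β, hβ, h3⟩ := h.ex χ hχ
    exact ⟨β, ⟨hβ, h1 _ _ h3⟩, fun ψ hψ => h3.unique Nat.prime_two (h2 χ hχ ψ hψ.2)⟩
  · intro β hβ
    obtain ⟨χ, hχ, h3⟩ := h.surj β hβ
    exact ⟨χ, ⟨hχ, h1 _ _ h3⟩, fun χ' hχ' => h.inj _ _ β hχ'.1 hχ (h2 χ' hχ'.1 β hχ'.2) h3⟩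

section
variable {Γ : Type u} [Group Γ] [Finite Γ]

theorem IrrCharacter.exists_central_hom {Z U : Subgroup Γ} (hZ : Z ≤ Subgroup.center Γ)
    (hZU : Z ≤ U) (β : IrrCharacter U) :
    ∃ ω : Z →* ℂˣ, ∀ (z : Z) (u : U), β.1 (⟨z, hZU z.2⟩ * u) = ω z * β.1 u := by
  obtain ⟨l, h1, -⟩ := β.isCharacter.exists_hom_of_le_charCenter (Z := Z.subgroupOf U)
    (fun h0 => β.one_ne_zero (congrFun h0 1)) (fun z hz => β.center_le_charCenter
      (Subgroup.mem_center_iff.2 fun k => Subtype.ext (Subgroup.mem_center_iff.1 (hZ hz) k)))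
  exact ⟨l.comp (Subgroup.subgroupOfEquivOfLe hZU).symm.toMonoidHom,
    fun z u => h1 ⟨⟨z, hZU z.2⟩, z.2⟩ u⟩

theorem over_central_iff_of_constituent {Z U V : Subgroup Γ} [Fintype U]
    (hZ : Z ≤ Subgroup.center Γ) (hZU : Z ≤ U) (hUV : U ≤ V) {χ : IrrCharacter V}
    {β : IrrCharacter U} (h : classInner (fun u : U => χ.1 ⟨u, hUV u.2⟩) β.1 ≠ 0)
    (lam : Z →* ℂˣ) :
    (∀ (z : Z) (v : V), χ.1 (⟨z, hUV (hZU z.2)⟩ * v) = lam z * χ.1 v) ↔
      ∀ (z : Z) (u : U), β.1 (⟨z, hZU z.2⟩ * u) = lam z * β.1 u := by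
  obtain ⟨ω, hω⟩ := χ.exists_central_hom hZ (hZU.trans hUV)
  obtain ⟨ω', hω'⟩ := β.exists_central_hom hZ hZU
  have h1 : ∀ z, (ω z : ℂ) = ω' z := fun z => by
    have h2 : classInner (fun u : U => χ.1 ⟨u, hUV u.2⟩) β.1 =
        ω z * conj (ω' z : ℂ) * classInner (fun u : U => χ.1 ⟨u, hUV u.2⟩) β.1 := by
      rw [mul_assoc, ← classInner_const_mul_right, ← classInner_const_mul_left, classInner_def,
        classInner_def]
      congr 1
      refine (Fintype.sum_equiv (Equiv.mulLeft (⟨z, hZU z.2⟩ : U)) _ _ (fun u => ?_)).symm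
      rw [← hω, ← hω']
      rfl
    have h3 : (ω z : ℂ) * conj (ω' z : ℂ) = 1 := by
      nth_rewrite 1 [← one_mul (classInner _ _)] at h2
      exact (mul_right_cancel₀ h h2).symm
    rw [conj_unitsHom, map_inv, Units.val_inv_eq_inv_val] at h3
    exact (mul_inv_eq_one₀ (ω' z).ne_zero).1 h3
  simp only [hω, hω', h1]
  exact ⟨fun h z u => by rw [mul_right_cancel₀ χ.one_ne_zero (h z 1)],
    fun h z u => by rw [mul_right_cancel₀ β.one_ne_zero (h z 1)]⟩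

namespace TripleIso
variable {L : Subgroup Γ} [L.Normal] {φ : IrrCharacter L} (T : TripleIso L φ)

theorem mem_normalizer_star {U : Subgroup Γ} {x : Γ} {y : T.E} (h : (x : Γ ⧸ L) = T.ϖ y)
    (hx : x ∈ Subgroup.normalizer (U : Set Γ)) :
    y ∈ Subgroup.normalizer ((T.star U : Subgroup T.E) : Set T.E) := by
  refine Subgroup.le_normalizer_comap T.ϖ ?_
  rw [Subgroup.mem_comap, ← h]
  exact map_mem_normalizer_map (QuotientGroup.mk' L) hx

theorem exists_of_mem_star {U : Subgroup Γ} {e : T.E} (he : e ∈ T.star U) :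
    ∃ u ∈ U, (u : Γ ⧸ L) = T.ϖ e := he

theorem star_sup (U V : Subgroup Γ) : T.star (U ⊔ V) = T.star U ⊔ T.star V := by
  simp only [star]
  rw [Subgroup.map_sup, Subgroup.comap_sup_eq _ _ _ T.ϖ_surjective]

theorem card_star {U : Subgroup Γ} (hLU : L ≤ U) :
    Nat.card (T.star U) = Nat.card T.ϖ.ker * L.relIndex U := by
  rw [← card_mul_relIndex (T.ker_le_star U), ← T.relIndex_star le_rfl hLU, T.star_self]

theorem charInv_lift_iff {U : Subgroup Γ} (hLU : L ≤ U) {β : T.star U → ℂ}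
    (hβ : (T.restrict U hLU).IsOver β) {x : Γ} {y : T.E} (h : (x : Γ ⧸ L) = T.ϖ y) :
    CharInv x ((T.restrict U hLU).lift β) ↔ CharInv y β := by
  constructor
  · intro hx e e' he
    obtain ⟨u, hu, hue⟩ := T.exists_of_mem_star e.2
    obtain ⟨n, hn, h0⟩ := T.exists_tau_ne_zero hue
    have h1 : ((u * n : Γ) : Γ ⧸ L) = T.ϖ e := by
      rw [QuotientGroup.mk_mul, (QuotientGroup.eq_one_iff n).2 hn, mul_one, hue]
    have h2 : ((x * (u * n) * x⁻¹ : Γ) : Γ ⧸ L) = T.ϖ e' := by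
      rw [he, QuotientGroup.mk_mul, QuotientGroup.mk_mul, QuotientGroup.mk_inv, h1, h]
      simp
    have h3 := hx ⟨u * n, U.mul_mem hu (hLU hn)⟩ ⟨_, (T.mem_star_iff hLU h2).1 e'.2⟩ rfl
    rw [T.restrict_lift_apply hLU hβ ⟨u * n, _⟩ e h1, T.restrict_lift_apply hLU hβ _ e' h2] at h3
    dsimp only at h3
    rw [he, T.tau_conj h] at h3
    exact mul_right_cancel₀ h0 h3
  · intro hy u u' hu
    have h1 := (T.ϖ_sec u).symm
    have h2 : ((u' : Γ) : Γ ⧸ L) = T.ϖ (y * T.sec u * y⁻¹) := by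
      rw [hu, QuotientGroup.mk_mul, QuotientGroup.mk_mul, QuotientGroup.mk_inv, h1, h]
      simp
    rw [T.restrict_lift_apply hLU hβ u ⟨_, T.sec_mem_star u.2⟩ h1,
      T.restrict_lift_apply hLU hβ u' ⟨_, (T.mem_star_iff hLU h2).2 u'.2⟩ h2,
      hy ⟨_, T.sec_mem_star u.2⟩ ⟨_, (T.mem_star_iff hLU h2).2 u'.2⟩ rfl]
    congr 1
    exact (congrArg (fun g => T.tau g _) hu).trans (T.tau_conj h _ _)

theorem classInner_res_lift_lift {U V : Subgroup Γ} [Fintype U] [Fintype (T.star U)]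
    (hLU : L ≤ U) (hUV : U ≤ V) {β : T.star V → ℂ}
    (hβ : (T.restrict V (hLU.trans hUV)).IsOver β) {γ : T.star U → ℂ}
    (hγ : (T.restrict U hLU).IsOver γ) :
    classInner (fun u : U => (T.restrict V (hLU.trans hUV)).lift β ⟨u, hUV u.2⟩)
      ((T.restrict U hLU).lift γ) =
      classInner (fun e : T.star U => β ⟨e, T.star_mono hUV e.2⟩) γ := by
  have h1 : (T.restrict U hLU).IsOver (fun e : T.star U => β ⟨e, T.star_mono hUV e.2⟩) :=
    (T.restrict_isOver_iff hLU _).2 (fun z e =>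
      (T.restrict_isOver_iff (hLU.trans hUV) β).1 hβ z ⟨e, T.star_mono hUV e.2⟩)
  letI : Fintype (T.restrict U hLU).E := ‹Fintype (T.star U)›
  refine Eq.trans ?_ (classInner_lift (T := T.restrict U hLU) h1 hγ)
  congr 1
  funext u
  rw [T.restrict_lift_apply hLU h1 u ⟨_, T.sec_mem_star u.2⟩ (T.ϖ_sec u).symm,
    T.restrict_lift_apply (hLU.trans hUV) hβ ⟨u, hUV u.2⟩ ⟨_, T.sec_mem_star (hUV u.2)⟩
      (T.ϖ_sec u).symm]

theorem relBij_lift [Fintype L] {U S : Subgroup Γ} (hLU : L ≤ U) {S' : Subgroup T.E}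
    (h1 : ∀ s ∈ S, ∃ y ∈ S', (s : Γ ⧸ L) = T.ϖ y) (h2 : ∀ y ∈ S', ∃ s ∈ S, (s : Γ ⧸ L) = T.ϖ y) :
    RelBij (fun (β : IrrCharacter (T.star U)) (χ : IrrCharacter U) =>
        χ.1 = (T.restrict U hLU).lift β.1)
      (fun β => (T.restrict U hLU).IsOver β.1 ∧ ∀ y ∈ S', CharInv y β.1)
      (fun χ => classInner (fun l : L => χ.1 ⟨l, hLU l.2⟩) φ.1 ≠ 0 ∧ ∀ s ∈ S, CharInv s χ.1) := by
  have := Fintype.ofFinite (L.subgroupOf U)
  refine relBij_of_map _ (fun β hβ => ⟨⟨_, lift_isIrr hβ.1 β.2⟩, ⟨?_, fun s hs => ?_⟩, rfl⟩)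
    (fun χ hχ => ?_) (fun β β' hβ hβ' h => Subtype.ext (lift_injective hβ.1 hβ'.1 h))
  · rw [← classInner_res_subgroupOf hLU]
    exact (classInner_res_lift hβ.1).trans_ne β.one_ne_zero
  · obtain ⟨y, hy, h⟩ := h1 s hs
    exact (T.charInv_lift_iff hLU hβ.1 h).2 (hβ.2 y hy)
  · obtain ⟨β, hβ, h⟩ := exists_lift_eq (T := T.restrict U hLU) χ
      ((classInner_res_subgroupOf hLU χ.1 φ.1).trans_ne hχ.1)
    refine ⟨β, ⟨hβ, fun y hy => ?_⟩, h.symm⟩
    obtain ⟨s, hs, h'⟩ := h2 y hy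
    exact (T.charInv_lift_iff hLU hβ h').1 (h ▸ hχ.2 s hs)

end TripleIso

/-- the odd multiplicity correspondence over an invariant character of a normal subgroup -/
theorem relBij_oddMult_of_invariant {G K L S C H : Subgroup Γ} [L.Normal] [Fintype L]
    [Fintype H] {φ : IrrCharacter L} (hinv : charInertia φ.1 = ⊤) (hLK : L ≤ K)
    (hab : ⁅K, K⁆ ≤ L) (hGK : G ≤ Subgroup.normalizer (K : Set Γ))
    (hSG : S ≤ Subgroup.normalizer (G : Set Γ)) (hSK : S ≤ Subgroup.normalizer (K : Set Γ))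
    (hcop : (Nat.card G).Coprime (Nat.card S)) (hodd : Odd (Nat.card G))
    (hLs : Group.IsSolvable L) (hCS : C ≤ Subgroup.centralizer (S : Set Γ))
    (hfix : K ⊓ Subgroup.centralizer (S : Set Γ) ≤ L) (hKC : K ⊔ C = G) (hH : H = L ⊔ C)
    (hLH : L ≤ H) (hHG : H ≤ G) :
    RelBij (OddMult (Subgroup.inclusion hHG))
      (fun χ => classInner (fun l : L => χ.1 ⟨l, hHG (hLH l.2)⟩) φ.1 ≠ 0 ∧
        ∀ s ∈ S, CharInv s χ.1)
      (fun ψ => classInner (fun l : L => ψ.1 ⟨l, hLH l.2⟩) φ.1 ≠ 0 ∧ ∀ s ∈ S, CharInv s ψ.1) := by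
  obtain ⟨T⟩ := nonempty_tripleIso hinv
  have hLG := hLH.trans hHG
  have hKG : K ≤ G := hKC ▸ le_sup_left
  have hLd := Subgroup.card_dvd_of_le hLG
  have hcopL := hcop.coprime_dvd_left hLd
  have hri : L.relIndex (L ⊔ S) ∣ Nat.card S := by
    rw [Subgroup.relIndex_sup_left]; exact Subgroup.relIndex_dvd_card L S
  have hZS := T.coprime_card_ker hcopL
  have hZi : T.ϖ.ker.relIndex (T.star (L ⊔ S)) = L.relIndex (L ⊔ S) := by
    rw [← T.relIndex_star le_rfl le_sup_left, T.star_self]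
  obtain ⟨S', -, hS2, hS3⟩ := exists_complement_in (T.ker_le_star (L ⊔ S))
    (by rw [Subgroup.normalizer_eq_top]; exact le_top) (hZi ▸ hZS.coprime_dvd_right hri)
  have hS4 : Nat.card S' ∣ Nat.card S := by rwa [hS3, hZi]
  have h1 : ∀ s ∈ S, ∃ y ∈ S', (s : Γ ⧸ L) = T.ϖ y := fun s hs => by
    have := T.sec_mem_star ((le_sup_right : S ≤ L ⊔ S) hs)
    rw [← hS2] at this
    obtain ⟨z, hz, y, hy, h⟩ := Subgroup.mem_sup_of_normal_left.1 this
    exact ⟨y, hy, by rw [← T.ϖ_sec, ← h, map_mul, MonoidHom.mem_ker.1 hz, one_mul]⟩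
  have h2 : ∀ y ∈ S', ∃ s ∈ S, (s : Γ ⧸ L) = T.ϖ y := fun y hy => by
    obtain ⟨u, hu, h⟩ := T.exists_of_mem_star (hS2.le ((le_sup_right : S' ≤ _) hy))
    obtain ⟨l, hl, s, hs, rfl⟩ := Subgroup.mem_sup_of_normal_left.1 hu
    exact ⟨s, hs, by rw [← h, QuotientGroup.mk_mul, (QuotientGroup.eq_one_iff l).2 hl, one_mul]⟩
  have h3 : ∀ U : Subgroup Γ, S ≤ Subgroup.normalizer (U : Set Γ) →
      S' ≤ Subgroup.normalizer ((T.star U : Subgroup T.E) : Set T.E) := fun U hU y hy => by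
    obtain ⟨s, hs, h⟩ := h2 y hy
    exact T.mem_normalizer_star h (hU hs)
  have hHS : T.star H ≤ Subgroup.centralizer (S' : Set T.E) := fun y hy => by
    obtain ⟨c, hc, z, hz, rfl⟩ := exists_centralizer_mul_of_coprime (K := T.ϖ.ker) (A := S')
      (by rw [Subgroup.normalizer_eq_top]; exact le_top) (hZS.coprime_dvd_right hS4)
      (Or.inl (isSolvable_of_isMulCommutative T.isCyclic_ker.isMulCommutative)) (x := y)
      (fun a ha => by
        obtain ⟨s, hs, h⟩ := h2 a ha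
        obtain ⟨u, hu, h'⟩ := T.exists_of_mem_star hy
        obtain ⟨l, hl, c, hc, rfl⟩ := Subgroup.mem_sup_of_normal_left.1 (hH.le hu)
        rw [QuotientGroup.mk_mul, (QuotientGroup.eq_one_iff l).2 hl, one_mul] at h'
        rw [MonoidHom.mem_ker, map_mul, map_mul, map_mul, map_inv, map_inv, ← h, ← h',
          ← QuotientGroup.mk_mul, hCS hc s hs]
        simp)
    exact mul_mem hc (Subgroup.center_le_centralizer _ (T.ker_le_center hz))
  have hbij := (glBij_two_central (G := T.star G) (K := T.star K) (S := S') (C := T.star H)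
    T.ker_le_center (T.ker_le_star K)
    (by
      rw [Subgroup.commutator_le]
      intro a ha b hb
      obtain ⟨x, hx, h⟩ := T.exists_of_mem_star ha
      obtain ⟨y, hy, h'⟩ := T.exists_of_mem_star hb
      rw [MonoidHom.mem_ker, map_commutatorElement, ← h, ← h']
      exact (QuotientGroup.eq_one_iff ⁅x, y⁆).2 (hab (Subgroup.commutator_mem_commutator hx hy)))
    (fun y hy => by
      obtain ⟨x, hx, h⟩ := T.exists_of_mem_star hy
      exact T.mem_normalizer_star h (hGK hx))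
    (h3 G hSG) (h3 K hSK)
    (by
      rw [T.card_star hLG]
      exact (Nat.Coprime.mul_left hZS (hcop.coprime_dvd_left
        (Subgroup.relIndex_dvd_card L G))).coprime_dvd_right hS4)
    (by
      rw [T.card_star hLG]
      exact (Nat.coprime_two_right.1 (T.coprime_card_ker (Nat.coprime_two_right.2
        (hodd.of_dvd_nat hLd)))).mul (hodd.of_dvd_nat (Subgroup.relIndex_dvd_card L G)))
    hHS (T.ker_le_star H)
    (fun y hy => by
      obtain ⟨k, hk, h⟩ := T.exists_of_mem_star hy.1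
      obtain ⟨c, hc, l, hl, rfl⟩ := exists_centralizer_mul_of_coprime (K := L) (A := S)
        (by rw [Subgroup.normalizer_eq_top]; exact le_top) hcopL (Or.inl hLs) (x := k)
        (fun s hs => by
          obtain ⟨a, ha, h'⟩ := h1 s hs
          rw [← QuotientGroup.eq_one_iff]
          simp only [QuotientGroup.mk_mul, QuotientGroup.mk_inv, h, h']
          rw [← map_mul, hy.2 a ha]
          simp)
      have hcL : c ∈ L := hfix ⟨(K.mul_mem_cancel_right (hLK hl)).1 hk, hc⟩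
      rw [MonoidHom.mem_ker, ← h]
      exact (QuotientGroup.eq_one_iff _).2 (L.mul_mem hcL hl))
    (by rw [← T.star_sup, hH, ← sup_assoc, sup_eq_left.2 hLK, hKC]) (T.star_mono hHG))
  have := Fintype.ofFinite (T.star H)
  refine (hbij.relBij_oddMult.restrict (fun _ h => h.2) (fun _ _ => trivial)
    (fun χ ψ hχ _ h => ?_)).transfer (T.relBij_lift hLG h1 h2) (T.relBij_lift hLH h1 h2)
    (fun β χ γ ψ hβ hγ e1 e2 => ?_)
  · have h4 : ∀ y ∈ S', CharInv y ψ.1 :=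
      fun y hy => charInv_of_commute (fun g hg => (hHS hg y hy).symm) _
    rw [T.restrict_isOver_iff, T.restrict_isOver_iff, and_iff_left hχ, and_iff_left h4]
    exact over_central_iff_of_constituent T.ker_le_center (T.ker_le_star H) (T.star_mono hHG)
      h.ne_zero T.lam
  · have h5 := T.classInner_res_lift_lift hLH hHG hβ.1 hγ.1
    rw [← e1, ← e2] at h5
    exact exists_congr (fun m => and_congr_left' (Eq.congr_left h5))

omit [Finite Γ] in
theorem relBij_ofSubgroupOf {G M : Subgroup Γ} (hGM : G ≤ M)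
    {P' : IrrCharacter (G.subgroupOf M) → Prop} {P : IrrCharacter G → Prop}
    (h : ∀ χ, P' χ ↔ P (χ.ofSubgroupOf hGM)) :
    RelBij (fun χ' χ => χ = χ'.ofSubgroupOf hGM) P' P := by
  refine ⟨fun χ hχ => ⟨_, ⟨(h χ).1 hχ, rfl⟩, fun _ h => h.2⟩, fun χ hχ =>
    ⟨χ.subgroupOf hGM, ⟨(h _).2 (by rwa [IrrCharacter.ofSubgroupOf_subgroupOf]),
      (χ.ofSubgroupOf_subgroupOf hGM).symm⟩, fun χ' h' => ?_⟩⟩
  rw [h'.2, IrrCharacter.subgroupOf_ofSubgroupOf]

omit [Finite Γ] in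
theorem subgroupOf_le_normalizer_subgroupOf {A B : Subgroup Γ} (M : Subgroup Γ)
    (h : A ≤ Subgroup.normalizer (B : Set Γ)) :
    A.subgroupOf M ≤ Subgroup.normalizer ((B.subgroupOf M : Subgroup M) : Set M) :=
  (Subgroup.comap_mono h).trans (Subgroup.le_normalizer_comap _)

theorem relBij_oddMult_of_le_charStab {G K L S C H : Subgroup Γ} [Fintype L]
    [Fintype H] {φ : IrrCharacter L} (hGφ : G ≤ charStab φ.1) (hSφ : S ≤ charStab φ.1)
    (hLK : L ≤ K) (hab : ⁅K, K⁆ ≤ L) (hGK : G ≤ Subgroup.normalizer (K : Set Γ))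
    (hSG : S ≤ Subgroup.normalizer (G : Set Γ)) (hSK : S ≤ Subgroup.normalizer (K : Set Γ))
    (hcop : (Nat.card G).Coprime (Nat.card S)) (hodd : Odd (Nat.card G))
    (hLs : Group.IsSolvable L) (hCS : C ≤ Subgroup.centralizer (S : Set Γ))
    (hfix : K ⊓ Subgroup.centralizer (S : Set Γ) ≤ L) (hKC : K ⊔ C = G) (hH : H = L ⊔ C)
    (hLH : L ≤ H) (hHG : H ≤ G) :
    RelBij (OddMult (Subgroup.inclusion hHG))
      (fun χ => classInner (fun l : L => χ.1 ⟨l, hHG (hLH l.2)⟩) φ.1 ≠ 0 ∧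
        ∀ s ∈ S, CharInv s χ.1)
      (fun ψ => classInner (fun l : L => ψ.1 ⟨l, hLH l.2⟩) φ.1 ≠ 0 ∧ ∀ s ∈ S, CharInv s ψ.1) := by
  set M := G ⊔ S with hM
  have hGM : G ≤ M := le_sup_left
  have hSM : S ≤ M := le_sup_right
  have hHM := hHG.trans hGM
  have hLM := hLH.trans hHM
  have hKM : K ≤ M := (hKC ▸ le_sup_left : K ≤ G).trans hGM
  have hCM : C ≤ M := (hKC ▸ le_sup_right : C ≤ G).trans hGM
  have hMφ : M ≤ charStab φ.1 := sup_le hGφ hSφ
  haveI : (L.subgroupOf M).Normal := (Subgroup.normal_subgroupOf_iff_le_normalizer hLM).2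
    (fun x hx => (hMφ hx).1)
  have := Fintype.ofFinite (L.subgroupOf M)
  have := Fintype.ofFinite (H.subgroupOf M)
  have h1 := relBij_oddMult_of_invariant (G := G.subgroupOf M) (K := K.subgroupOf M)
    (S := S.subgroupOf M) (C := C.subgroupOf M) (H := H.subgroupOf M) (φ := φ.subgroupOf hLM)
    (by
      rw [eq_top_iff]
      intro x _
      exact mem_charInertia_iff_charInv.2 ((charInv_subgroupOf_iff hLM).2 (hMφ x.2).2))
    (fun _ h => hLK h)
    (by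
      refine Subgroup.map_le_iff_le_comap.1 ?_
      rw [Subgroup.map_commutator]
      exact (Subgroup.commutator_mono (Subgroup.map_comap_le _ _)
        (Subgroup.map_comap_le _ _)).trans hab)
    (subgroupOf_le_normalizer_subgroupOf M hGK) (subgroupOf_le_normalizer_subgroupOf M hSG)
    (subgroupOf_le_normalizer_subgroupOf M hSK)
    (by rwa [card_subgroupOf_of_le hGM, card_subgroupOf_of_le hSM])
    (by rwa [card_subgroupOf_of_le hGM]) (isSolvable_subgroupOf M hLs)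
    (by rw [centralizer_subgroupOf hSM]; exact fun _ h => hCS h)
    (by rw [centralizer_subgroupOf hSM]; exact fun _ h => hfix h)
    (by rw [← Subgroup.subgroupOf_sup hKM hCM, hKC])
    (by rw [← Subgroup.subgroupOf_sup hLM hCM, hH]) (fun _ h => hLH h) (fun _ h => hHG h)
  have h2 : ∀ {U : Subgroup Γ} (hUM : U ≤ M) (χ : IrrCharacter (U.subgroupOf M)),
      (∀ s ∈ S.subgroupOf M, CharInv s χ.1) ↔ ∀ s ∈ S, CharInv s (χ.ofSubgroupOf hUM).1 :=
    fun hUM χ => ⟨fun h s hs => (charInv_subgroupOf_iff hUM (s := ⟨s, hSM hs⟩)).1 (h _ hs),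
      fun h s hs => (charInv_subgroupOf_iff hUM).2 (h s hs)⟩
  refine h1.transfer (relBij_ofSubgroupOf hGM (fun χ => ?_)) (relBij_ofSubgroupOf hHM (fun χ => ?_))
    ?_
  · rw [h2 hGM, classInner_subgroupOf hLM]
    rfl
  · rw [h2 hHM, classInner_subgroupOf hLM]
    rfl
  · rintro χ _ ψ _ - - rfl rfl
    have h3 := classInner_subgroupOf hHM (fun h => χ.1 ⟨h, hHG h.2⟩) ψ.1
    exact exists_congr (fun m => and_congr_left' (Eq.congr_left h3.symm))

theorem relBij_clifford {G N T S : Subgroup Γ} [Fintype G] [Fintype N] (hNT : N ≤ T)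
    (hTG : T ≤ G) (hGN : G ≤ Subgroup.normalizer (N : Set Γ)) {θ : IrrCharacter N}
    (hT : G ⊓ charStab θ.1 ≤ T) (hSG : S ≤ Subgroup.normalizer (G : Set Γ))
    (hST : S ≤ Subgroup.normalizer (T : Set Γ)) (hS : S ≤ charStab θ.1) :
    RelBij (fun (ψ : IrrCharacter T) (χ : IrrCharacter G) =>
        χ.1 = indFun (T.subgroupOf G) (fun t => ψ.1 ⟨t, t.2⟩))
      (fun ψ => classInner (fun n : N => ψ.1 ⟨n, hNT n.2⟩) θ.1 ≠ 0 ∧ ∀ s ∈ S, CharInv s ψ.1)
      (fun χ => classInner (fun n : N => χ.1 ⟨n, hTG (hNT n.2)⟩) θ.1 ≠ 0 ∧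
        ∀ s ∈ S, CharInv s χ.1) := by
  have hNG := hNT.trans hTG
  haveI := (Subgroup.normal_subgroupOf_iff_le_normalizer hNG).2 hGN
  have := Fintype.ofFinite (N.subgroupOf G)
  have h1 : charInertia (θ.subgroupOf hNG).1 ≤ T.subgroupOf G := by
    intro x hx
    have h2 : x ∈ (charStab θ.1).subgroupOf G := charInertia_subgroupOf_eq_charStab hNG θ.1 ▸ hx
    exact hT ⟨x.2, h2⟩
  have h2 : N.subgroupOf G ≤ T.subgroupOf G := fun _ h => hNT h
  have h3 : ∀ ψ : IrrCharacter T, classInner (fun n : N.subgroupOf G =>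
      (ψ.subgroupOf hTG).1 ⟨n, h2 n.2⟩) (θ.subgroupOf hNG).1 =
      classInner (fun n : N => ψ.1 ⟨n, hNT n.2⟩) θ.1 := fun ψ => classInner_subgroupOf hNG _ _
  have hinj : ∀ ψ ψ' : IrrCharacter T, classInner (fun n : N => ψ.1 ⟨n, hNT n.2⟩) θ.1 ≠ 0 →
      classInner (fun n : N => ψ'.1 ⟨n, hNT n.2⟩) θ.1 ≠ 0 →
      indFun (T.subgroupOf G) (fun t => ψ.1 ⟨t, t.2⟩) =
        indFun (T.subgroupOf G) (fun t => ψ'.1 ⟨t, t.2⟩) → ψ = ψ' := fun ψ ψ' h h' he => by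
    have := clifford_corr_inj h2 h1 ((h3 ψ).trans_ne h) ((h3 ψ').trans_ne h') he
    rw [← ψ.ofSubgroupOf_subgroupOf hTG, this, IrrCharacter.ofSubgroupOf_subgroupOf]
  refine relBij_of_map (fun ψ : T → ℂ => indFun (T.subgroupOf G) (fun t => ψ ⟨t, t.2⟩))
    (fun ψ hψ => ?_) (fun χ hχ => ?_) (fun ψ ψ' h h' => hinj ψ ψ' h.1 h'.1)
  · obtain ⟨h4, h5⟩ := clifford_corr_ambient hNT hTG hGN hT ψ hψ.1
    exact ⟨⟨_, h4⟩, ⟨h5.trans_ne hψ.1, fun s hs => charInv_indFun (hSG hs) (hST hs) (hψ.2 s hs)⟩,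
      rfl⟩
  · obtain ⟨ψ, h4, h5⟩ := clifford_corr_surj h2 h1 χ
      ((classInner_res_subgroupOf hNG χ.1 θ.1).trans_ne hχ.1)
    have h6 := (h3 (ψ.ofSubgroupOf hTG)).symm.trans_ne h4
    refine ⟨ψ.ofSubgroupOf hTG, ⟨h6, fun s hs => (charInv_iff_smul (hST hs)).2
      (hinj _ _ ?_ h6 ?_)⟩, h5.symm⟩
    · have h7 := classInner_res_normAut_smul hNT (hST hs) (hS hs).1 (ψ.ofSubgroupOf hTG) θ
      rw [(charInv_iff_smul _).1 (hS hs).2] at h7
      exact h7.trans_ne h6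
    · funext g
      have h7 := indFun_mulEquiv ((normAut G (hSG hs))⁻¹ : MulAut G) (H := T.subgroupOf G)
        (H' := T.subgroupOf G) (fun x => by
          rw [Subgroup.mem_subgroupOf, Subgroup.mem_subgroupOf, coe_normAut_inv]
          exact Subgroup.mem_normalizer_iff''.1 (hST hs) x)
        (θ := fun t => (normAut T (hST hs) • ψ.ofSubgroupOf hTG).1 ⟨t, t.2⟩) (θ' := ψ.1)
        (fun _ => rfl) g
      rw [← h7, h5]
      change _ = indFun (T.subgroupOf G) ψ.1 g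
      rw [h5, ← IrrCharacter.mulAut_smul_apply, (charInv_iff_smul _).1 (hχ.2 s hs)]

theorem classInner_res_clifford {G N T U : Subgroup Γ} [Fintype G] [Fintype N] [Fintype U]
    (hNU : N ≤ U) (hUT : U ≤ T) (hTG : T ≤ G) (hGN : G ≤ Subgroup.normalizer (N : Set Γ))
    {θ : IrrCharacter N} (hT : G ⊓ charStab θ.1 ≤ T) (η : IrrCharacter T)
    (hη : classInner (fun n : N => η.1 ⟨n, hUT (hNU n.2)⟩) θ.1 ≠ 0) (ξ : IrrCharacter U)
    (hξ : classInner (fun n : N => ξ.1 ⟨n, hNU n.2⟩) θ.1 ≠ 0) :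
    classInner (fun u : U => indFun (T.subgroupOf G) (fun t => η.1 ⟨t, t.2⟩)
      ⟨u, hTG (hUT u.2)⟩) ξ.1 = classInner (fun u : U => η.1 ⟨u, hUT u.2⟩) ξ.1 := by
  have h1 := (((η.subgroupOf hTG).isCharacter.res_indFun_sub).comp
    (Subgroup.subgroupOfEquivOfLe hTG).symm.toMonoidHom).comp (Subgroup.inclusion hUT)
  rw [← sub_eq_zero, ← classInner_sub_left]
  by_contra h0
  refine h1.classInner_comp_ne_zero (Subgroup.inclusion hNU) ξ θ.isCharacter h0 hξ ?_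
  have h2 := (clifford_corr_ambient (hNU.trans hUT) hTG hGN hT η hη).2
  rw [← sub_eq_zero, ← classInner_sub_left] at h2
  exact h2

theorem relBij_oddMult_over {G K L S C H : Subgroup Γ} [Fintype L]
    [Fintype H] {φ : IrrCharacter L} (hGL : G ≤ Subgroup.normalizer (L : Set Γ))
    (hSφ : S ≤ charStab φ.1)
    (hLK : L ≤ K) (hab : ⁅K, K⁆ ≤ L) (hGK : G ≤ Subgroup.normalizer (K : Set Γ))
    (hSG : S ≤ Subgroup.normalizer (G : Set Γ)) (hSK : S ≤ Subgroup.normalizer (K : Set Γ))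
    (hcop : (Nat.card G).Coprime (Nat.card S)) (hodd : Odd (Nat.card G))
    (hs : Group.IsSolvable G) (hC : C = G ⊓ Subgroup.centralizer (S : Set Γ))
    (hfix : K ⊓ Subgroup.centralizer (S : Set Γ) ≤ L) (hKC : K ⊔ C = G) (hH : H = L ⊔ C)
    (hLH : L ≤ H) (hHG : H ≤ G) :
    RelBij (OddMult (Subgroup.inclusion hHG))
      (fun χ => classInner (fun l : L => χ.1 ⟨l, hHG (hLH l.2)⟩) φ.1 ≠ 0 ∧
        ∀ s ∈ S, CharInv s χ.1)
      (fun ψ => classInner (fun l : L => ψ.1 ⟨l, hLH l.2⟩) φ.1 ≠ 0 ∧ ∀ s ∈ S, CharInv s ψ.1) := by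
  have := Fintype.ofFinite G
  have hLG := hLH.trans hHG
  have hKG : K ≤ G := hKC ▸ le_sup_left
  have hCG : C ≤ G := hKC ▸ le_sup_right
  have hCS : C ≤ Subgroup.centralizer (S : Set Γ) := hC ▸ inf_le_right
  have hSL : S ≤ Subgroup.normalizer (L : Set Γ) := fun s hs => (hSφ hs).1
  set I := charStab φ.1 with hI
  have hLI : L ≤ I := φ.isClassFunction.le_charStab
  have hSI : ∀ {U : Subgroup Γ}, S ≤ Subgroup.normalizer (U : Set Γ) →
      S ≤ Subgroup.normalizer ((U ⊓ I : Subgroup Γ) : Set Γ) := fun hU =>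
    (le_inf hU (le_normalizer_charStab hSφ)).trans Subgroup.inf_normalizer_le_normalizer_inf
  have hSH : S ≤ Subgroup.normalizer (H : Set Γ) := hH ▸ le_normalizer_sup hSL
    ((Subgroup.le_centralizer_iff.1 hCS).trans (Subgroup.centralizer_le_normalizer _))
  have := Fintype.ofFinite ↥(H ⊓ I)
  have hTd := Subgroup.card_dvd_of_le (inf_le_left : G ⊓ I ≤ G)
  have h1 := relBij_oddMult_of_le_charStab (G := G ⊓ I) (K := K ⊓ I) (C := C ⊓ I) (H := H ⊓ I)
    inf_le_right hSφ (le_inf hLK hLI)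
    ((Subgroup.commutator_mono inf_le_left inf_le_left).trans hab)
    ((inf_le_inf hGK I.le_normalizer).trans Subgroup.inf_normalizer_le_normalizer_inf)
    (hSI hSG) (hSI hSK) (hcop.coprime_dvd_left hTd) (hodd.of_dvd_nat hTd)
    (isSolvable_of_le hLG hs) (inf_le_left.trans hCS)
    ((inf_le_inf_right _ inf_le_left).trans hfix)
    (by
      refine le_antisymm (sup_le (inf_le_inf_right _ hKG) (inf_le_inf_right _ hCG)) ?_
      refine (commutator_sup_centralizer_of_coprime (hSI hSG) (hcop.coprime_dvd_left hTd)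
        (Or.inl (isSolvable_of_le inf_le_left hs))).ge.trans (sup_le_sup (le_inf ?_ ?_) ?_)
      · rw [Subgroup.commutator_le]
        intro g hg s hs
        have := K.inv_mem (conj_mul_inv_mem_of_sup (hCG.trans hGK) (hSK hs)
          (fun c hc => hCS hc s hs) hKC hg.1)
        simpa [commutatorElement_def, mul_assoc] using this
      · exact (Subgroup.le_normalizer_iff_commutator_le_left.1 (hSI hSG)).trans inf_le_right
      · exact fun x hx => ⟨hC ▸ ⟨hx.1.1, hx.2⟩, hx.1.2⟩)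
    (by rw [hH, sup_inf_of_le_normalizer (hCG.trans hGL) hLI]) (le_inf hLH hLI)
    (inf_le_inf_right _ hHG)
  refine h1.transfer (relBij_clifford (le_inf hLG hLI) inf_le_left hGL le_rfl hSG (hSI hSG) hSφ)
    (relBij_clifford (le_inf hLH hLI) inf_le_left (hHG.trans hGL) le_rfl hSH (hSI hSH) hSφ)
    (fun η χ ξ ψ hη hξ e1 e2 => ?_)
  refine exists_congr (fun m => and_congr_left' (Eq.congr_left ?_))
  rw [e2, classInner_indFun_subgroupOf_right inf_le_left _ (χ.isClassFunction.comp _), e1]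
  exact classInner_res_clifford (le_inf hLH hLI) (inf_le_inf_right _ hHG) inf_le_left hGL le_rfl
    η hη.1 ξ hξ.1

theorem relBij_oddMult_aux {G K L S C H : Subgroup Γ} [Fintype H]
    (hGL : G ≤ Subgroup.normalizer (L : Set Γ)) (hSL : S ≤ Subgroup.normalizer (L : Set Γ))
    (hLK : L ≤ K) (hab : ⁅K, K⁆ ≤ L) (hGK : G ≤ Subgroup.normalizer (K : Set Γ))
    (hSG : S ≤ Subgroup.normalizer (G : Set Γ)) (hSK : S ≤ Subgroup.normalizer (K : Set Γ))
    (hcop : (Nat.card G).Coprime (Nat.card S)) (hodd : Odd (Nat.card G))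
    (hs : Group.IsSolvable G) (hC : C = G ⊓ Subgroup.centralizer (S : Set Γ))
    (hfix : K ⊓ Subgroup.centralizer (S : Set Γ) ≤ L) (hKC : K ⊔ C = G) (hH : H = L ⊔ C)
    (hHG : H ≤ G) :
    RelBij (OddMult (Subgroup.inclusion hHG)) (fun χ => ∀ s ∈ S, CharInv s χ.1)
      (fun ψ => ∀ s ∈ S, CharInv s ψ.1) := by
  have := Fintype.ofFinite L
  have hLH : L ≤ H := hH ▸ le_sup_left
  have hLG := hLH.trans hHG
  have hCS : C ≤ Subgroup.centralizer (S : Set Γ) := hC ▸ inf_le_right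
  have hSH : S ≤ Subgroup.normalizer (H : Set Γ) := hH ▸ le_normalizer_sup hSL
    ((Subgroup.le_centralizer_iff.1 hCS).trans (Subgroup.centralizer_le_normalizer _))
  haveI := (Subgroup.normal_subgroupOf_iff_le_normalizer hLG).2 hGL
  haveI := (Subgroup.normal_subgroupOf_iff_le_normalizer hLH).2 (hHG.trans hGL)
  haveI := isSolvable_of_le hHG hs
  have hunder : ∀ ψ : IrrCharacter H, (∀ s ∈ S, CharInv s ψ.1) → ∃ φ : IrrCharacter L,
      classInner (fun l : L => ψ.1 ⟨l, hLH l.2⟩) φ.1 ≠ 0 ∧ ∀ s ∈ S, CharInv s φ.1 :=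
    exists_invariant_under hLH hSH hSL (hcop.coprime_dvd_left
      ((Subgroup.relIndex_dvd_card L H).trans (Subgroup.card_dvd_of_le hHG)))
      (Or.inl inferInstance)
  have htr : ∀ (χ : IrrCharacter G) (ψ : IrrCharacter H) (φ : IrrCharacter L),
      OddMult (Subgroup.inclusion hHG) χ ψ →
      classInner (fun l : L => ψ.1 ⟨l, hLH l.2⟩) φ.1 ≠ 0 →
      classInner (fun l : L => χ.1 ⟨l, hLG l.2⟩) φ.1 ≠ 0 := fun χ ψ φ h h' =>
    (χ.isCharacter.comp _).classInner_comp_ne_zero (Subgroup.inclusion hLH) ψ φ.isCharacter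
      h.ne_zero h'
  have key := fun (φ : IrrCharacter L) (hφ : ∀ s ∈ S, CharInv s φ.1) =>
    relBij_oddMult_over hGL ((forall_charInv_iff_le_charStab hSL).1 hφ) hLK hab hGK hSG hSK hcop
      hodd hs hC hfix hKC hH hLH hHG
  constructor
  · intro χ hχ
    obtain ⟨φ, h1, hφ⟩ := exists_invariant_under hLG hSG hSL (hcop.coprime_dvd_left
      (Subgroup.relIndex_dvd_card L G)) (Or.inl inferInstance) χ hχ
    obtain ⟨ψ, ⟨⟨-, h2⟩, h3⟩, hu⟩ := (key φ hφ).1 χ ⟨h1, hχ⟩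
    refine ⟨ψ, ⟨h2, h3⟩, fun ψ' h' => hu ψ' ⟨⟨?_, h'.1⟩, h'.2⟩⟩
    obtain ⟨φ', h4, hφ'⟩ := hunder ψ' h'.1
    obtain ⟨g, hg, h5⟩ := clifford_exists_normAut_smul hLG hGL χ (htr χ ψ' φ' h'.2 h4) h1
    obtain ⟨c, hc, h6⟩ := exists_centralizer_mul_of_conj_mem hSG hcop (Or.inl hs)
      ((forall_charInv_iff_le_charStab hSL).1 hφ') hg (fun a ha => by
        have h7 : g⁻¹ * a * g ∈ Subgroup.normalizer (L : Set Γ) :=
          mul_mem (mul_mem (inv_mem (hGL hg)) (hSL ha)) (hGL hg)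
        refine ⟨h7, (charInv_iff_smul h7).2 ?_⟩
        have h8 : normAut L h7 = (normAut L (hGL hg))⁻¹ * normAut L (hSL ha) *
            normAut L (hGL hg) := by
          ext x
          rw [MulAut.mul_apply, MulAut.mul_apply, coe_normAut_inv, coe_normAut, coe_normAut,
            coe_normAut]
          group
        rw [h8, mul_smul, mul_smul, h5, (charInv_iff_smul _).1 (hφ a ha), ← h5, inv_smul_smul])
    have hcH : c ∈ H := hH ▸ (le_sup_right : C ≤ L ⊔ C) (hC ▸ hc)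
    have h7 := classInner_res_normAut_smul hLH (H.le_normalizer hcH) (hGL hc.1) ψ' φ'
    have h8 : normAut L (hGL hc.1) • φ' = φ := by
      rw [← h5, ← (charInv_iff_smul h6.1).1 h6.2, ← mul_smul, ← normAut_mul,
        (charInv_iff_smul h6.1).1 h6.2]
      simp
    rw [h8, (charInv_iff_smul _).1 (ψ'.isClassFunction.charInv_of_mem hcH)] at h7
    exact h7.trans_ne h4
  · intro ψ hψ
    obtain ⟨φ, h1, hφ⟩ := hunder ψ hψ
    obtain ⟨χ, ⟨⟨-, h2⟩, h3⟩, hu⟩ := (key φ hφ).2 ψ ⟨h1, hψ⟩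
    exact ⟨χ, ⟨h2, h3⟩, fun χ' h' => hu χ' ⟨⟨htr χ' ψ φ h'.2 h1, h'.1⟩, h'.2⟩⟩

/-- **Isaacs' odd multiplicity correspondence** -/
theorem relBij_oddMult {G K L S C H : Subgroup Γ} [Fintype H]
    (hGL : G ≤ Subgroup.normalizer (L : Set Γ)) (hSL : S ≤ Subgroup.normalizer (L : Set Γ))
    (hLK : L ≤ K) (hab : ⁅K, K⁆ ≤ L) (hGK : G ≤ Subgroup.normalizer (K : Set Γ))
    (hSG : S ≤ Subgroup.normalizer (G : Set Γ)) (hSK : S ≤ Subgroup.normalizer (K : Set Γ))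
    (hcop : (Nat.card G).Coprime (Nat.card S)) (hodd : Odd (Nat.card G))
    (hs : Group.IsSolvable G) (hC : C = G ⊓ Subgroup.centralizer (S : Set Γ))
    (hKC : K ⊔ C = G) (hH : H = L ⊔ C) (hHG : H ≤ G) :
    RelBij (OddMult (Subgroup.inclusion hHG)) (fun χ => ∀ s ∈ S, CharInv s χ.1)
      (fun ψ => ∀ s ∈ S, CharInv s ψ.1) := by
  have hKG : K ≤ G := hKC ▸ le_sup_left
  have hCG : C ≤ G := hKC ▸ le_sup_right
  have hCS : C ≤ Subgroup.centralizer (S : Set Γ) := hC ▸ inf_le_right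
  have hCH : C ≤ H := hH ▸ le_sup_right
  have hLH : L ≤ H := hH ▸ le_sup_left
  have hSH : S ≤ Subgroup.normalizer (H : Set Γ) := hH ▸ le_normalizer_sup hSL
    ((Subgroup.le_centralizer_iff.1 hCS).trans (Subgroup.centralizer_le_normalizer _))
  have hab' : ⁅K, K⁆ ≤ K ⊓ H := hab.trans (le_inf hLK hLH)
  refine relBij_oddMult_aux (L := K ⊓ H) ?_
    ((le_inf hSK hSH).trans Subgroup.inf_normalizer_le_normalizer_inf) inf_le_left hab' hGK hSG
    hSK hcop hodd hs hC (fun x hx => ⟨hx.1, hCH (hC ▸ ⟨hKG hx.1, hx.2⟩)⟩) hKC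
    (le_antisymm (hH.le.trans (sup_le_sup_right (le_inf hLK hLH) C)) (sup_le inf_le_right hCH)) hHG
  rw [← hKC]
  refine sup_le ?_ ((le_inf (hCG.trans hGK) (hCH.trans H.le_normalizer)).trans
    Subgroup.inf_normalizer_le_normalizer_inf)
  rw [Subgroup.le_normalizer_iff_commutator_le_left]
  exact (Subgroup.commutator_mono inf_le_left le_rfl).trans hab'

end

end Cfsg
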