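import Cfsg.Agent.CT.ItoPSolv
import Cfsg.Agent.CT.Degrees

/-!
# Non-vanishing elements
-/

set_option autoImplicit false
set_option linter.unusedSectionVars false

open scoped commutatorElement

namespace Cfsg

universe u

variable {G : Type u} [Group G] [Finite G]

/-- in a nilpotent group non-vanishing elements are central -/
theorem mem_center_of_nonvanishing_of_isNilpotent (hG : Group.IsNilpotent G) {g : G}
    (h : ∀ χ : IrrCharacter G, χ.1 g ≠ 0) : g ∈ Subgroup.center G := by
  classical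
  by_contra hg
  rw [← iInf_charCenter_irr, Subgroup.mem_iInf] at hg
  push Not at hg
  obtain ⟨χ, hχ, hmax⟩ := Finset.exists_max_image
    (Finset.univ.filter fun χ : IrrCharacter G => g ∉ charCenter χ.1)
    (fun χ => Nat.card (charKer χ.1)) (by
      obtain ⟨χ, hχ⟩ := hg
      exact ⟨χ, by simpa using hχ⟩)
  rw [Finset.mem_filter] at hχ
  have h1 := hχ.2
  rw [χ.mem_charCenter_iff_commutator] at h1
  push Not at h1
  obtain ⟨x, hx⟩ := h1
  by_cases h2 : ⁅g, x⁆ ∈ charCenter χ.1
  · exact h χ (χ.isCharacter.eq_zero_of_commutator_mem_charCenter h2 hx)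
  obtain ⟨ψ, h3, h4⟩ := exists_irr_le_charKer_notMem _ h2
  have h5 := hmax ψ (Finset.mem_filter.2 ⟨Finset.mem_univ _,
    fun h5 => h4 (ψ.mem_charCenter_iff_commutator.1 h5 x)⟩)
  have h6 : charKer χ.1 = charCenter χ.1 :=
    Subgroup.eq_of_le_of_card_ge (charKer_le_charCenter _)
      ((Subgroup.card_le_of_le h3).trans h5)
  haveI : Nontrivial (G ⧸ charKer χ.1) :=
    ⟨⟨(⁅g, x⁆ : G), 1, fun h7 => hx ((QuotientGroup.eq_one_iff _).1 h7)⟩⟩
  obtain ⟨z, hz, hz1⟩ := (Subgroup.bot_or_exists_ne_one _).resolve_left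
    (Group.IsNilpotent.center_ne_bot (G := G ⧸ charKer χ.1))
  obtain ⟨y, rfl⟩ := QuotientGroup.mk_surjective z
  refine hz1 ((QuotientGroup.eq_one_iff _).2 ?_)
  rw [h6, χ.charCenter_eq_comap]
  exact hz

/-- a non-vanishing element fixes a conjugate of every irreducible character of a normal
subgroup -/
theorem exists_conj_mem_charInertia_of_nonvanishing {N : Subgroup G} [N.Normal] {g : G}
    (h : ∀ χ : IrrCharacter G, χ.1 g ≠ 0) (θ : IrrCharacter N) :
    ∃ x : G, x * g * x⁻¹ ∈ charInertia θ.1 := by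
  classical
  have := Fintype.ofFinite G
  obtain ⟨χ, hχ⟩ := θ.exists_over
  obtain ⟨ψ, -, h1⟩ := clifford_corr_surj θ.le_charInertia le_rfl χ hχ
  by_contra h2
  push Not at h2
  exact h χ (h1 ▸ indFun_eq_zero_of_forall_not_mem _ _ h2)

/-- an element fixing all irreducible characters of a normal subgroup of coprime order
centralizes it -/
theorem mem_centralizer_of_forall_mem_charInertia_of_coprime {N : Subgroup G} [hN : N.Normal]
    {y : G} (hc : (Nat.card N).Coprime (orderOf y))
    (h : ∀ θ : IrrCharacter N, y ∈ charInertia θ.1) :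
    y ∈ Subgroup.centralizer (N : Set G) := by
  have h1 : (Subgroup.centralizer ((Subgroup.zpowers y : Subgroup G) : Set G)).subgroupOf N = ⊤ := by
    refine eq_top_of_forall_exists_conj_mem fun k => ?_
    obtain ⟨n, hn, h1⟩ := exists_conj_mem_centralizer_of_coprime (N := N)
      (A := Subgroup.zpowers y) Subgroup.le_normalizer_of_normal
      (by rwa [Nat.card_zpowers]) (Or.inr (isSolvable_zpowers y)) (x := k) fun a ha => by
        have h2 : IsConj k ⟨a * k * a⁻¹, hN.conj_mem k k.2 a⟩ :=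
          isConj_iff_forall_irr.2 fun θ =>
            (mem_charInertia.1 ((Subgroup.zpowers_le.2 (h θ)) ha) k).symm
        obtain ⟨n, hn⟩ := isConj_iff.1 h2
        exact ⟨n, n.2, congrArg Subtype.val hn⟩
    exact ⟨⟨n, hn⟩, h1⟩
  intro k hk
  have h2 : (⟨k, hk⟩ : N) ∈
      (Subgroup.centralizer ((Subgroup.zpowers y : Subgroup G) : Set G)).subgroupOf N :=
    h1 ▸ Subgroup.mem_top _
  exact (h2 y (Subgroup.mem_zpowers y)).symm

end Cfsg
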