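import Cfsg.Agent.CT.Forms
import Cfsg.Agent.CT.Extension
import Cfsg.Agent.CT.ClassSum
import Cfsg.Agent.Grp.Basic

/-! Galois action and normal subgroups: fixed constituents going down (`p'`-index), and the
unique fixed (e.g. real) character over a fixed character of a normal subgroup of odd index. -/

set_option autoImplicit false
set_option linter.style.haveILetI false

namespace Cfsg

open scoped ComplexConjugate

universe u v

variable {G : Type u} [Group G] {N : Subgroup G} [hN : N.Normal]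

theorem coe_pow_conj (g : G) (n : N) (k : ℕ) :
    (⟨g⁻¹ * (n ^ k : N) * g, hN.conj_mem' _ (n ^ k).2 g⟩ : N) =
      (⟨g⁻¹ * n * g, hN.conj_mem' _ n.2 g⟩ : N) ^ k := by
  apply Subtype.ext
  have := conj_pow (i := k) (a := g⁻¹) (b := (n : G))
  simpa using this.symm

/-- conjugation commutes with `n ↦ n ^ k` -/
theorem IrrCharacter.smul_apply_pow (g : G) (θ : IrrCharacter N) (n : N) (k : ℕ) :
    (g • θ).1 (n ^ k) = θ.1 ((⟨g⁻¹ * n * g, hN.conj_mem' _ n.2 g⟩ : N) ^ k) := by
  rw [IrrCharacter.smul_apply, coe_pow_conj]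

theorem IrrCharacter.smul_pow_fixed {θ : IrrCharacter N} {k : ℕ}
    (h : ∀ n, θ.1 (n ^ k) = θ.1 n) (g : G) (n : N) : (g • θ).1 (n ^ k) = (g • θ).1 n := by
  rw [IrrCharacter.smul_apply_pow, h, IrrCharacter.smul_apply]

theorem IrrCharacter.powConj_smul [Finite G] (g : G) (θ : IrrCharacter N) (k : ℕ)
    (hk : k.Coprime (Nat.card N)) : (g • θ).powConj k hk = g • θ.powConj k hk := by
  apply Subtype.ext
  funext n
  rw [IrrCharacter.powConj_apply, IrrCharacter.smul_apply_pow, IrrCharacter.smul_apply,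
    IrrCharacter.powConj_apply]

theorem IrrCharacter.galois_smul [Finite G] (σ : ℂ →+* ℂ) (g : G) (θ : IrrCharacter N) :
    (g • θ).galois σ = g • θ.galois σ := rfl

theorem IrrCharacter.cconj_smul [Finite G] (g : G) (θ : IrrCharacter N) :
    (g • θ).cconj = g • θ.cconj := rfl

theorem IrrCharacter.charInertia_galois [Finite G] (σ : ℂ →+* ℂ) (θ : IrrCharacter N) :
    charInertia (θ.galois σ).1 = charInertia θ.1 := by
  ext g
  rw [IrrCharacter.mem_charInertia_iff, IrrCharacter.mem_charInertia_iff,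
    ← IrrCharacter.galois_smul, (IrrCharacter.galois_injective σ).eq_iff]

omit hN in
theorem classInner_res_powConj [Finite G] [Fintype N] (χ : IrrCharacter G) (θ : IrrCharacter N)
    {k : ℕ} (hk : k.Coprime (Nat.card G)) :
    classInner (fun n : N => χ.1 ((n : G) ^ k)) (fun n => θ.1 (n ^ k)) =
      classInner (fun n : N => χ.1 n) θ.1 :=
  classInner_comp_pow (G := N) (hk.coprime_dvd_right N.card_subgroup_dvd_card)
    (fun n : N => χ.1 n) θ.1

/-- going down: a field automorphism of `p`-power order fixing `χ` fixes its constituents on a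
normal subgroup whose inertia index is prime to `p`. -/
theorem pow_fixed_of_under [Finite G] [Fintype N] {p : ℕ} [Fact p.Prime] {k e : ℕ}
    (hk : k.Coprime (Nat.card G)) (hke : ∀ n : N, n ^ k ^ p ^ e = n) (χ : IrrCharacter G)
    (hχ : ∀ n ∈ N, χ.1 (n ^ k) = χ.1 n) (θ : IrrCharacter N)
    (hθ : classInner (fun n : N => χ.1 n) θ.1 ≠ 0) (hidx : ¬ p ∣ (charInertia θ.1).index)
    (n : N) : θ.1 (n ^ k) = θ.1 n := by
  classical
  haveI := Fintype.ofFinite G
  have hkN : k.Coprime (Nat.card N) := hk.coprime_dvd_right N.card_subgroup_dvd_card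
  have hmap : ∀ φ ∈ MulAction.orbit G θ, φ.powConj k hkN ∈ MulAction.orbit G θ := by
    intro φ hφ
    rw [← clifford_over_iff χ hθ] at hφ ⊢
    rw [← classInner_res_powConj χ φ hk] at hφ
    rwa [funext fun n : N => hχ n n.2] at hφ
  let f : Function.End (MulAction.orbit G θ) := fun φ => ⟨φ.1.powConj k hkN, hmap φ.1 φ.2⟩
  have hf : ∀ (j : ℕ) (φ : MulAction.orbit G θ) (n : N),
      ((f ^ j) φ).1.1 n = φ.1.1 (n ^ k ^ j) := by
    intro j
    induction j with
    | zero => intro φ n; rw [pow_zero, pow_zero, pow_one]; rfl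
    | succ j ih =>
      intro φ n
      rw [pow_succ]
      refine (ih (f φ) n).trans ?_
      show φ.1.1 ((n ^ k ^ j) ^ k) = _
      rw [← pow_mul, ← pow_succ]
  have hf1 : f ^ p ^ e = 1 := by
    funext φ
    apply Subtype.ext
    apply Subtype.ext
    funext n
    rw [hf, hke]
    rfl
  haveI := Fintype.ofFinite (MulAction.orbit G θ)
  have hmod := Equiv.Perm.card_fixedPoints_modEq hf1
  have hne : Nonempty (Function.fixedPoints f) := by
    rw [← Fintype.card_pos_iff, Nat.pos_iff_ne_zero]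
    intro h0
    rw [h0, Nat.modEq_zero_iff_dvd, ← Nat.card_eq_fintype_card, θ.card_orbit] at hmod
    exact hidx hmod
  obtain ⟨⟨⟨φ, g, rfl⟩, hφ⟩⟩ := hne
  have h1 : ∀ n : N, (g • θ).1 (n ^ k) = (g • θ).1 n := fun n =>
    congrFun (congrArg (fun x : MulAction.orbit G θ => x.1.1) hφ) n
  have := IrrCharacter.smul_pow_fixed h1 g⁻¹ n
  rwa [inv_smul_smul] at this

theorem pow_card_sub_one_eq_inv [Finite G] (g : G) : g ^ (Nat.card G - 1) = g⁻¹ := by
  rw [eq_inv_iff_mul_eq_one, ← pow_succ, Nat.sub_add_cancel Nat.card_pos, pow_card_eq_one']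

theorem coprime_card_sub_one (G : Type u) [Finite G] [Nonempty G] :
    (Nat.card G - 1).Coprime (Nat.card G) := by
  have h : Nat.card G = (Nat.card G - 1) + 1 := (Nat.sub_add_cancel Nat.card_pos).symm
  generalize Nat.card G - 1 = m at h
  rw [h]
  exact Nat.coprime_self_add_right.2 (Nat.coprime_one_right m)

theorem IsCharacter.im_eq_zero_iff_inv [Finite G] {χ : G → ℂ} (h : IsCharacter G χ) (g : G) :
    (χ g).im = 0 ↔ χ g⁻¹ = χ g := by
  rw [h.apply_inv, Complex.conj_eq_iff_im]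

/-- the constituents of a real character on a normal subgroup of odd (inertia) index are real -/
theorem real_of_under [Finite G] [Fintype N] (χ : IrrCharacter G)
    (hχ : ∀ n ∈ N, (χ.1 n).im = 0) (θ : IrrCharacter N)
    (hθ : classInner (fun n : N => χ.1 n) θ.1 ≠ 0) (hidx : Odd (charInertia θ.1).index)
    (n : N) : (θ.1 n).im = 0 := by
  have h1 : ∀ n : N, n ^ (Nat.card G - 1) = n⁻¹ := fun n =>
    Subtype.ext (by simpa using pow_card_sub_one_eq_inv (n : G))
  rw [θ.isCharacter.im_eq_zero_iff_inv, ← h1]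
  refine pow_fixed_of_under (p := 2) (e := 1) (coprime_card_sub_one G) (fun n => ?_) χ
    (fun n hn => ?_) θ hθ ?_ n
  · rw [pow_one, sq, pow_mul, h1, h1, inv_inv]
  · rw [pow_card_sub_one_eq_inv, ← χ.isCharacter.im_eq_zero_iff_inv]; exact hχ n hn
  · rw [← even_iff_two_dvd, Nat.not_even_iff_odd]; exact hidx

theorem odd_index_charInertia [Finite G] (hodd : Odd N.index) (θ : IrrCharacter N) :
    Odd (charInertia θ.1).index :=
  hodd.of_dvd_nat (Subgroup.index_dvd_of_le θ.le_charInertia)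

/-- convolution with the conjugate of `θ^G` projects onto the characters over `θ` -/
theorem sum_conj_indFun_mul [Fintype G] [Fintype N] (θ : IrrCharacter N) (χ : IrrCharacter G)
    (a : G) : ((charInertia θ.1).index * θ.1 1) * ∑ g : G, conj (indFun N θ.1 g) * χ.1 (g * a) =
      if classInner (fun n : N => χ.1 n) θ.1 ≠ 0 then (Nat.card G : ℂ) * χ.1 a else 0 := by
  have h := χ.one_mul_sum_classFun_mul (indFun_isClassFunction N θ.1).conj a
  have hG : (Nat.card G : ℂ) ≠ 0 := Nat.cast_ne_zero.2 Nat.card_pos.ne'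
  have h2 : ∑ g : G, conj (indFun N θ.1 g) * χ.1 g =
      Nat.card G * classInner (fun n : N => χ.1 n) θ.1 := by
    rw [← classInner_indFun_right N θ.1 χ.isClassFunction, classInner_def,
      mul_inv_cancel_left₀ hG]
    exact Finset.sum_congr rfl fun g _ => mul_comm _ _
  rw [h2] at h
  split_ifs with h0
  · obtain ⟨e, he0, he, -, hd, -⟩ := clifford χ h0
    have he' : (e : ℂ) ≠ 0 := Nat.cast_ne_zero.2 he0.ne'
    apply mul_left_cancel₀ he'
    rw [χ.one_eq_charDegree, hd, he] at h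
    rw [θ.one_eq_charDegree]
    push_cast at h
    linear_combination h
  · push Not at h0
    rw [h0, mul_zero, zero_mul] at h
    rw [(mul_eq_zero.1 h).resolve_left χ.one_ne_zero, mul_zero]

/-- orthogonality for the characters over `θ` -/
theorem sum_over_mul_conj_eq_zero [Finite G] [Fintype N] (θ : IrrCharacter N) {a b : G}
    (hab : ¬ IsConj (a : G ⧸ N) (b : G ⧸ N)) :
    ∑ χ ∈ Finset.univ.filter
      (fun χ : IrrCharacter G => classInner (fun n : N => χ.1 n) θ.1 ≠ 0),
        χ.1 a * conj (χ.1 b) = 0 := by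
  classical
  haveI := Fintype.ofFinite G
  have hG : (Nat.card G : ℂ) ≠ 0 := Nat.cast_ne_zero.2 Nat.card_pos.ne'
  apply mul_left_cancel₀ hG
  rw [mul_zero, Finset.sum_filter, Finset.mul_sum]
  have h1 : ∀ χ : IrrCharacter G, (Nat.card G : ℂ) *
      (if classInner (fun n : N => χ.1 n) θ.1 ≠ 0 then χ.1 a * conj (χ.1 b) else 0) =
      ∑ g : G, ((charInertia θ.1).index * θ.1 1) * conj (indFun N θ.1 g) *
        (χ.1 (g * a) * conj (χ.1 b)) := by
    intro χ
    have := sum_conj_indFun_mul θ χ a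
    rw [Finset.mul_sum] at this
    simp_rw [← mul_assoc] at this ⊢
    rw [← Finset.sum_mul, this]
    split_ifs <;> ring
  simp_rw [h1]
  rw [Finset.sum_comm]
  refine Finset.sum_eq_zero fun g _ => ?_
  rw [← Finset.mul_sum, sum_irr_mul_conj]
  by_cases hg : g ∈ N
  · rw [if_neg, mul_zero]
    intro hc
    apply hab
    have := (QuotientGroup.mk' N).map_isConj hc
    simpa [(QuotientGroup.eq_one_iff g).2 hg] using this
  · rw [indFun_eq_zero_of_normal N _ hg]
    simp

/-- trace formula: exactly one character over `θ` is fixed by `π` when `π` moves every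
non-trivial class of `G ⧸ N`. -/
theorem existsUnique_over_fixed [Finite G] [Fintype N] (π : G → G)
    (hπ : ∀ χ : IrrCharacter G, IsIrrCharacter G (fun g => χ.1 (π g)))
    (hq : ∀ g : G, IsConj ((π g : G) : G ⧸ N) (g : G ⧸ N) → g ∈ N) (θ : IrrCharacter N)
    (hθ : ∀ χ : IrrCharacter G, classInner (fun n : N => χ.1 n) θ.1 ≠ 0 →
      ∀ n ∈ N, χ.1 (π n) = χ.1 n) :
    ∃! χ : IrrCharacter G, classInner (fun n : N => χ.1 n) θ.1 ≠ 0 ∧
      ∀ g, χ.1 (π g) = χ.1 g := by
  classical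
  haveI := Fintype.ofFinite G
  have hG : (Nat.card G : ℂ) ≠ 0 := Nat.cast_ne_zero.2 Nat.card_pos.ne'
  set S := Finset.univ.filter
      (fun χ : IrrCharacter G => classInner (fun n : N => χ.1 n) θ.1 ≠ 0) with hS
  have h1 : ((S.filter (fun χ => ∀ g, χ.1 (π g) = χ.1 g)).card : ℂ) =
      ∑ χ ∈ S, classInner (fun g => χ.1 (π g)) χ.1 := by
    rw [Finset.card_filter]
    push_cast
    refine Finset.sum_congr rfl fun χ _ => ?_
    have := IrrCharacter.classInner_eq (⟨_, hπ χ⟩ : IrrCharacter G) χ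
    rw [this]
    congr 1
    exact propext ⟨fun h => Subtype.ext (funext h), fun h g => congrFun (congrArg Subtype.val h) g⟩
  have h2 : ∑ χ ∈ S, classInner (fun g => χ.1 (π g)) χ.1 =
      (Nat.card G : ℂ)⁻¹ * ∑ n : N, ∑ χ ∈ S, χ.1 n * conj (χ.1 n) := by
    simp_rw [classInner_def]
    rw [← Finset.mul_sum, Finset.sum_comm]
    congr 1
    rw [← Finset.sum_subtype (Finset.univ.filter (· ∈ N)) (by simp)
      (fun g => ∑ χ ∈ S, χ.1 g * conj (χ.1 g)), Finset.sum_filter]
    refine Finset.sum_congr rfl fun g _ => ?_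
    split_ifs with hg
    · refine Finset.sum_congr rfl fun χ hχ => ?_
      rw [hθ χ (Finset.mem_filter.1 hχ).2 g hg]
    · exact sum_over_mul_conj_eq_zero θ (fun h => hg (hq g h))
  have h3 : ∑ n : N, ∑ χ ∈ S, χ.1 n * conj (χ.1 n) = Nat.card G := by
    rw [Finset.sum_comm]
    have hN0 : (Nat.card N : ℂ) ≠ 0 := Nat.cast_ne_zero.2 Nat.card_pos.ne'
    have h4 : ∀ χ ∈ S, ∑ n : N, χ.1 n * conj (χ.1 n) =
        (Nat.card N * (charInertia θ.1).index) * classInner (fun n : N => χ.1 n) θ.1 ^ 2 := by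
      intro χ hχ
      obtain ⟨e, -, he, -, -, hn, -⟩ := clifford χ (Finset.mem_filter.1 hχ).2
      rw [classInner_def] at hn
      rw [he, ← mul_inv_cancel_left₀ hN0 (∑ n : N, χ.1 n * conj (χ.1 n)), hn]
      push_cast; ring
    have h5 : ∑ χ ∈ S, classInner (fun n : N => χ.1 n) θ.1 ^ 2 =
        ∑ χ : IrrCharacter G, classInner (fun n : N => χ.1 n) θ.1 ^ 2 :=
      Finset.sum_filter_of_ne (fun χ _ h h0 => h (by rw [h0]; simp))
    rw [Finset.sum_congr rfl h4, ← Finset.mul_sum, h5, sum_sq_classInner_res, mul_right_comm,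
      ← Nat.cast_mul, card_mul_relIndex θ.le_charInertia, ← Nat.cast_mul, Subgroup.card_mul_index]
  rw [h2, h3, inv_mul_cancel₀ hG, Nat.cast_eq_one, Finset.card_eq_one] at h1
  obtain ⟨χ, hχ⟩ := h1
  have hmem : ∀ ψ : IrrCharacter G, (classInner (fun n : N => ψ.1 n) θ.1 ≠ 0 ∧
      ∀ g, ψ.1 (π g) = ψ.1 g) ↔ ψ = χ := by
    intro ψ
    rw [← Finset.mem_singleton, ← hχ]
    simp [hS]
  exact ⟨χ, (hmem χ).2 rfl, fun ψ h => (hmem ψ).1 h⟩

theorem eq_one_of_isConj_inv_of_odd {Q : Type v} [Group Q] [Finite Q] (hodd : Odd (Nat.card Q))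
    {q : Q} (h : IsConj q⁻¹ q) : q = 1 := by
  obtain ⟨c, hc⟩ := isConj_iff.1 h
  obtain ⟨m, hm⟩ := hodd
  have h2 : c * c * q * (c * c)⁻¹ = q := by
    have : c * q * c⁻¹ = q⁻¹ := by
      rw [← inv_inj, inv_inv]
      calc (c * q * c⁻¹)⁻¹ = c * q⁻¹ * c⁻¹ := by group
        _ = q := hc
    calc c * c * q * (c * c)⁻¹ = c * (c * q * c⁻¹) * c⁻¹ := by group
      _ = q := by rw [this, hc]
  have h3 : Commute (c * c) q := by
    rw [mul_inv_eq_iff_eq_mul] at h2; exact h2
  have h4 : Commute c q := by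
    have : c = (c * c) ^ (m + 1) := by
      rw [← sq, ← pow_mul, show 2 * (m + 1) = Nat.card Q + 1 by omega, pow_succ, pow_card_eq_one',
        one_mul]
    rw [this]; exact h3.pow_left _
  rw [h4.inv_right.eq, mul_inv_cancel_right] at hc
  have h5 : q ^ 2 = 1 := by
    rw [sq]; nth_rewrite 1 [← hc]; exact inv_mul_cancel q
  calc q = q ^ (Nat.card Q + 1) := by rw [pow_succ, pow_card_eq_one', one_mul]
    _ = (q ^ 2) ^ (m + 1) := by rw [← pow_mul, hm]; rfl
    _ = 1 := by rw [h5, one_pow]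

omit hN in
theorem conj_pow_eq_inv_of_odd {c g : G} (h : c * g * c⁻¹ = g⁻¹) {m : ℕ} (hm : Odd m) :
    c ^ m * g * (c ^ m)⁻¹ = g⁻¹ := by
  obtain ⟨j, rfl⟩ := hm
  have h2 : Commute (c * c) g := by
    have h3 : c * g⁻¹ * c⁻¹ = g := by
      calc c * g⁻¹ * c⁻¹ = (c * g * c⁻¹)⁻¹ := by group
        _ = g := by rw [h, inv_inv]
    have : c * c * g * (c * c)⁻¹ = g := by
      calc c * c * g * (c * c)⁻¹ = c * (c * g * c⁻¹) * c⁻¹ := by group
        _ = g := by rw [h, h3]
    rw [mul_inv_eq_iff_eq_mul] at this; exact this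
  have h4 : Commute (c ^ (2 * j)) g := by rw [pow_mul, sq]; exact h2.pow_left _
  rw [pow_succ', mul_assoc c, h4.eq, ← h]; group

/-- a real element lies in, and is real in, every normal subgroup of odd index -/
theorem exists_isConj_inv_of_odd_index [Finite G] (hodd : Odd N.index) {g : G}
    (h : IsConj g g⁻¹) : ∃ hg : g ∈ N, IsConj (⟨g, hg⟩ : N) (⟨g, hg⟩ : N)⁻¹ := by
  have hg : g ∈ N := by
    refine (QuotientGroup.eq_one_iff g).1 (eq_one_of_isConj_inv_of_odd hodd ?_)
    simpa using (QuotientGroup.mk' N).map_isConj h.symm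
  obtain ⟨c, hc⟩ := isConj_iff.1 h
  exact ⟨hg, isConj_iff.2 ⟨⟨c ^ N.index, N.pow_index_mem c⟩,
    Subtype.ext (conj_pow_eq_inv_of_odd hc hodd)⟩⟩

theorem res_pow_fixed_of_over [Finite G] [Fintype N] {k : ℕ} {θ : IrrCharacter N}
    (hθ : ∀ n, θ.1 (n ^ k) = θ.1 n) (χ : IrrCharacter G)
    (hχ : classInner (fun n : N => χ.1 n) θ.1 ≠ 0) : ∀ n ∈ N, χ.1 (n ^ k) = χ.1 n := by
  intro n hn
  haveI := Fintype.ofFinite G
  have h1 := clifford_res_eq χ hχ ⟨n, hn⟩
  have h2 := clifford_res_eq χ hχ (⟨n, hn⟩ ^ k)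
  simp only [SubgroupClass.coe_pow] at h1 h2
  rw [h1, h2]
  congr 1
  refine Finset.sum_congr rfl fun φ hφ => ?_
  obtain ⟨g, rfl⟩ := mem_irrFinset.1 hφ
  exact IrrCharacter.smul_pow_fixed hθ g _

/-- odd index: a unique `k`-fixed character over a `k`-fixed `θ` when `g ↦ g ^ k` inverts
`G ⧸ N`. -/
theorem existsUnique_over_pow_fixed [Finite G] [Fintype N] (hodd : Odd N.index) {k : ℕ}
    (hk : k.Coprime (Nat.card G)) (hkN : ∀ g : G, g ^ k * g ∈ N) (θ : IrrCharacter N)
    (hθ : ∀ n, θ.1 (n ^ k) = θ.1 n) :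
    ∃! χ : IrrCharacter G, classInner (fun n : N => χ.1 n) θ.1 ≠ 0 ∧
      ∀ g, χ.1 (g ^ k) = χ.1 g := by
  refine existsUnique_over_fixed (fun g => g ^ k) (fun χ => χ.2.comp_pow hk) (fun g hg => ?_) θ
    (res_pow_fixed_of_over hθ)
  have h1 : ((g ^ k : G) : G ⧸ N) = (g : G ⧸ N)⁻¹ := by
    rw [eq_inv_iff_mul_eq_one, ← QuotientGroup.mk_mul, QuotientGroup.eq_one_iff]
    exact hkN g
  rw [h1] at hg
  exact (QuotientGroup.eq_one_iff g).1 (eq_one_of_isConj_inv_of_odd hodd hg)

/-- Richards: a real irreducible character of a normal subgroup of odd index lies under a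
unique real irreducible character. -/
theorem existsUnique_real_over [Finite G] [Fintype N] (hodd : Odd N.index) (θ : IrrCharacter N)
    (hθ : ∀ n, (θ.1 n).im = 0) :
    ∃! χ : IrrCharacter G, classInner (fun n : N => χ.1 n) θ.1 ≠ 0 ∧ ∀ g, (χ.1 g).im = 0 := by
  have h1 : ∀ n : N, n ^ (Nat.card G - 1) = n⁻¹ := fun n =>
    Subtype.ext (by simpa using pow_card_sub_one_eq_inv (n : G))
  have := existsUnique_over_pow_fixed hodd (coprime_card_sub_one G)
    (fun g => by rw [pow_card_sub_one_eq_inv, inv_mul_cancel]; exact N.one_mem) θ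
    (fun n => by rw [h1, ← θ.isCharacter.im_eq_zero_iff_inv]; exact hθ n)
  simpa only [pow_card_sub_one_eq_inv, ← (IrrCharacter.isCharacter _).im_eq_zero_iff_inv]
    using this

theorem exists_extension_pow_fixed_of_isSolvable {k : ℕ} (m : ℕ) :
    ∀ (G : Type u) [Group G] [Finite G] (N : Subgroup G) [N.Normal], N.index = m →
      Group.IsSolvable (G ⧸ N) → Odd N.index → k.Coprime (Nat.card G) →
      (∀ g : G, g ^ k * g ∈ N) → ∀ θ : IrrCharacter N, (∀ n, θ.1 (n ^ k) = θ.1 n) →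
      charInertia θ.1 = ⊤ →
      ∃ χ : IrrCharacter G, (∀ n : N, χ.1 n = θ.1 n) ∧ ∀ g, χ.1 (g ^ k) = χ.1 g := by
  induction m using Nat.strong_induction_on with
  | _ m ih =>
  intro G _ _ N _ hm hs hodd hk hkN θ hθ hinv
  classical
  haveI := Fintype.ofFinite G
  by_cases hN : N = ⊤
  · obtain ⟨χ, ⟨h1, h2⟩, -⟩ := existsUnique_over_pow_fixed hodd hk hkN θ hθ
    refine ⟨χ, extends_of_over_of_isCyclic ?_ hinv χ h1, h2⟩
    subst hN
    haveI : Subsingleton (G ⧸ (⊤ : Subgroup G)) := QuotientGroup.subsingleton_quotient_top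
    infer_instance
  obtain ⟨M, hMn, hNM, hMp⟩ := exists_normal_prime_index_ge hN hs
  have hidx : (N.subgroupOf M).index * M.index = N.index := Subgroup.relIndex_mul_index hNM
  have hlt : (N.subgroupOf M).index < m := by
    rw [← hm, ← hidx]
    exact lt_mul_of_one_lt_right (Nat.pos_of_ne_zero Subgroup.index_ne_zero_of_finite) hMp.one_lt
  have hodd1 : Odd (N.subgroupOf M).index := hodd.of_dvd_nat ⟨_, hidx.symm⟩
  have hodd2 : Odd M.index := hodd.of_dvd_nat ⟨_, by rw [← hidx, mul_comm]⟩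
  have hkM : k.Coprime (Nat.card M) := hk.coprime_dvd_right M.card_subgroup_dvd_card
  have hkNM : ∀ g : M, g ^ k * g ∈ N.subgroupOf M := fun g => hkN g
  have hθ' : ∀ n, (θ.subgroupOf hNM).1 (n ^ k) = (θ.subgroupOf hNM).1 n := fun n =>
    hθ ⟨n, n.2⟩
  have hs' : Group.IsSolvable (M ⧸ N.subgroupOf M) := by
    obtain ⟨f, hf, -⟩ := exists_quotient_subgroupOf_hom (N := N) M
    exact Group.isSolvable_of_isSolvable_injective hf
  obtain ⟨η, hη1, hη2⟩ := ih _ hlt M (N.subgroupOf M) rfl hs' hodd1 hkM hkNM (θ.subgroupOf hNM)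
    hθ' (charInertia_subgroupOf_eq_top hNM (hinv ▸ le_top))
  have hηinv : charInertia η.1 = ⊤ := by
    rw [IrrCharacter.charInertia_eq_top_iff]
    intro g
    refine (existsUnique_over_pow_fixed hodd1 hkM hkNM (θ.subgroupOf hNM) hθ').unique
      ⟨?_, IrrCharacter.smul_pow_fixed hη2 g⟩ ⟨?_, hη2⟩
    · rw [classInner_res_of_eq]
      · exact one_ne_zero
      intro n
      rw [IrrCharacter.smul_apply]
      have hmem : g⁻¹ * (n : M) * g ∈ N := (inferInstance : N.Normal).conj_mem' _ n.2 g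
      have := hη1 ⟨⟨g⁻¹ * (n : M) * g, hNM hmem⟩, hmem⟩
      rw [this, IrrCharacter.subgroupOf_apply, IrrCharacter.subgroupOf_apply]
      have h2 := (IrrCharacter.charInertia_eq_top_iff.1 hinv) g
      conv_rhs => rw [← h2, IrrCharacter.smul_apply]
    · rw [classInner_res_of_eq hη1]; exact one_ne_zero
  obtain ⟨χ, ⟨h1, h2⟩, -⟩ := existsUnique_over_pow_fixed hodd2 hk (fun g => hNM (hkN g)) η hη2
  refine ⟨χ, fun n => ?_, h2⟩
  have := extends_of_over_of_isCyclic (isCyclic_quotient_of_prime_index hMp) hηinv χ h1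
    ⟨n, hNM n.2⟩
  rw [this]
  exact hη1 ⟨⟨n, hNM n.2⟩, n.2⟩

/-- odd index: an invariant `k`-fixed character has a `k`-fixed extension -/
theorem exists_extension_pow_fixed [Finite G] (hodd : Odd N.index) {k : ℕ}
    (hk : k.Coprime (Nat.card G)) (hkN : ∀ g : G, g ^ k * g ∈ N) (θ : IrrCharacter N)
    (hθ : ∀ n, θ.1 (n ^ k) = θ.1 n) (hinv : charInertia θ.1 = ⊤) :
    ∃ χ : IrrCharacter G, (∀ n : N, χ.1 n = θ.1 n) ∧ ∀ g, χ.1 (g ^ k) = χ.1 g := by
  obtain ⟨χ, hχ⟩ : ∃ χ : IrrCharacter G, ∀ n : N, χ.1 n = θ.1 n := by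
    refine exists_extension_of_sylow hinv fun p hp _ _ => ?_
    haveI := Fact.mk hp
    obtain ⟨S⟩ : Nonempty (Sylow p (G ⧸ N)) := inferInstance
    set P := (S : Subgroup (G ⧸ N)).comap (QuotientGroup.mk' N) with hP
    have hNP : N ≤ P := le_comap_mk N _
    refine ⟨P, hNP, by rw [hP, index_comap_mk]; exact S.not_dvd_index, ?_⟩
    have hidx : (N.subgroupOf P).index * P.index = N.index := Subgroup.relIndex_mul_index hNP
    have hs : Group.IsSolvable (P ⧸ N.subgroupOf P) := by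
      refine isSolvable_of_isPGroup (p := p) (isPGroup_quotient_iff_index.2 ?_)
      obtain ⟨j, hj⟩ := S.isPGroup'.exists_card_eq
      exact ⟨j, by rw [← hj, ← relIndex_comap_mk N]; rfl⟩
    obtain ⟨η, hη, -⟩ := exists_extension_pow_fixed_of_isSolvable _ P (N.subgroupOf P) rfl hs
      (hodd.of_dvd_nat ⟨_, hidx.symm⟩) (hk.coprime_dvd_right P.card_subgroup_dvd_card)
      (fun g => hkN g) (θ.subgroupOf hNP) (fun n => hθ ⟨n, n.2⟩)
      (charInertia_subgroupOf_eq_top hNP (hinv ▸ le_top))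
    exact ⟨η, fun n => hη ⟨⟨n, hNP n.2⟩, n.2⟩⟩
  obtain ⟨lam, hl1, hl2⟩ := exists_linear_of_extends' χ.isCharacter
    (χ.isCharacter.comp_pow hk) hχ (fun n => by
      have := hχ (n ^ k)
      rw [hθ] at this
      exact this)
  obtain ⟨m, hm⟩ := hodd
  have hl3 := unitsHom_pow_index_eq_one hl1
  refine ⟨χ.twist (lam ^ (m + 1)), fun n => ?_, fun g => ?_⟩
  · rw [IrrCharacter.twist_apply, MonoidHom.pow_apply, hl1 n n.2, hχ]; simp
  · rw [IrrCharacter.twist_apply, IrrCharacter.twist_apply, congrFun hl2 g, ← mul_assoc]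
    congr 1
    have h1 : lam (g ^ k) = (lam g)⁻¹ := by
      rw [eq_inv_iff_mul_eq_one, ← map_mul]; exact hl1 _ (hkN g)
    have h2 : lam g ^ (2 * m + 1) = 1 := by
      rw [← hm]; exact DFunLike.congr_fun hl3 g
    rw [MonoidHom.pow_apply, MonoidHom.pow_apply, h1, ← Units.val_mul]
    congr 1
    rw [inv_pow, inv_mul_eq_iff_eq_mul, ← pow_add, show m + 1 + (m + 1) = (2 * m + 1) + 1 by ring,
      pow_succ, h2, one_mul]

/-- odd index: the `k`-fixed character over an invariant `k`-fixed `θ` extends it -/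
theorem extends_of_pow_fixed [Finite G] [Fintype N] (hodd : Odd N.index) {k : ℕ}
    (hk : k.Coprime (Nat.card G)) (hkN : ∀ g : G, g ^ k * g ∈ N) {θ : IrrCharacter N}
    (hθ : ∀ n, θ.1 (n ^ k) = θ.1 n) (hinv : charInertia θ.1 = ⊤) (χ : IrrCharacter G)
    (hχ : classInner (fun n : N => χ.1 n) θ.1 ≠ 0) (hχk : ∀ g, χ.1 (g ^ k) = χ.1 g) (n : N) :
    χ.1 n = θ.1 n := by
  obtain ⟨ψ, h1, h2⟩ := exists_extension_pow_fixed hodd hk hkN θ hθ hinv
  rw [(existsUnique_over_pow_fixed hodd hk hkN θ hθ).unique ⟨hχ, hχk⟩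
    ⟨by rw [classInner_res_of_eq h1]; exact one_ne_zero, h2⟩, h1]

/-- odd index: an invariant real character has a real extension -/
theorem exists_real_extension [Finite G] (hodd : Odd N.index) (θ : IrrCharacter N)
    (hθ : ∀ n, (θ.1 n).im = 0) (hinv : charInertia θ.1 = ⊤) :
    ∃ χ : IrrCharacter G, (∀ n : N, χ.1 n = θ.1 n) ∧ ∀ g, (χ.1 g).im = 0 := by
  have h1 : ∀ n : N, n ^ (Nat.card G - 1) = n⁻¹ := fun n =>
    Subtype.ext (by simpa using pow_card_sub_one_eq_inv (n : G))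
  have := exists_extension_pow_fixed hodd (coprime_card_sub_one G)
    (fun g => by rw [pow_card_sub_one_eq_inv, inv_mul_cancel]; exact N.one_mem) θ
    (fun n => by rw [h1, ← θ.isCharacter.im_eq_zero_iff_inv]; exact hθ n) hinv
  simpa only [pow_card_sub_one_eq_inv, ← (IrrCharacter.isCharacter _).im_eq_zero_iff_inv]
    using this

/-- odd index: the real character over an invariant real `θ` extends it -/
theorem extends_of_real [Finite G] [Fintype N] (hodd : Odd N.index) {θ : IrrCharacter N}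
    (hinv : charInertia θ.1 = ⊤) (χ : IrrCharacter G)
    (hχ : classInner (fun n : N => χ.1 n) θ.1 ≠ 0) (hr : ∀ g, (χ.1 g).im = 0) (n : N) :
    χ.1 n = θ.1 n := by
  have hθ := real_of_under χ (fun n _ => hr n) θ hχ (odd_index_charInertia hodd θ)
  obtain ⟨ψ, h1, h2⟩ := exists_real_extension hodd θ hθ hinv
  rw [(existsUnique_real_over hodd θ hθ).unique ⟨hχ, hr⟩
    ⟨by rw [classInner_res_of_eq h1]; exact one_ne_zero, h2⟩, h1]

/-- odd index: a real character is induced from a real extension to the inertia group -/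
theorem exists_real_extension_indFun_eq [Fintype G] [Fintype N] (hodd : Odd N.index)
    {θ : IrrCharacter N} (χ : IrrCharacter G)
    (hχ : classInner (fun n : N => χ.1 n) θ.1 ≠ 0) (hr : ∀ g, (χ.1 g).im = 0) :
    ∃ η : IrrCharacter (charInertia θ.1), (∀ n : N, η.1 ⟨n, θ.le_charInertia n.2⟩ = θ.1 n) ∧
      (∀ t, (η.1 t).im = 0) ∧ indFun (charInertia θ.1) η.1 = χ.1 := by
  classical
  have hθ := real_of_under χ (fun n _ => hr n) θ hχ (odd_index_charInertia hodd θ)
  have hNT := θ.le_charInertia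
  have hidx : (N.subgroupOf (charInertia θ.1)).index * (charInertia θ.1).index = N.index :=
    Subgroup.relIndex_mul_index hNT
  obtain ⟨η, h1, h2⟩ := exists_real_extension (hodd.of_dvd_nat ⟨_, hidx.symm⟩)
    (θ.subgroupOf hNT) (fun n => hθ _) (charInertia_subgroupOf_eq_top hNT le_rfl)
  have h3 : ∀ n : N, η.1 ⟨n, hNT n.2⟩ = θ.1 n := fun n => h1 ⟨⟨n, hNT n.2⟩, n.2⟩
  have h4 : classInner (fun n : N => η.1 ⟨n, hNT n.2⟩) θ.1 ≠ 0 := by
    rw [funext h3, θ.classInner_self]; exact one_ne_zero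
  refine ⟨η, h3, h2, ?_⟩
  have := (existsUnique_real_over hodd θ hθ).unique
    (y₁ := ⟨_, clifford_corr_isIrr hNT le_rfl η h4⟩) (y₂ := χ)
    ⟨by rw [clifford_corr_classInner hNT le_rfl η h4]; exact h4, fun g => ?_⟩ ⟨hχ, hr⟩
  · exact congrArg Subtype.val this
  · rw [← Complex.conj_eq_iff_im]
    have h5 := congrFun (indFun_map_ringHom (starRingEnd ℂ) (charInertia θ.1) η.1) g
    rw [← h5]
    congr 1
    funext t
    exact Complex.conj_eq_iff_im.2 (h2 t)

/-- odd index: a real character contains each constituent with multiplicity one -/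
theorem classInner_res_eq_one_of_real [Finite G] [Fintype N] (hodd : Odd N.index)
    {θ : IrrCharacter N} (χ : IrrCharacter G)
    (hχ : classInner (fun n : N => χ.1 n) θ.1 ≠ 0) (hr : ∀ g, (χ.1 g).im = 0) :
    classInner (fun n : N => χ.1 n) θ.1 = 1 := by
  haveI := Fintype.ofFinite G
  obtain ⟨η, h1, -, h3⟩ := exists_real_extension_indFun_eq hodd χ hχ hr
  have h4 : classInner (fun n : N => η.1 ⟨n, θ.le_charInertia n.2⟩) θ.1 = 1 := by
    rw [funext h1, θ.classInner_self]
  rw [← h3, clifford_corr_classInner θ.le_charInertia le_rfl η (by rw [h4]; exact one_ne_zero), h4]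

/-- odd index: a real character and its constituents have the same indicator -/
theorem fsInd_eq_of_real_over [Finite G] [Fintype N] (hodd : Odd N.index)
    {θ : IrrCharacter N} (χ : IrrCharacter G)
    (hχ : classInner (fun n : N => χ.1 n) θ.1 ≠ 0) (hr : ∀ g, (χ.1 g).im = 0) :
    fsInd χ.1 = fsInd θ.1 :=
  χ.fsInd_eq_of_odd_res N hr θ
    (real_of_under χ (fun n _ => hr n) θ hχ (odd_index_charInertia hodd θ)) odd_one
    (by rw [classInner_res_eq_one_of_real hodd χ hχ hr, Nat.cast_one])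

/-- odd index: degree of a real character -/
theorem charDegree_eq_of_real_over [Finite G] [Fintype N] (hodd : Odd N.index)
    {θ : IrrCharacter N} (χ : IrrCharacter G)
    (hχ : classInner (fun n : N => χ.1 n) θ.1 ≠ 0) (hr : ∀ g, (χ.1 g).im = 0) :
    charDegree χ.1 = (charInertia θ.1).index * charDegree θ.1 := by
  haveI := Fintype.ofFinite G
  obtain ⟨e, -, he, -, hd, -⟩ := clifford χ hχ
  rw [classInner_res_eq_one_of_real hodd χ hχ hr] at he
  obtain rfl : e = 1 := by exact_mod_cast he.symm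
  rw [hd, one_mul]

end Cfsg
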