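import Cfsg.Agent.CT.Monomial
import Cfsg.Agent.CT.Extension
import Cfsg.Agent.Grp.Wreath

/-!
# Irreducible characters of finite direct products; wreath products of M-groups
-/

set_option autoImplicit false
set_option linter.unusedSectionVars false

open scoped ComplexConjugate

namespace Cfsg

universe u v

section pi

variable {ι : Type v} [Fintype ι] [DecidableEq ι] {K : ι → Type u} [∀ i, Group (K i)]

theorem IsCharacter.pi {φ : ∀ i, K i → ℂ} (h : ∀ i, IsCharacter (K i) (φ i)) :
    IsCharacter (∀ i, K i) (fun x => ∏ i, φ i (x i)) := by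
  have : ∀ s : Finset ι, IsCharacter (∀ i, K i) (fun x => ∏ i ∈ s, φ i (x i)) := fun s => by
    induction s using Finset.induction_on with
    | empty => simpa using IsCharacter.one
    | insert a s ha ih =>
      simp only [Finset.prod_insert ha]
      exact ((h a).comp (Pi.evalMonoidHom K a)).mul ih
  exact this _

theorem classInner_pi [∀ i, Fintype (K i)] (φ ψ : ∀ i, K i → ℂ) :
    classInner (fun x : ∀ i, K i => ∏ i, φ i (x i)) (fun x => ∏ i, ψ i (x i)) =
      ∏ i, classInner (φ i) (ψ i) := by
  simp only [classInner_def, Finset.prod_mul_distrib, Finset.prod_univ_sum, Fintype.piFinset_univ,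
    map_prod, Nat.card_pi, Nat.cast_prod, Finset.prod_inv_distrib]

variable [∀ i, Finite (K i)]

/-- the product of irreducible characters of the factors -/
noncomputable def piChar (φ : ∀ i, IrrCharacter (K i)) : IrrCharacter (∀ i, K i) :=
  ⟨fun x => ∏ i, (φ i).1 (x i), by
    have := fun i => Fintype.ofFinite (K i)
    rw [(IsCharacter.pi fun i => (φ i).isCharacter).isIrr_iff, classInner_pi]
    simp [IrrCharacter.classInner_self]⟩

@[simp] theorem piChar_apply (φ : ∀ i, IrrCharacter (K i)) (x : ∀ i, K i) :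
    (piChar φ).1 x = ∏ i, (φ i).1 (x i) := rfl

theorem charDegree_piChar (φ : ∀ i, IrrCharacter (K i)) :
    charDegree (piChar φ).1 = ∏ i, charDegree (φ i).1 := by
  have := (piChar φ).one_eq_charDegree
  simp only [piChar_apply, Pi.one_apply, IrrCharacter.one_eq_charDegree] at this
  exact_mod_cast this.symm

theorem piChar_injective : Function.Injective (piChar (K := K)) := fun φ ψ h => by
  have := fun i => Fintype.ofFinite (K i)
  have h1 := (piChar φ).classInner_self
  conv_lhs at h1 => enter [2]; rw [h]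
  have h2 := classInner_pi (fun i => (φ i).1) (fun i => (ψ i).1)
  funext i
  by_contra hne
  refine one_ne_zero ((h1.symm.trans h2).trans ?_)
  exact Finset.prod_eq_zero (Finset.mem_univ i) (IrrCharacter.classInner_of_ne hne)

theorem piChar_surjective : Function.Surjective (piChar (K := K)) := fun χ => by
  classical
  by_contra hne
  have h1 := sum_charDegree_sq (G := ∀ i, K i)
  have h2 : ∑ φ : ∀ i, IrrCharacter (K i), charDegree (piChar φ).1 ^ 2 = Nat.card (∀ i, K i) := by
    rw [Nat.card_pi]
    simp only [charDegree_piChar, ← Finset.prod_pow, ← sum_charDegree_sq,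
      Finset.prod_univ_sum, Fintype.piFinset_univ]
  rw [← Finset.sum_image (f := fun ψ : IrrCharacter (∀ i, K i) => charDegree ψ.1 ^ 2)
    (piChar_injective.injOn)] at h2
  have h3 := Finset.sum_lt_sum_of_subset (Finset.subset_univ (Finset.univ.image (piChar (K := K))))
    (Finset.mem_univ χ) (by simpa using hne)
    (f := fun ψ : IrrCharacter (∀ i, K i) => charDegree ψ.1 ^ 2)
    (pow_pos χ.charDegree_pos 2) (fun _ _ _ => Nat.zero_le _)
  omega

end pi

theorem IsCharacter.exists_between_hom {G : Type u} [Group G] [Fintype G] {A : Type v} [Group A]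
    [Fintype A] (f : A →* G) {χ : G → ℂ} (hχ : IsCharacter G χ) {θ : A → ℂ}
    (h : classInner (fun a => χ (f a)) θ ≠ 0) :
    ∃ μ : IrrCharacter G, classInner χ μ.1 ≠ 0 ∧ classInner (fun a => μ.1 (f a)) θ ≠ 0 := by
  have h1 : (fun a => χ (f a)) = ∑ μ : IrrCharacter G, classInner χ μ.1 • fun a => μ.1 (f a) := by
    funext a
    rw [hχ.isClassFunction.eq_sum_irr, Finset.sum_apply]
    rfl
  rw [h1, classInner_sum_left] at h
  obtain ⟨μ, -, h2⟩ := Finset.exists_ne_zero_of_sum_ne_zero h
  rw [classInner_smul_left] at h2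
  exact ⟨μ, mul_ne_zero_iff.1 h2⟩

theorem isMonomialChar_of_hom {G : Type u} [Group G] [Fintype G] {A : Type v} [Group A]
    [Fintype A] (f : A →* G) (hf : Function.Injective f) (χ : IrrCharacter G) (lam : A →* ℂˣ)
    (h : classInner (fun a => χ.1 (f a)) (fun a => (lam a : ℂ)) ≠ 0)
    (hd : Nat.card G ≤ Nat.card A * charDegree χ.1) : IsMonomialChar χ.1 := by
  have := Fintype.ofFinite f.range
  refine ⟨f.range, lam.comp (MonoidHom.ofInjective hf).symm.toMonoidHom,
    χ.eq_indFun_of_charDegree (IrrCharacter.ofHom _).isCharacter ?_ ?_⟩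
  · rw [← classInner_comp_mulEquiv (MonoidHom.ofInjective hf)]
    simpa [MonoidHom.ofInjective_apply] using h
  · erw [IrrCharacter.charDegree_ofHom, mul_one]
    rw [← f.range.card_mul_index, ← Nat.card_congr (MonoidHom.ofInjective hf).toEquiv] at hd
    exact Nat.le_of_mul_le_mul_left hd Nat.card_pos

open RegularWreathProduct in
theorem IsMGroup.wreath {K C : Type u} [Group K] [Fintype K] [Group C] [Finite C]
    (hK : IsMGroup K) (hC : (Nat.card C).Prime) [Fintype (K ≀ᵣ C)] : IsMGroup (K ≀ᵣ C) := by
  classical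
  have := Fintype.ofFinite C
  intro χ hχ
  obtain ⟨χ, rfl⟩ : ∃ χ' : IrrCharacter (K ≀ᵣ C), χ'.1 = χ := ⟨⟨χ, hχ⟩, rfl⟩
  choose H lam hH using fun φ : IrrCharacter K => hK φ.1 φ.2
  have := fun φ => Fintype.ofFinite (H φ)
  have hHi : ∀ φ, (H φ).index = charDegree φ.1 := fun φ => by
    conv_rhs => rw [hH φ]
    exact ((IrrCharacter.ofHom (lam φ)).isCharacter.charDegree_indFun.trans
      (by rw [IrrCharacter.charDegree_ofHom, mul_one])).symm
  have hHl : ∀ φ, classInner (fun h : H φ => φ.1 h) (fun h => (lam φ h : ℂ)) ≠ 0 := fun φ => by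
    rw [← classInner_indFun_right _ _ φ.isClassFunction, ← hH φ, φ.classInner_self]
    exact one_ne_zero
  have := Fintype.ofFinite (wreathBase K C).range
  obtain ⟨θ, hθ⟩ := χ.exists_under (wreathBase K C).range
  obtain ⟨φ, hφ⟩ := piChar_surjective
    ((IrrCharacter.congr (MonoidHom.ofInjective (wreathBase_injective (D := K) (Q := C)))).symm θ)
  have hθφ : ∀ f, θ.1 ⟨wreathBase K C f, f, rfl⟩ = (piChar φ).1 f := fun f => by rw [hφ]; rfl
  have hdeg : charDegree θ.1 = ∏ i, charDegree (φ i).1 := by
    rw [← charDegree_piChar, charDegree, charDegree, ← hθφ]; rfl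
  have hχφ : classInner (fun f => χ.1 (wreathBase K C f)) (piChar φ).1 ≠ 0 := by
    rw [← classInner_comp_mulEquiv (MonoidHom.ofInjective wreathBase_injective)] at hθ
    rw [hφ]
    exact hθ
  let j : (∀ i, H (φ i)) →* (C → K) := MonoidHom.pi fun i =>
    (H (φ i)).subtype.comp (Pi.evalMonoidHom (fun i => H (φ i)) i)
  let Λ : (∀ i, H (φ i)) →* ℂˣ := ∏ i, (lam (φ i)).comp (Pi.evalMonoidHom (fun i => H (φ i)) i)
  have hΛ : ∀ x, (Λ x : ℂ) = ∏ i, (lam (φ i) (x i) : ℂ) := fun x => by simp [Λ]
  have hχΛ : classInner (fun x => χ.1 (wreathBase K C (j x))) (fun x => (Λ x : ℂ)) ≠ 0 := by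
    refine IsCharacter.classInner_comp_ne_zero j (χ.isCharacter.comp (wreathBase K C)) (piChar φ)
      (IrrCharacter.ofHom Λ).isCharacter hχφ ?_
    simp only [hΛ]
    refine (classInner_pi (fun i (h : H (φ i)) => (φ i).1 h)
      (fun i h => (lam (φ i) h : ℂ))).trans_ne ?_
    exact Finset.prod_ne_zero_iff.2 fun i _ => hHl _
  by_cases hc : ∃ φ₀, φ = fun _ => φ₀
  · obtain ⟨φ₀, rfl⟩ := hc
    have := Fintype.ofFinite (H φ₀ ≀ᵣ C)
    obtain ⟨μ, h1, h2⟩ := IsCharacter.exists_between_hom (wreathBase (H φ₀) C)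
      (χ.isCharacter.comp (wreathMap (H φ₀).subtype C)) hχΛ
    have := Fintype.ofFinite (wreathBase (H φ₀) C).range
    let e := MonoidHom.ofInjective (wreathBase_injective (D := H φ₀) (Q := C))
    have h3 : classInner (fun n : (wreathBase (H φ₀) C).range => μ.1 n)
        (IrrCharacter.ofHom (Λ.comp e.symm.toMonoidHom)).1 ≠ 0 := by
      rw [← classInner_comp_mulEquiv e]
      simpa [e, MonoidHom.ofInjective_apply] using h2
    have h4 : charDegree μ.1 = 1 := by
      rcases extends_or_indFun_of_prime_index (by rwa [index_range_wreathBase]) μ h3 with h | h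
      · rw [charDegree_eq_of_extends h.2, IrrCharacter.charDegree_ofHom]
      · exfalso
        have : Nontrivial C := Finite.one_lt_card_iff_nontrivial.1 hC.one_lt
        obtain ⟨c, hc⟩ := exists_ne (1 : C)
        have h5 : inl c ∈ charInertia (IrrCharacter.ofHom (Λ.comp e.symm.toMonoidHom)).1 := by
          rintro ⟨_, f, rfl⟩
          have h6 : ∀ f, (IrrCharacter.ofHom (Λ.comp e.symm.toMonoidHom)).1
              ⟨wreathBase _ C f, f, rfl⟩ = Λ f := fun f =>
            congrArg (fun x => (Λ x : ℂ)) (e.symm_apply_apply f)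
          refine (congrArg _ (Subtype.ext (inl_mul_wreathBase c f))).trans ((h6 _).trans ?_)
          rw [h6, hΛ, hΛ]
          exact Fintype.prod_equiv (Equiv.mulLeft c⁻¹) _ _ fun _ => rfl
        rw [h.1, range_wreathBase] at h5
        exact hc h5
    obtain ⟨m, rfl⟩ := μ.exists_eq_ofHom h4
    refine isMonomialChar_of_hom _ (wreathMap_injective (H φ₀).subtype_injective) χ m h1 ?_
    have h5 := θ.charDegree_le_of_over χ.isCharacter hθ
    rw [hdeg, Finset.prod_const, Finset.card_univ, ← Nat.card_eq_fintype_card, ← hHi] at h5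
    rw [card, card, ← (H φ₀).card_mul_index, mul_pow, mul_right_comm]
    exact Nat.mul_le_mul_left _ h5
  · refine isMonomialChar_of_hom ((wreathBase K C).comp j) (wreathBase_injective.comp fun x y h =>
      funext fun i => Subtype.ext (congrFun h i)) χ Λ hχΛ ?_
    rcases extends_or_indFun_of_prime_index (by rwa [index_range_wreathBase]) χ hθ with h | h
    · refine (hc ⟨φ 1, funext fun c => ?_⟩).elim
      have h1 : piChar φ = piChar fun x => φ (c * x) := by
        ext f
        rw [← hθφ, ← h.2, piChar_apply,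
          ← Fintype.prod_equiv (Equiv.mulLeft c⁻¹) (fun x => (φ x).1 (f (c⁻¹ * x))) _
            (fun x => by simp), ← piChar_apply, ← hθφ, ← h.2]
        change _ = χ.1 (wreathBase K C fun x => f (c⁻¹ * x))
        rw [← inl_mul_wreathBase, χ.isClassFunction]
      simpa using (congrFun (piChar_injective h1) 1).symm
    · rw [h.2, θ.isCharacter.charDegree_indFun, index_range_wreathBase, hdeg, card, Nat.card_pi,
        mul_left_comm, ← Finset.prod_mul_distrib, mul_comm]
      simp only [← hHi, Subgroup.card_mul_index]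
      rw [Finset.prod_const, Finset.card_univ, ← Nat.card_eq_fintype_card]

theorem exists_isMGroup_injective (G : Type u) [Group G] [Finite G] (h : Group.IsSolvable G) :
    ∃ (M : Type u) (_ : Group M) (_ : Fintype M), IsMGroup M ∧
      ∃ f : G →* M, Function.Injective f := by
  revert h
  refine induction_on_card (P := fun G _ _ => Group.IsSolvable G →
    ∃ (M : Type u) (_ : Group M) (_ : Fintype M), IsMGroup M ∧
      ∃ f : G →* M, Function.Injective f) ?_ G
  intro G _ _ ih h
  rcases subsingleton_or_nontrivial G with hG | hG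
  · have := Fintype.ofFinite G
    exact ⟨G, inferInstance, this, isMGroup_of_isNilpotent inferInstance,
      MonoidHom.id G, Function.injective_id⟩
  obtain ⟨N, hN, hp⟩ := exists_normal_prime_index h
  obtain ⟨K, _, _, hK, f, hf⟩ := ih N (card_lt_of_ne_top fun h0 => by
    rw [h0, Subgroup.index_top] at hp; exact Nat.not_prime_one hp) inferInstance
  obtain ⟨φ, hφ⟩ := exists_injective_wreath N
  have := Fintype.ofFinite (K ≀ᵣ (G ⧸ N))
  exact ⟨K ≀ᵣ (G ⧸ N), inferInstance, this, hK.wreath hp, (wreathMap f _).comp φ,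
    (wreathMap_injective hf).comp hφ⟩

end Cfsg
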