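import Cfsg.Agent.CT.Mult
import Cfsg.Agent.CT.Kernel
import Cfsg.Agent.CT.Center
import Mathlib.NumberTheory.LegendreSymbol.Complex

/-! Characters of groups with a split BN-pair of rank one: multiplicities on the unipotent
subgroup, the principal series, and Gelfand's trick. -/

set_option autoImplicit false
set_option linter.style.haveILetI false

namespace Cfsg

open scoped ComplexConjugate MonoidAlgebra

universe u

theorem finrank_range_le_one_of_comm {G : Type u} [Group G] {V : Type*} [AddCommGroup V]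
    [Module ℂ V] [FiniteDimensional ℂ V] {ρ : Representation ℂ G V} (hρ : ρ.IsIrreducible)
    {E : Module.End ℂ V} (hE : E * E = E)
    (hc : ∀ g h, E * ρ g * E * (E * ρ h * E) = E * ρ h * E * (E * ρ g * E)) :
    Module.finrank ℂ (LinearMap.range E) ≤ 1 := by
  have hE' : ∀ v, E (E v) = E v := fun v => congrArg (fun f : Module.End ℂ V => f v) hE
  have key : ∀ w : V, w ≠ 0 → ∀ v, v ∈ Submodule.span ℂ (Set.range fun g => ρ g w) := by
    intro w hw v
    rcases ((rep_isIrreducible_iff ρ).1 hρ).2 (Submodule.span ℂ (Set.range fun g => ρ g w))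
      (fun g v hv => by
        induction hv using Submodule.span_induction with
        | mem v hv =>
          obtain ⟨h, rfl⟩ := hv
          exact Submodule.subset_span ⟨g * h, by simp⟩
        | zero => simp
        | add v w _ _ h1 h2 => rw [map_add]; exact Submodule.add_mem _ h1 h2
        | smul c v _ h1 => rw [map_smul]; exact Submodule.smul_mem _ c h1) with h | h
    · exact absurd ((Submodule.span_eq_bot.1 h) w ⟨1, by simp⟩) hw
    · exact h ▸ Submodule.mem_top
  rcases subsingleton_or_nontrivial (LinearMap.range E) with h0 | h0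
  · rw [Module.finrank_zero_of_subsingleton]; exact zero_le_one
  have h1 : ∀ g, ∃ c : ℂ, ∀ v, E (ρ g (E v)) = c • E v := by
    intro g
    obtain ⟨c, hc'⟩ := Module.End.exists_eigenvalue ((E * ρ g).restrict
      (p := LinearMap.range E) (q := LinearMap.range E) fun v _ => ⟨_, rfl⟩)
    obtain ⟨⟨_, w, rfl⟩, hw⟩ := hc'.exists_hasEigenvector
    have h2 : E (ρ g (E w)) = c • E w := congrArg Subtype.val hw.apply_eq_smul
    refine ⟨c, fun v => ?_⟩
    induction key (E w) (fun h => hw.2 (Subtype.ext h)) v using Submodule.span_induction with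
    | mem v hv =>
      obtain ⟨h, rfl⟩ := hv
      have h3 := congrArg (fun f : Module.End ℂ V => f w) (hc g h)
      simp only [Module.End.mul_apply, hE', h2, map_smul] at h3
      exact h3
    | zero => simp
    | add v w _ _ h1 h2 => simp only [map_add, h1, h2, smul_add]
    | smul a v _ h1 => simp only [map_smul, h1, smul_comm a c]
  obtain ⟨⟨_, w, rfl⟩, hw⟩ := exists_ne (0 : LinearMap.range E)
  refine finrank_le_one ⟨E w, w, rfl⟩ ?_
  rintro ⟨_, v, rfl⟩
  have h2 : E v ∈ Submodule.span ℂ {E w} := by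
    induction key (E w) (fun h => hw (Subtype.ext h)) v using Submodule.span_induction with
    | mem v hv =>
      obtain ⟨h, rfl⟩ := hv
      obtain ⟨c, hc⟩ := h1 h
      rw [hc]
      exact Submodule.smul_mem _ c (Submodule.mem_span_singleton_self _)
    | zero => simp
    | add v w _ _ h1 h2 => rw [map_add]; exact Submodule.add_mem _ h1 h2
    | smul a v _ h1 => rw [map_smul]; exact Submodule.smul_mem _ a h1
  obtain ⟨c, hc⟩ := Submodule.mem_span_singleton.1 h2
  exact ⟨c, Subtype.ext hc⟩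

/-- Gelfand's trick: a linear character of `U` induces a multiplicity free character when an
anti-automorphism fixes the double cosets that support the Hecke algebra -/
theorem cmult_le_one_of_gelfand {G : Type u} {U : Type*} [Group G] [Group U] [Fintype U]
    (x : U →* G) (ψ : U →* ℂˣ) (τ : G → G) (hτ : ∀ g h, τ (g * h) = τ h * τ g)
    (σ : U ≃ U) (hσ : ∀ u, τ (x u) = x (σ u)) (hψ : ∀ u, ψ (σ u) = ψ u)
    (hg : ∀ g, ∃ u r u', g = x u * r * x u' ∧
      (τ r = r ∨ ∃ v v', x v * r = r * x v' ∧ ψ v ≠ ψ v')) (χ : IrrCharacter G) :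
    cmult (fun u => χ.1 (x u)) (fun u => ψ u) ≤ 1 := by
  have hU : (Fintype.card U : ℂ) ≠ 0 := by simp
  have hτ1 : τ 1 = 1 := by simpa using hτ 1 1
  let s := MonoidAlgebra.of ℂ G
  let Θ : ℂ[G] →ₐ[ℂ] ℂ[G]ᵐᵒᵖ := MonoidAlgebra.lift ℂ _ G
    { toFun := fun g => MulOpposite.op (s (τ g))
      map_one' := by rw [hτ1, map_one, MulOpposite.op_one]
      map_mul' := fun g h => by rw [hτ, map_mul, MulOpposite.op_mul] }
  have hΘ : ∀ g, Θ (s g) = MulOpposite.op (s (τ g)) := fun g => MonoidAlgebra.lift_of _ g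
  obtain ⟨e, he⟩ : ∃ e : ℂ[G], e = ∑ u, ((Fintype.card U : ℂ)⁻¹ * ψ u⁻¹) • s (x u) := ⟨_, rfl⟩
  have h1 : ∀ v, e * s (x v) = (ψ v : ℂ) • e := fun v => by
    rw [he, Finset.sum_mul, Finset.smul_sum]
    refine Fintype.sum_equiv (Equiv.mulRight v) _ _ fun u => ?_
    simp only [Equiv.coe_mulRight, map_mul, smul_mul_assoc, smul_smul, map_inv, mul_inv_rev,
      Units.val_mul, Units.val_inv_eq_inv_val]
    congr 1
    field_simp
  have h2 : ∀ v, s (x v) * e = (ψ v : ℂ) • e := fun v => by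
    rw [he, Finset.mul_sum, Finset.smul_sum]
    refine Fintype.sum_equiv (Equiv.mulLeft v) _ _ fun u => ?_
    simp only [Equiv.coe_mulLeft, map_mul, mul_smul_comm, smul_smul, map_inv, mul_inv_rev,
      Units.val_mul, Units.val_inv_eq_inv_val]
    congr 1
    field_simp
  have h3 : e * e = e := by
    nth_rewrite 2 [he]
    simp only [Finset.mul_sum, mul_smul_comm, h1, smul_smul, map_inv, Units.val_inv_eq_inv_val,
      inv_mul_cancel_right₀ (Units.ne_zero _), Finset.sum_const, Finset.card_univ,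
      ← Nat.cast_smul_eq_nsmul ℂ, mul_inv_cancel₀ hU, one_smul]
  have h4 : Θ e = MulOpposite.op e := by
    rw [he, map_sum, Finset.op_sum]
    refine Fintype.sum_equiv σ _ _ fun u => ?_
    rw [map_smul, hΘ, hσ, map_inv, map_inv, hψ, MulOpposite.op_smul]
  have h5 : ∀ c, Θ (e * c * e) = MulOpposite.op (e * c * e) := fun c => by
    induction c using MonoidAlgebra.induction_on with
    | of g =>
      obtain ⟨u, r, u', rfl, h | ⟨v, v', h, h'⟩⟩ := hg g
      · rw [map_mul s, map_mul s, ← mul_assoc, ← mul_assoc, h1, mul_assoc _ _ e, h2,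
          mul_smul_comm, smul_mul_assoc, smul_mul_assoc, map_smul, map_smul, map_mul, map_mul,
          h4, hΘ, h, MulOpposite.op_smul, MulOpposite.op_smul, ← MulOpposite.op_mul,
          ← MulOpposite.op_mul, mul_assoc]
      · have h6 : e * s r * e = 0 := by
          have h7 : e * s (x v * r) * e = e * s (r * x v') * e := by rw [h]
          rw [map_mul, map_mul, ← mul_assoc, h1, ← mul_assoc, mul_assoc _ (s (x _)) e, h2,
            mul_smul_comm, smul_mul_assoc, smul_mul_assoc, ← sub_eq_zero, ← sub_smul, smul_eq_zero,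
            sub_eq_zero] at h7
          exact h7.resolve_left fun h => h' (Units.ext h)
        rw [map_mul s, map_mul s, ← mul_assoc, ← mul_assoc, h1, mul_assoc _ _ e, h2,
          mul_smul_comm, smul_mul_assoc, smul_mul_assoc, h6]
        simp
    | add a b ha hb => rw [mul_add, add_mul, map_add, ha, hb, MulOpposite.op_add]
    | smul a b hb => rw [mul_smul_comm, smul_mul_assoc, map_smul, hb, MulOpposite.op_smul]
  have h6 : ∀ a b, e * a * e * (e * b * e) = e * b * e * (e * a * e) := fun a b => by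
    have h7 := h5 (a * e * (e * b))
    rw [show e * (a * e * (e * b)) * e = e * a * e * (e * b * e) by simp only [mul_assoc],
      map_mul, h5, h5, ← MulOpposite.op_mul] at h7
    exact (MulOpposite.op_injective h7).symm
  obtain ⟨n, ρ, hρ, hχ⟩ := χ.2
  have hE : ρ.asAlgebraHom e * ρ.asAlgebraHom e = ρ.asAlgebraHom e := by rw [← map_mul, h3]
  have h7 := finrank_range_le_one_of_comm hρ hE fun g h => by
    simpa only [map_mul, Representation.asAlgebraHom_of, s] using
      congrArg ρ.asAlgebraHom (h6 (s g) (s h))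
  refine (cmult_eq_of ?_).trans_le h7
  rw [← (LinearMap.IsIdempotentElem.isProj_range _ hE).trace, ← charAlg_character, hχ, he, map_sum,
    classInner_def, Finset.mul_sum, Nat.card_eq_fintype_card]
  refine Finset.sum_congr rfl fun u _ => ?_
  rw [map_smul, MonoidAlgebra.of_apply, charAlg_single, conj_unitsHom, smul_eq_mul]
  ring

open Classical in
theorem sum_irr_mul_conj_eq_sum {G : Type u} [Group G] [Fintype G] (g h : G) :
    ∑ χ : IrrCharacter G, χ.1 g * conj (χ.1 h) = ∑ y : G, if y * g * y⁻¹ = h then (1 : ℂ) else 0 := by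
  rw [sum_irr_mul_conj, sum_conj_eq_card_centralizer_smul_filter
    (fun z => if z = h then (1 : ℂ) else 0) g, Finset.sum_ite_eq']
  simp

open Classical in
/-- the regular character -/
noncomputable def regFun (U : Type*) [Group U] (u : U) : ℂ := if u = 1 then Nat.card U else 0

theorem classInner_regFun {U : Type*} [Group U] [Fintype U] (α : U → ℂ) :
    classInner (regFun U) α = conj (α 1) := by
  rw [classInner_def, Finset.sum_eq_single 1 (fun u _ h => by simp [regFun, h]) (by simp)]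
  simp [regFun]

theorem IsCharacter.classInner_add_ne_zero {G : Type u} [Group G] [Fintype G] {φ φ' ψ : G → ℂ}
    (h : IsCharacter G φ) (h' : IsCharacter G φ') (hψ : IsCharacter G ψ)
    (h0 : classInner φ ψ ≠ 0) : classInner (φ + φ') ψ ≠ 0 := by
  rw [classInner_add_left, ← h.cast_cmult hψ, ← h'.cast_cmult hψ, ← Nat.cast_add, Nat.cast_ne_zero]
  have := (h.cmult_ne_zero_iff hψ).2 h0
  omega

/-- a split BN-pair of rank one, with unipotent group `U` and torus `T` -/
structure RankOne (G : Type u) (U T : Type*) [Group G] [Group U] [CommGroup T] where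
  x : U →* G
  h : T →* G
  act : T →* MulAut U
  n : G
  h_x : ∀ t u, h t * x u * (h t)⁻¹ = x (act t u)
  n_h : ∀ t, n⁻¹ * h t * n = h t⁻¹
  bruhat : ∀ g, (∃ u t, g = x u * h t) ∨ ∃ u u' t, g = x u * n * (x u' * h t)
  ti : ∀ u u' t, n⁻¹ * x u * n = x u' * h t → u = 1
  disj : ∀ u t, x u = h t → u = 1
  n_ne : ∀ u t, n ≠ x u * h t

namespace RankOne

variable {G : Type u} {U T : Type*} [Group G] [Group U] [CommGroup T] (D : RankOne G U T)

theorem h_mul_x (t : T) (u : U) : D.h t * D.x u = D.x (D.act t u) * D.h t := by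
  rw [← D.h_x, inv_mul_cancel_right]

/-- the Borel subgroup -/
def B : Subgroup G where
  carrier := {g | ∃ u t, g = D.x u * D.h t}
  one_mem' := ⟨1, 1, by simp⟩
  mul_mem' := by
    rintro _ _ ⟨u, t, rfl⟩ ⟨u', t', rfl⟩
    exact ⟨u * D.act t u', t * t', by
      rw [mul_assoc, ← mul_assoc (D.h t), h_mul_x, map_mul, map_mul]; simp only [mul_assoc]⟩
  inv_mem' := by
    rintro _ ⟨u, t, rfl⟩
    exact ⟨D.act t⁻¹ u⁻¹, t⁻¹, by rw [← h_mul_x, mul_inv_rev, map_inv, map_inv]⟩

theorem x_mem (u : U) : D.x u ∈ D.B := ⟨u, 1, by simp⟩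
theorem h_mem (t : T) : D.h t ∈ D.B := ⟨1, t, by simp⟩

theorem x_injective : Function.Injective D.x :=
  (injective_iff_map_eq_one _).2 fun u hu => D.disj u 1 (by rw [hu, map_one])

theorem eq_one_of_conj_mem {u : U} (hu : D.n⁻¹ * D.x u * D.n ∈ D.B) : u = 1 := by
  obtain ⟨u', t, h⟩ := hu
  exact D.ti u u' t h

theorem n_notMem : D.n ∉ D.B := fun ⟨u, t, h⟩ => D.n_ne u t h

/-- image under a surjection whose kernel lies in the torus -/
def map {G' : Type*} [Group G'] (f : G →* G') (hf : Function.Surjective f)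
    (hk : f.ker ≤ D.h.range) : RankOne G' U T where
  x := f.comp D.x
  h := f.comp D.h
  act := D.act
  n := f D.n
  h_x t u := by simp [← D.h_x]
  n_h t := by simpa using congrArg f (D.n_h t)
  bruhat g := by
    obtain ⟨g, rfl⟩ := hf g
    rcases D.bruhat g with ⟨u, t, rfl⟩ | ⟨u, u', t, rfl⟩
    · exact Or.inl ⟨u, t, by simp⟩
    · exact Or.inr ⟨u, u', t, by simp⟩
  ti u u' t h := by
    obtain ⟨s, hs⟩ := hk (x := (D.x u' * D.h t)⁻¹ * (D.n⁻¹ * D.x u * D.n))
      (by rw [MonoidHom.mem_ker, map_mul, map_inv, inv_mul_eq_one]; simpa using h.symm)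
    exact D.ti u u' (t * s) (by rw [map_mul, hs]; group)
  disj u t h := by
    obtain ⟨s, hs⟩ := hk (x := (D.h t)⁻¹ * D.x u) (by simpa [inv_mul_eq_one] using h.symm)
    exact D.disj u (t * s) (by rw [map_mul, hs]; group)
  n_ne u t h := by
    obtain ⟨s, hs⟩ := hk (x := (D.x u * D.h t)⁻¹ * D.n)
      (by rw [MonoidHom.mem_ker, map_mul, map_inv, inv_mul_eq_one]; simpa using h.symm)
    exact D.n_ne u (t * s) (by rw [map_mul, hs]; group)

def xB : U →* D.B := D.x.codRestrict _ D.x_mem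
def hB : T →* D.B := D.h.codRestrict _ D.h_mem

theorem exists_xB_mul_hB (b : D.B) : ∃ u t, b = D.xB u * D.hB t := by
  obtain ⟨_, u, t, rfl⟩ := b
  exact ⟨u, t, rfl⟩

theorem hB_mul_xB (t : T) (u : U) : D.hB t * D.xB u = D.xB (D.act t u) * D.hB t :=
  Subtype.ext (D.h_mul_x t u)

instance normal_range_xB : D.xB.range.Normal := ⟨by
  rintro _ ⟨v, rfl⟩ b
  obtain ⟨u, t, rfl⟩ := D.exists_xB_mul_hB b
  exact ⟨u * D.act t v * u⁻¹, by
    rw [mul_assoc (D.xB u), hB_mul_xB, map_mul, map_mul, map_inv]; group⟩⟩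

theorem commutator_le_range_xB : commutator D.B ≤ D.xB.range := by
  rw [← Subgroup.Normal.quotient_commutative_iff_commutator_le]
  refine ⟨⟨fun a b => ?_⟩⟩
  obtain ⟨a, rfl⟩ := QuotientGroup.mk_surjective a
  obtain ⟨b, rfl⟩ := QuotientGroup.mk_surjective b
  obtain ⟨u, t, rfl⟩ := D.exists_xB_mul_hB a
  obtain ⟨u', t', rfl⟩ := D.exists_xB_mul_hB b
  have h1 : ∀ u, (D.xB u : D.B ⧸ D.xB.range) = 1 := fun u =>
    (QuotientGroup.eq_one_iff _).2 ⟨u, rfl⟩
  simp only [QuotientGroup.mk_mul, h1, one_mul]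
  rw [← QuotientGroup.mk_mul, ← QuotientGroup.mk_mul, ← map_mul, ← map_mul, mul_comm]

variable [Fintype G] [Fintype U] [Fintype T]

theorem sum_B [Fintype D.B] (f : G → ℂ) :
    (Nat.card D.h.ker : ℂ) * ∑ b : D.B, f b = ∑ u, ∑ t, f (D.x u * D.h t) := by
  haveI := Fintype.ofFinite D.h.range
  have h1 : ∑ b : D.B, f b = ∑ u, ∑ t : D.h.range, f (D.x u * t) := by
    rw [← Fintype.sum_prod_type']
    refine (Fintype.sum_bijective (fun a : U × D.h.range => (⟨D.x a.1 * a.2, by
      obtain ⟨t, ht⟩ := a.2.2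
      exact ⟨a.1, t, by rw [ht]⟩⟩ : D.B)) ⟨?_, ?_⟩ _ _ fun _ => rfl).symm
    · rintro ⟨u, _, t, rfl⟩ ⟨u', _, t', rfl⟩ h
      have h1 : D.x u * D.h t = D.x u' * D.h t' := congrArg Subtype.val h
      obtain rfl : u = u' := (inv_mul_eq_one.1 (D.disj (u'⁻¹ * u) (t' * t⁻¹) (by
        rw [map_mul, map_mul, map_inv, map_inv, inv_mul_eq_iff_eq_mul, ← mul_assoc, ← h1,
          mul_inv_cancel_right]))).symm
      exact Prod.ext rfl (Subtype.ext (mul_left_cancel h1))
    · rintro ⟨_, u, t, rfl⟩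
      exact ⟨(u, ⟨_, t, rfl⟩), rfl⟩
  rw [h1, Finset.mul_sum]
  refine Finset.sum_congr rfl fun u _ => ?_
  rw [← MonoidHom.ker_rangeRestrict, ← nsmul_eq_mul, ← sum_comp_monoidHom_surjective _
    D.h.rangeRestrict_surjective]
  rfl

theorem card_B : (Nat.card D.h.ker : ℂ) * Nat.card D.B = Fintype.card U * Fintype.card T := by
  haveI := Fintype.ofFinite D.B
  simpa using D.sum_B fun _ => 1

theorem sum_G [Fintype D.B] (f : G → ℂ) :
    ∑ g, f g = ∑ b : D.B, f b + ∑ u, ∑ b : D.B, f (D.x u * D.n * b) := by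
  rw [← Fintype.sum_prod_type']
  refine Eq.trans ?_ (Fintype.sum_sum_type (fun a : D.B ⊕ U × D.B =>
    f (a.elim (fun b : D.B => (b : G)) fun a : U × D.B => D.x a.1 * D.n * a.2)))
  have h0 : ∀ u (b : D.B), D.x u * D.n * b ∉ D.B := fun u b h => D.n_notMem (by
    simpa [mul_assoc] using
      D.B.mul_mem (D.B.mul_mem (D.B.inv_mem (D.x_mem u)) h) (D.B.inv_mem b.2))
  refine (Fintype.sum_bijective (fun a : D.B ⊕ U × D.B =>
    (a.elim (fun b : D.B => (b : G)) fun a : U × D.B => D.x a.1 * D.n * a.2))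
    ⟨?_, fun g => ?_⟩ _ _ fun _ => rfl).symm
  · rintro (b | ⟨u, b⟩) (b' | ⟨u', b'⟩) h
    · exact congrArg _ (Subtype.ext h)
    · exact absurd ((show (b : G) = D.x u' * D.n * b' from h) ▸ b.2) (h0 u' b')
    · exact absurd ((show D.x u * D.n * b = (b' : G) from h) ▸ b'.2) (h0 u b)
    · have h1 : D.x u * D.n * b = D.x u' * D.n * b' := h
      obtain rfl : u = u' := (inv_mul_eq_one.1 (D.eq_one_of_conj_mem (u := u'⁻¹ * u) (by
        rw [show D.n⁻¹ * D.x (u'⁻¹ * u) * D.n = b' * (b : G)⁻¹ by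
          rw [map_mul, map_inv, eq_mul_inv_iff_mul_eq, mul_assoc, mul_assoc, mul_assoc,
            ← mul_assoc (D.x u), h1]; group]
        exact D.B.mul_mem b'.2 (D.B.inv_mem b.2)))).symm
      rw [Subtype.ext (mul_left_cancel h1 : (b : G) = b')]
  · rcases D.bruhat g with h | ⟨u, u', t, h⟩
    · exact ⟨Sum.inl ⟨g, h⟩, rfl⟩
    · exact ⟨Sum.inr (u, ⟨_, u', t, rfl⟩), h.symm⟩

theorem card_ker_ne_zero : (Nat.card D.h.ker : ℂ) ≠ 0 := Nat.cast_ne_zero.2 Nat.card_pos.ne'

theorem card_G : (Nat.card D.h.ker : ℂ) * Nat.card G =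
    Fintype.card U * Fintype.card T * (Fintype.card U + 1) := by
  haveI := Fintype.ofFinite D.B
  have h1 := D.sum_G fun _ => 1
  simp only [Finset.sum_const, Finset.card_univ, nsmul_eq_mul, mul_one,
    ← Nat.card_eq_fintype_card (α := D.B), ← Nat.card_eq_fintype_card (α := G)] at h1
  rw [h1, ← D.card_B]
  ring

/-- the inner product of two induced class functions of `U` -/
theorem sum_classInner_mul {α β : U → ℂ} (hβ : IsClassFunction U β) :
    (Nat.card D.h.ker : ℂ) * ∑ χ : IrrCharacter G,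
      classInner (fun u => χ.1 (D.x u)) α * conj (classInner (fun u => χ.1 (D.x u)) β) =
      ∑ t, classInner (fun u => β (D.act t u)) α + Fintype.card T * (conj (α 1) * β 1) := by
  classical
  have hU : (Fintype.card U : ℂ) ≠ 0 := by simp
  have h1 : ∀ u v, (Nat.card D.h.ker : ℂ) * ∑ χ : IrrCharacter G,
      χ.1 (D.x u) * conj (χ.1 (D.x v)) =
      (∑ w, ∑ t, if w * D.act t u * w⁻¹ = v then (1 : ℂ) else 0) + if v = 1 then
        if u = 1 then (Fintype.card U : ℂ) * (Fintype.card U * Fintype.card T) else 0 else 0 := by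
    intro u v
    rw [sum_irr_mul_conj_eq_sum, D.sum_G, mul_add,
      D.sum_B fun y => if y * D.x u * y⁻¹ = D.x v then (1 : ℂ) else 0]
    congr 1
    · refine Finset.sum_congr rfl fun w _ => Finset.sum_congr rfl fun t _ => if_congr ?_ rfl rfl
      rw [← D.x_injective.eq_iff, map_mul, map_mul, ← D.h_x, map_inv, mul_inv_rev]
      simp only [mul_assoc]
    · have h2 : ∀ w (b : D.B), D.x w * D.n * b * D.x u * (D.x w * D.n * b)⁻¹ = D.x v ↔
          v = 1 ∧ u = 1 := fun w b => by
        constructor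
        · intro h
          have h3 : v = 1 := by
            have := D.eq_one_of_conj_mem (u := w⁻¹ * v * w) (by
              rw [map_mul, map_mul, map_inv, ← h, show D.n⁻¹ * ((D.x w)⁻¹ * (D.x w * D.n * b *
                D.x u * (D.x w * D.n * b)⁻¹) * D.x w) * D.n = b * D.x u * (b : G)⁻¹ by group]
              exact D.B.mul_mem (D.B.mul_mem b.2 (D.x_mem u)) (D.B.inv_mem b.2))
            simpa [mul_assoc] using congrArg (w * · * w⁻¹) this
          rw [h3, map_one, mul_inv_eq_one, mul_eq_left] at h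
          exact ⟨h3, D.x_injective (h.trans (map_one _).symm)⟩
        · rintro ⟨rfl, rfl⟩
          simp
      simp only [h2, Finset.sum_const, Finset.card_univ, nsmul_eq_mul,
        ← Nat.card_eq_fintype_card (α := D.B), ← D.card_B]
      split_ifs <;> simp_all
      ring
  have h2 : ∀ χ : IrrCharacter G,
      classInner (fun u => χ.1 (D.x u)) α * conj (classInner (fun u => χ.1 (D.x u)) β) =
      ∑ u, ∑ v, ((Fintype.card U : ℂ)⁻¹ ^ 2 * (conj (α u) * β v)) *
        (χ.1 (D.x u) * conj (χ.1 (D.x v))) := fun χ => by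
    rw [conj_classInner, classInner_def, classInner_def, mul_mul_mul_comm, Finset.sum_mul_sum,
      Finset.mul_sum, Nat.card_eq_fintype_card]
    refine Finset.sum_congr rfl fun u _ => ?_
    rw [Finset.mul_sum]
    exact Finset.sum_congr rfl fun v _ => by ring
  rw [Finset.sum_congr rfl fun χ _ => h2 χ, Finset.sum_comm, Finset.mul_sum]
  have h3 : ∀ u, (Nat.card D.h.ker : ℂ) * ∑ χ : IrrCharacter G, ∑ v, ((Fintype.card U : ℂ)⁻¹ ^ 2 *
      (conj (α u) * β v)) * (χ.1 (D.x u) * conj (χ.1 (D.x v))) =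
      (∑ t, (Fintype.card U : ℂ)⁻¹ * (β (D.act t u) * conj (α u))) +
        if u = 1 then (Fintype.card T : ℂ) * (conj (α u) * β 1) else 0 := fun u => by
    rw [Finset.sum_comm, Finset.mul_sum, Finset.sum_congr rfl fun v _ => by
      rw [← Finset.mul_sum, mul_left_comm, h1, mul_add], Finset.sum_add_distrib]
    congr 1
    · simp only [Finset.mul_sum, mul_ite, mul_one, mul_zero]
      rw [Finset.sum_comm, Finset.sum_congr rfl fun w _ => Finset.sum_comm]
      simp only [Finset.sum_ite_eq, Finset.mem_univ, if_true, hβ _ _, Finset.sum_const,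
        Finset.card_univ, nsmul_eq_mul, Finset.mul_sum]
      exact Finset.sum_congr rfl fun t _ => by field_simp
    · simp only [mul_ite, mul_zero, Finset.sum_ite_eq', Finset.mem_univ, if_true]
      split_ifs
      · field_simp
      · rfl
  rw [Finset.sum_congr rfl fun u _ => h3 u, Finset.sum_add_distrib, Finset.sum_ite_eq',
    if_pos (Finset.mem_univ _), Finset.sum_comm]
  simp only [classInner_def, Finset.mul_sum, Nat.card_eq_fintype_card]

/-- multiplicity of `α` in the restriction to `U` -/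
noncomputable def m (α : U → ℂ) (χ : G → ℂ) : ℕ := cmult (fun u => χ (D.x u)) α

theorem cast_m {α : U → ℂ} (hα : IsCharacter U α) {χ : G → ℂ} (hχ : IsCharacter G χ) :
    (D.m α χ : ℂ) = classInner (fun u => χ (D.x u)) α := (hχ.comp D.x).cast_cmult hα

theorem m_add {α : U → ℂ} (hα : IsCharacter U α) {χ ψ : G → ℂ} (hχ : IsCharacter G χ)
    (hψ : IsCharacter G ψ) : D.m α (χ + ψ) = D.m α χ + D.m α ψ :=
  cmult_eq_of (by rw [Nat.cast_add, D.cast_m hα hχ, D.cast_m hα hψ, ← classInner_add_left]; rfl)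

theorem m_eq_of_reg {α : U → ℂ} (hα : IsCharacter U α) {χ : G → ℂ}
    (h : ∀ u, χ (D.x u) = regFun U u) : D.m α χ = charDegree α :=
  cmult_eq_of (by rw [funext h, classInner_regFun, hα.one_eq_charDegree, map_natCast])

theorem m_eq_of_prin {α : U → ℂ} (hα : IsCharacter U α) {χ : G → ℂ}
    (h : ∀ u, χ (D.x u) = 1 + regFun U u) : D.m α χ = cmult (fun _ => 1) α + charDegree α :=
  cmult_eq_of (by
    rw [funext h, Nat.cast_add, IsCharacter.one.cast_cmult hα, ← map_natCast conj (charDegree α),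
      ← hα.one_eq_charDegree, ← classInner_regFun, ← classInner_add_left]; rfl)

theorem indFun_B (l : D.B →* ℂˣ) (g : G) : indFun D.B (fun b => l b) g =
    extendByZero D.B (fun b => l b) g +
      ∑ u, extendByZero D.B (fun b => l b) (D.n⁻¹ * ((D.x u)⁻¹ * g * D.x u) * D.n) := by
  haveI := Fintype.ofFinite D.B
  have h1 : ∀ (b : D.B) (y : G), extendByZero D.B (fun b => (l b : ℂ)) ((b : G)⁻¹ * y * b) =
      extendByZero D.B (fun b => l b) y := fun b y => by
    simpa using (isCharacter_unitsHom l).isClassFunction.extendByZero_conj (D.B.inv_mem b.2) y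
  have h2 : ∀ u (b : D.B), (D.x u * D.n * b)⁻¹ * g * (D.x u * D.n * b) =
      (b : G)⁻¹ * (D.n⁻¹ * ((D.x u)⁻¹ * g * D.x u) * D.n) * b := fun u b => by group
  have h3 : (Fintype.card D.B : ℂ) ≠ 0 := by simp
  simp only [indFun_apply, D.sum_G, h2, h1, Finset.sum_const, Finset.card_univ, nsmul_eq_mul,
    Nat.card_eq_fintype_card, ← Finset.mul_sum]
  field_simp

variable {D} {l : D.B →* ℂˣ}

theorem extend_conj (v : U) (t : T) : extendByZero D.B (fun b => (l b : ℂ))
    (D.n⁻¹ * (D.x v * D.h t) * D.n) = regFun U v / Nat.card U * l (D.hB t⁻¹) := by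
  have h1 : D.n⁻¹ * (D.x v * D.h t) * D.n = D.n⁻¹ * D.x v * D.n * D.h t⁻¹ := by
    rw [← D.n_h]; group
  rw [h1, regFun]
  split_ifs with h
  · rw [h, map_one, mul_one, inv_mul_cancel, one_mul, div_self (by simp), one_mul]
    exact extendByZero_coe D.B _ (D.hB t⁻¹)
  · rw [zero_div, zero_mul]
    exact extendByZero_of_not_mem _ _ fun h' => h (D.eq_one_of_conj_mem
      ((D.B.mul_mem_cancel_right (D.h_mem _)).1 h'))

theorem indFun_x (hl : ∀ u, l (D.xB u) = 1) (v : U) :
    indFun D.B (fun b => l b) (D.x v) = 1 + regFun U v := by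
  have h1 : ∀ u, extendByZero D.B (fun b => (l b : ℂ))
      (D.n⁻¹ * ((D.x u)⁻¹ * D.x v * D.x u) * D.n) = regFun U v / Nat.card U := fun u => by
    have := extend_conj (l := l) (u⁻¹ * v * u) 1
    simp only [map_mul, map_inv, map_one, mul_one, inv_one, Units.val_one] at this
    have h2 : u⁻¹ * v * u = 1 ↔ v = 1 := by
      rw [mul_assoc, inv_mul_eq_one, eq_comm, mul_eq_right]
    rw [this, regFun, regFun, h2]
  rw [indFun_B, show extendByZero D.B (fun b => (l b : ℂ)) (D.x v) = l (D.xB v) from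
    extendByZero_coe D.B _ (D.xB v), hl]
  simp only [h1, Finset.sum_const, Finset.card_univ, nsmul_eq_mul, Nat.card_eq_fintype_card,
    Units.val_one]
  rw [mul_div_cancel₀ _ (by simp)]

theorem classInner_indFun (hl : ∀ u, l (D.xB u) = 1) {t₀ : T} (h : l (D.hB t₀) ^ 2 ≠ 1) :
    classInner (indFun D.B fun b => l b) (indFun D.B fun b => l b) = 1 := by
  haveI := Fintype.ofFinite D.B
  have h1 : ∀ u, ∑ b : D.B, extendByZero D.B (fun b => (l b : ℂ))
      (D.n⁻¹ * ((D.x u)⁻¹ * b * D.x u) * D.n) * conj (l b : ℂ) = 0 := fun u => by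
    rw [← Equiv.sum_comp (MulAut.conj (D.xB u)).toEquiv]
    refine (mul_eq_zero.1 ?_).resolve_left D.card_ker_ne_zero
    have h2 := D.sum_B fun y => extendByZero D.B (fun b => (l b : ℂ)) (D.n⁻¹ * y * D.n) *
      conj (extendByZero D.B (fun b => (l b : ℂ)) y)
    have h3 : ∀ v t, extendByZero D.B (fun b => (l b : ℂ)) (D.x v * D.h t) = l (D.hB t) :=
      fun v t => by
        rw [← one_mul (l (D.hB t)), ← hl v, ← map_mul]
        exact extendByZero_coe D.B _ (D.xB v * D.hB t)
    have h4 : ∑ t, (l (D.hB t⁻¹) : ℂ) * conj (l (D.hB t) : ℂ) = 0 := by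
      have := sum_hom_units_eq_zero ((Units.coeHom ℂ).comp (((l.comp D.hB) ^ 2)⁻¹)) fun h' => h (by
        simpa [-sq_eq_one_iff, ← Units.val_pow_eq_pow_val] using
          congrArg (fun f : T →* ℂ => f t₀⁻¹) h')
      simpa [conj_unitsHom, sq] using this
    simp only [extend_conj, h3, mul_assoc (_ / _ : ℂ), ← Finset.mul_sum, h4, mul_zero,
      Finset.sum_const_zero, extendByZero_coe] at h2
    rw [← h2]
    congr 1
    refine Finset.sum_congr rfl fun b _ => ?_
    simp [mul_assoc, xB, mul_comm (l b)]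
  rw [classInner_indFun_right _ _ (indFun_isClassFunction _ _)]
  simp only [indFun_B, extendByZero_coe]
  rw [← (IrrCharacter.ofHom l).classInner_self, classInner_def, classInner_def]
  simp only [add_mul, Finset.sum_add_distrib, Finset.sum_mul]
  rw [Finset.sum_comm]
  simp only [h1, Finset.sum_const_zero, add_zero, IrrCharacter.ofHom_apply]

theorem m_ne_zero_of_add (hl : ∀ u, l (D.xB u) = 1) {φ φ' : G → ℂ} (h : IsCharacter G φ)
    (h' : IsCharacter G φ') (he : φ + φ' = indFun D.B fun b => l b) (h0 : φ ≠ 0) :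
    D.m (fun _ => 1) φ ≠ 0 := by
  haveI := Fintype.ofFinite D.B
  obtain ⟨ξ, hξ⟩ := h.exists_irr_constituent h0
  have h1 := h.classInner_add_ne_zero h' ξ.isCharacter hξ
  rw [he, (isCharacter_unitsHom l).classInner_indFun_eq_res ξ.isCharacter] at h1
  refine ((h.comp D.x).cmult_ne_zero_iff IsCharacter.one).2
    (h.classInner_comp_ne_zero D.x ξ IsCharacter.one hξ ((ξ.isCharacter.res D.B).classInner_comp_ne_zero
      D.xB (IrrCharacter.ofHom l) IsCharacter.one h1 ?_))
  simp [hl, classInner_def]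

theorem isIrr_of_add (hl : ∀ u, l (D.xB u) = 1) {φ φ' : G → ℂ} (h : IsCharacter G φ)
    (h' : IsCharacter G φ') (he : φ + φ' = indFun D.B fun b => l b) (h0 : φ ≠ 0) (h0' : φ' ≠ 0) :
    IsIrrCharacter G φ ∧ D.m (fun _ => 1) φ = 1 := by
  have h1 : D.m (fun _ => 1) φ + D.m (fun _ => 1) φ' = 2 := by
    rw [← D.m_add IsCharacter.one h h', he, D.m_eq_of_prin IsCharacter.one (indFun_x hl),
      cmult_eq_of (n := 1) (by simp [classInner_def]), charDegree_eq_of_one_eq (n := 1) (by simp)]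
  have h2 := m_ne_zero_of_add hl h' h ((add_comm _ _).trans he) h0'
  obtain ⟨ξ, hξ⟩ := h.exists_irr_constituent h0
  have h3 := h.sub_irr ξ hξ
  have h4 := m_ne_zero_of_add hl ξ.isCharacter (h3.add h') (by rw [← he]; abel)
    fun h => ξ.one_ne_zero (congrFun h 1)
  have h5 := D.m_add IsCharacter.one h3 ξ.isCharacter
  rw [sub_add_cancel] at h5
  by_cases h6 : φ - ξ.1 = 0
  · exact ⟨sub_eq_zero.1 h6 ▸ ξ.2, by omega⟩
  · have := m_ne_zero_of_add hl h3 (ξ.isCharacter.add h') (by rw [← he]; abel) h6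
    omega

variable (D)

theorem exists_prin {t : T} (ht : D.h (t ^ 2) ≠ 1) :
    ∃ χ : IrrCharacter G, ∀ u, χ.1 (D.x u) = 1 + regFun U u := by
  obtain ⟨l, hl, h⟩ := exists_unitsHom_le_ker_ne_one D.commutator_le_range_xB
    (g := D.hB (t ^ 2)) fun ⟨u, hu⟩ => ht (by
      have h1 : D.x u = D.h (t ^ 2) := congrArg Subtype.val hu
      rw [← h1, D.disj _ _ h1, map_one])
  have h1 : ∀ u, l (D.xB u) = 1 := fun u => hl ⟨u, rfl⟩
  exact ⟨⟨_, (isCharacter_unitsHom l).indFun.isIrr_iff.2
    (classInner_indFun h1 (t₀ := t) (by rwa [← map_pow, ← map_pow]))⟩, indFun_x h1⟩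

/-- the Steinberg character and the principal series -/
theorem exists_St : ∃ St : IrrCharacter G, (∀ u, St.1 (D.x u) = regFun U u) ∧
    ∀ χ : IrrCharacter G, D.m (fun _ => 1) χ.1 ≠ 0 → (∀ u, χ.1 (D.x u) = 1 + regFun U u) ∨
      χ = IrrCharacter.triv G ∨ χ = St ∨ ∃ χ' : IrrCharacter G, χ ≠ IrrCharacter.triv G ∧
        χ' ≠ IrrCharacter.triv G ∧ D.m (fun _ => 1) χ.1 = 1 ∧
        (∀ u, (χ.1 + χ'.1) (D.x u) = 1 + regFun U u) ∧
        ∃ μ : T →* ℂˣ, μ ≠ 1 ∧ ∀ t, μ t ^ 2 = 1 := by
  haveI := Fintype.ofFinite D.B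
  have h1 : ∀ l : D.B →* ℂˣ, classInner (indFun D.B fun b => l b) (IrrCharacter.triv G).1 ≠ 0 ↔
      l = 1 := fun l => by
    rw [classInner_indFun_left _ _ (IrrCharacter.triv G).isClassFunction]
    refine ⟨fun h => IrrCharacter.ofHom_injective (IrrCharacter.eq_of_classInner_ne_zero h), ?_⟩
    rintro rfl
    simp [classInner_def]
  have h2 := (isCharacter_unitsHom (1 : D.B →* ℂˣ)).indFun.sub_irr _ ((h1 1).2 rfl)
  have h3 : ∀ u, ((indFun D.B fun b => (1 : D.B →* ℂˣ) b) - (IrrCharacter.triv G).1) (D.x u) =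
      regFun U u := fun u => by
    rw [Pi.sub_apply, indFun_x (fun _ => rfl), IrrCharacter.triv_apply, add_sub_cancel_left]
  have h4 : ∀ χ : IrrCharacter G, χ.1 ≠ 0 := fun χ h => χ.one_ne_zero (congrFun h 1)
  obtain ⟨h5, -⟩ := isIrr_of_add (l := 1) (fun _ => rfl) h2 (IrrCharacter.triv G).isCharacter
    (sub_add_cancel _ _) (fun h => by have := h3 1; rw [h] at this; simpa [regFun] using this.symm)
    (h4 _)
  refine ⟨⟨_, h5⟩, h3, fun χ h => ?_⟩
  obtain ⟨ξ, h6, h7⟩ : ∃ ξ : IrrCharacter D.B, classInner (fun b : D.B => χ.1 b) ξ.1 ≠ 0 ∧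
      classInner (fun u => ξ.1 (D.xB u)) (fun _ => 1) ≠ 0 := by
    rw [m, (χ.isCharacter.comp D.x).cmult_ne_zero_iff IsCharacter.one,
      show (fun u => χ.1 (D.x u)) = ∑ ξ : IrrCharacter D.B,
        classInner (fun b : D.B => χ.1 b) ξ.1 • fun u => ξ.1 (D.xB u) from funext fun u => by
          rw [Finset.sum_apply]
          exact (χ.isClassFunction.res D.B).eq_sum_irr (D.xB u), classInner_sum_left] at h
    obtain ⟨ξ, -, h⟩ := Finset.exists_ne_zero_of_sum_ne_zero h
    exact ⟨ξ, by simpa only [classInner_smul_left, mul_ne_zero_iff] using h⟩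
  haveI := Fintype.ofFinite D.xB.range
  have h8 : D.xB.range ≤ charKer ξ.1 := (ξ.le_charKer_iff_classInner_ne_zero _).2 (by
    rwa [← classInner_comp_surjective _ D.xB.rangeRestrict_surjective])
  obtain ⟨l, rfl⟩ := ξ.exists_eq_ofHom
    (ξ.charDegree_eq_one_of_le_charKer D.commutator_le_range_xB h8)
  rw [IrrCharacter.charKer_ofHom] at h8
  have hl : ∀ u, l (D.xB u) = 1 := fun u => h8 ⟨u, rfl⟩
  have h9 := (isCharacter_unitsHom l).indFun.sub_irr χ (by
    rwa [(isCharacter_unitsHom l).classInner_indFun_eq_res χ.isCharacter])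
  by_cases h10 : (indFun D.B fun b => l b) - χ.1 = 0
  · exact Or.inl (sub_eq_zero.1 h10 ▸ indFun_x hl)
  obtain ⟨χ', he⟩ : ∃ χ' : IrrCharacter G, χ.1 + χ'.1 = indFun D.B fun b => l b :=
    ⟨⟨_, (isIrr_of_add hl h9 χ.isCharacter (sub_add_cancel _ _) h10 (h4 _)).1⟩,
      add_sub_cancel _ _⟩
  have h11 := χ.isCharacter.classInner_add_ne_zero χ'.isCharacter χ.isCharacter
    (by rw [χ.classInner_self]; exact one_ne_zero)
  by_cases h12 : l = 1
  · subst h12
    by_contra h13
    push Not at h13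
    refine h11 ?_
    rw [he, ← sub_add_cancel (indFun _ _) (IrrCharacter.triv G).1, classInner_add_left,
      IrrCharacter.classInner_of_ne h13.2.1.symm, add_zero]
    exact IrrCharacter.classInner_of_ne (χ := ⟨_, h5⟩) h13.2.2.1.symm
  refine Or.inr (Or.inr (Or.inr ⟨χ', fun h => h12 ((h1 l).1 ?_), fun h => h12 ((h1 l).1 ?_),
    (isIrr_of_add hl χ.isCharacter χ'.isCharacter he (h4 _) (h4 _)).2, fun u => ?_,
    l.comp D.hB, fun h => h12 (MonoidHom.ext fun b => ?_), fun t => ?_⟩))
  · rw [← he, ← h]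
    exact h11
  · rw [← he, ← h, add_comm χ.1]
    exact χ'.isCharacter.classInner_add_ne_zero χ.isCharacter χ'.isCharacter
      (by rw [χ'.classInner_self]; exact one_ne_zero)
  · rw [he, indFun_x hl]
  · obtain ⟨u, t, rfl⟩ := D.exists_xB_mul_hB b
    rw [map_mul, hl, one_mul]
    exact DFunLike.congr_fun h t
  · by_contra h13
    have h15 : IsIrrCharacter G _ :=
      (isCharacter_unitsHom l).indFun.isIrr_iff.2 (classInner_indFun hl h13)
    rw [he] at h11
    exact h10 (sub_eq_zero.2 (congrArg Subtype.val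
      (IrrCharacter.eq_of_classInner_ne_zero (χ := ⟨_, h15⟩) h11)))

theorem sum_m_mul {α β : U → ℂ} (hα : IsCharacter U α) (hβ : IsCharacter U β) :
    Nat.card D.h.ker * ∑ χ : IrrCharacter G, D.m α χ.1 * D.m β χ.1 =
      ∑ t, cmult (fun u => β (D.act t u)) α + Fintype.card T * (charDegree α * charDegree β) := by
  have h1 := D.sum_classInner_mul (α := α) hβ.isClassFunction
  simp only [← D.cast_m hα (IrrCharacter.isCharacter _), ← D.cast_m hβ (IrrCharacter.isCharacter _),
    map_natCast, hα.one_eq_charDegree, hβ.one_eq_charDegree,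
    show ∀ t, classInner (fun u => β (D.act t u)) α = cmult (fun u => β (D.act t u)) α from
      fun t => ((hβ.comp (D.act t).toMonoidHom).cast_cmult hα).symm] at h1
  exact_mod_cast h1

theorem cmult_act_eq_zero {α β : IrrCharacter U} {t : T} (h : ¬ ∀ u, β.1 (D.act t u) = α.1 u) :
    cmult (fun u => β.1 (D.act t u)) α.1 = 0 :=
  cmult_eq_of ((IrrCharacter.classInner_of_ne
    (χ := β.comap (D.act t).toMonoidHom (D.act t).surjective)
      fun h' => h (congrFun (congrArg Subtype.val h'))).trans Nat.cast_zero.symm)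

theorem sum_m_mul_of_ne {α β : IrrCharacter U} (h : ∀ t, ¬ ∀ u, β.1 (D.act t u) = α.1 u) :
    Nat.card D.h.ker * ∑ χ : IrrCharacter G, D.m α.1 χ.1 * D.m β.1 χ.1 =
      Fintype.card T * (charDegree α.1 * charDegree β.1) := by
  rw [D.sum_m_mul α.isCharacter β.isCharacter,
    Finset.sum_eq_zero fun t _ => D.cmult_act_eq_zero (h t), zero_add]

theorem sum_m_mul_self {α : IrrCharacter U} (h : ∀ t, (∀ u, α.1 (D.act t u) = α.1 u) → t = 1) :
    Nat.card D.h.ker * ∑ χ : IrrCharacter G, D.m α.1 χ.1 * D.m α.1 χ.1 =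
      1 + Fintype.card T * (charDegree α.1 * charDegree α.1) := by
  rw [D.sum_m_mul α.isCharacter α.isCharacter, Finset.sum_eq_single 1
    (fun t _ ht => D.cmult_act_eq_zero fun h' => ht (h t h')) (by simp),
    cmult_eq_of (n := 1) (by simpa using α.classInner_self)]

theorem m_le_one (ψ : U →* ℂˣ) (τ : G → G) (hτ : ∀ g h, τ (g * h) = τ h * τ g) (σ : U ≃ U)
    (hσ : ∀ u, τ (D.x u) = D.x (σ u)) (hψ : ∀ u, ψ (σ u) = ψ u)
    (hn : ∀ t, τ (D.n * D.h t) = D.n * D.h t)
    (ht : ∀ t, τ (D.h t) = D.h t ∨ ∃ u, ψ (D.act t u) ≠ ψ u) (χ : IrrCharacter G) :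
    D.m (fun u => ψ u) χ.1 ≤ 1 := by
  refine cmult_le_one_of_gelfand D.x ψ τ hτ σ hσ hψ (fun g => ?_) χ
  rcases D.bruhat g with ⟨u, t, rfl⟩ | ⟨u, u', t, rfl⟩
  · exact ⟨u, D.h t, 1, by simp, (ht t).imp_right fun ⟨v, hv⟩ =>
      ⟨_, v, (D.h_mul_x t v).symm, hv⟩⟩
  · exact ⟨u, D.n * D.h t, D.act t⁻¹ u', by simp [mul_assoc, h_mul_x], Or.inl (hn t)⟩

theorem m_act {α : U → ℂ} (t : T) {χ : G → ℂ} (hχ : IsClassFunction G χ) :
    D.m (fun u => α (D.act t u)) χ = D.m α χ := by
  rw [m, m, cmult, cmult, ← classInner_comp_mulEquiv (D.act t) _ α]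
  simp only [← D.h_x, hχ _ _]

theorem eq_triv (gen : ∀ K : Subgroup G, K.Normal → (∀ u, D.x u ∈ K) → K = ⊤)
    {χ : IrrCharacter G} (h1 : charDegree χ.1 = 1) (h2 : D.m (fun _ => 1) χ.1 ≠ 0) :
    χ = IrrCharacter.triv G := by
  have h3 := IrrCharacter.eq_of_classInner_ne_zero (ψ := IrrCharacter.triv U)
    (χ := ⟨_, (χ.isCharacter.comp D.x).isIrr_of_charDegree_eq_one (by rwa [charDegree_comp])⟩)
    (((χ.isCharacter.comp D.x).cmult_ne_zero_iff IsCharacter.one).1 h2)
  refine χ.charKer_eq_top_iff.1 (gen _ inferInstance fun u => χ.mem_charKer.2 ?_)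
  rw [χ.one_eq_charDegree, h1, Nat.cast_one]
  exact congrFun (congrArg Subtype.val h3) u

end RankOne

section FieldChar

variable {F : Type*} [Field F] [Fintype F]

/-- the additive characters of a finite field -/
noncomputable def fchar (a : F) : Multiplicative F →* ℂˣ :=
  ((AddChar.FiniteField.primitiveChar_to_Complex F).mulShift a).toMonoidHom.toHomUnits

theorem coe_fchar (a : F) (u : Multiplicative F) :
    (fchar a u : ℂ) = AddChar.FiniteField.primitiveChar_to_Complex F (a * u.toAdd) := rfl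

theorem fchar_zero : fchar (0 : F) = 1 := by
  ext u
  simp [coe_fchar]

theorem sum_fchar [DecidableEq F] (u : Multiplicative F) :
    ∑ a : F, (fchar a u : ℂ) = if u = 1 then (Fintype.card F : ℂ) else 0 := by
  simpa [coe_fchar] using AddChar.sum_mulShift u.toAdd
    (AddChar.FiniteField.primitiveChar_to_Complex_isPrimitive F)

theorem fchar_injective : Function.Injective (fchar : F → _) := fun a b h => by
  by_contra h1
  refine AddChar.FiniteField.primitiveChar_to_Complex_isPrimitive F (sub_ne_zero.2 h1) ?_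
  ext u
  have h2 := congrArg (fun f : Multiplicative F →* ℂˣ => (f (Multiplicative.ofAdd u) : ℂ)) h
  simp only [coe_fchar, toAdd_ofAdd] at h2
  rw [AddChar.mulShift_apply, sub_mul, AddChar.map_sub_eq_div, h2, AddChar.one_apply]
  exact div_self (fchar b (Multiplicative.ofAdd u)).ne_zero

theorem sum_classInner_fchar (f : Multiplicative F → ℂ) :
    ∑ a : F, classInner f (fun u => fchar a u) = f 1 := by
  classical
  simp only [classInner_def, ← Finset.mul_sum]
  rw [Finset.sum_comm]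
  simp [← Finset.mul_sum, ← map_sum, sum_fchar, apply_ite conj, mul_comm (f 1)]

theorem two_mul_sum_eq_of_sq {M : F → ℕ} (hM : ∀ (a : F) (t : Fˣ), M (a * t ^ 2) = M a) {ε : Fˣ}
    (hε : ∀ t, t ∈ Submonoid.powers ε) :
    2 * ∑ a, M a = 2 * M 0 + (Fintype.card F - 1) * (M 1 + M ε) := by
  classical
  have h1 : ∀ t : Fˣ, M t + M (t * ε : Fˣ) = M 1 + M ε := fun t => by
    obtain ⟨k, rfl⟩ := hε t
    induction k with
    | zero => simp
    | succ k ih =>
      rw [← ih, add_comm, ← hM (ε ^ k : Fˣ) ε]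
      simp [pow_succ, mul_assoc]
  have h2 : ∑ a, M a = M 0 + ∑ t : Fˣ, M t := by
    rw [← Equiv.sum_comp (Equiv.optionSubtypeNe (0 : F)), Fintype.sum_option,
      ← Equiv.sum_comp unitsEquivNeZero]
    rfl
  rw [h2, mul_add, two_mul (∑ t : Fˣ, M t)]
  nth_rewrite 2 [← Equiv.sum_comp (Equiv.mulRight ε)]
  rw [← Finset.sum_add_distrib]
  simp only [Equiv.coe_mulRight, h1, Finset.sum_const, Finset.card_univ, Fintype.card_units,
    smul_eq_mul]

end FieldChar

open Classical in
theorem cmult_unitsHom {G : Type u} [Group G] [Fintype G] (f g : G →* ℂˣ) :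
    cmult (fun u => f u) (fun u => g u) = if f = g then 1 else 0 :=
  cmult_eq_of (((IrrCharacter.ofHom f).classInner_eq (IrrCharacter.ofHom g)).trans (by
    simp [IrrCharacter.ofHom_injective.eq_iff]))

end Cfsg
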