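import Cfsg.Agent.CT.McKayTop
import Cfsg.Agent.CT.OddIndex

/-!
# Real characters of odd degree of solvable groups
-/

set_option autoImplicit false
set_option linter.unusedSectionVars false

open scoped ComplexConjugate Pointwise commutatorElement

namespace Cfsg

universe u v w

/-- real of odd degree -/
def RealOdd {G : Type u} [Group G] [Finite G] (χ : IrrCharacter G) : Prop :=
  χ.cconj = χ ∧ ¬ 2 ∣ charDegree χ.1

theorem card_realOdd_le_charKer {G : Type u} [Group G] [Finite G] {X : Type v} [Group X]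
    [Finite X] (π : G →* X) (hπ : Function.Surjective π) :
    Nat.card {χ : IrrCharacter G // RealOdd χ ∧ π.ker ≤ charKer χ.1} =
      Nat.card {χ : IrrCharacter X // RealOdd χ} := by
  have key : ∀ χ : IrrCharacter X, RealOdd (χ.comap π hπ) ↔ RealOdd χ := fun χ => by
    rw [RealOdd, RealOdd, χ.charDegree_comap, IrrCharacter.cconj_eq_self_iff,
      IrrCharacter.cconj_eq_self_iff, hπ.forall]
    rfl
  refine (Nat.card_congr (Equiv.ofBijective (fun χ => ⟨χ.1.comap π hπ, (key _).2 χ.2,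
    ker_le_charKer_comp _ π⟩) ⟨fun a b h => Subtype.ext (IrrCharacter.comap_injective π hπ
      (congrArg Subtype.val h)), fun χ => ?_⟩)).symm
  obtain ⟨ψ, h⟩ := χ.1.exists_comap_eq π hπ χ.2.2
  exact ⟨⟨ψ, (key ψ).1 (h ▸ χ.2.1)⟩, Subtype.ext h⟩

variable {Γ : Type u} [Group Γ] [Finite Γ] {K L M U V S : Subgroup Γ}

theorem rmult_cconj (h : K ≤ U) (ψ : IrrCharacter U) (θ : IrrCharacter K) :
    rmult ψ.cconj θ.cconj = rmult ψ θ := by
  have := Fintype.ofFinite K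
  refine Nat.cast_injective (R := ℂ) ?_
  rw [cast_rmult' h, ← Complex.conj_natCast (rmult ψ θ), cast_rmult' h]
  simp only [classInner, IrrCharacter.cconj_apply, map_mul, map_sum, map_inv₀,
    Complex.conj_natCast]

theorem rmult_triv_iff (h : K ≤ U) (hN : U ≤ Subgroup.normalizer (K : Set Γ))
    {ψ : IrrCharacter U} :
    rmult ψ (IrrCharacter.triv K) ≠ 0 ↔ K.subgroupOf U ≤ charKer ψ.1 := by
  have := Subgroup.normal_subgroupOf_of_le_normalizer hN
  have := Fintype.ofFinite (K.subgroupOf U)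
  rw [rmult_ne_zero_iff_subgroupOf h, ψ.le_charKer_iff_classInner_ne_zero]
  rfl

theorem le_ezStab_triv (hN : U ≤ Subgroup.normalizer (K : Set Γ)) :
    U ≤ ezStab (IrrCharacter.triv K) := (le_ezStab_iff hN).2 fun _ _ _ _ _ => rfl

theorem rmult_triv_triv (h : K ≤ U) : rmult (IrrCharacter.triv U) (IrrCharacter.triv K) ≠ 0 :=
  IrrCharacter.Extends.rmult_ne_zero ((IrrCharacter.extends_iff h).2 fun _ => rfl)

theorem RealOdd.exists_under (h : K ≤ U) {ψ : IrrCharacter U} (hψ : RealOdd ψ) :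
    ∃ θ : IrrCharacter K, RealOdd θ ∧ rmult ψ θ ≠ 0 := by
  by_contra hc
  push Not at hc
  refine hψ.2 ((ZMod.natCast_eq_zero_iff _ 2).1 ?_)
  rw [charDegree_eq_sum_rmult h, Nat.cast_sum]
  refine Finset.sum_involution (fun θ _ => θ.cconj) (fun θ _ => ?_) (fun θ _ h1 h2 => h1 ?_)
    (fun _ _ => Finset.mem_univ _) (fun θ _ => θ.cconj_cconj)
  · rw [← rmult_cconj h ψ θ, hψ.1, θ.charDegree_cconj]
    exact CharTwo.add_self_eq_zero _
  · by_cases h3 : 2 ∣ charDegree θ.1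
    · rw [Nat.cast_mul, (ZMod.natCast_eq_zero_iff _ 2).2 h3, mul_zero]
    · rw [hc θ ⟨h2, h3⟩, zero_mul, Nat.cast_zero]

theorem eq_triv_of_odd_relIndex (h : K ≤ M) (hN : M ≤ Subgroup.normalizer (K : Set Γ))
    (hi : ¬ 2 ∣ K.relIndex M) {θ : IrrCharacter M} (h1 : θ.cconj = θ)
    (h2 : rmult θ (IrrCharacter.triv K) ≠ 0) : θ = IrrCharacter.triv M := by
  have := Subgroup.normal_subgroupOf_of_le_normalizer hN
  obtain ⟨ψ, rfl⟩ := θ.exists_inflate_eq _ ((rmult_triv_iff h hN).1 h2)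
  rw [ψ.eq_triv_of_odd_of_cconj_eq (Nat.odd_iff.2 (Nat.two_dvd_ne_zero.1 hi))
    (IrrCharacter.inflate_injective _ h1)]
  rfl

/-- the number of real characters of odd degree of `U` over `θ` -/
noncomputable def roCnt (θ : IrrCharacter K) (U : Subgroup Γ) : ℕ :=
  Nat.card {ψ : IrrCharacter U // RealOdd ψ ∧ rmult ψ θ ≠ 0}

theorem roCnt_of_odd (hKM : K ≤ M) (hMU : M ≤ U) (hN : U ≤ Subgroup.normalizer (K : Set Γ))
    (hi : ¬ 2 ∣ K.relIndex M) :
    roCnt (IrrCharacter.triv K) U = roCnt (IrrCharacter.triv M) U := by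
  refine Nat.card_congr (Equiv.subtypeEquivRight fun ψ => and_congr_right fun h =>
    ⟨fun h1 => ?_, fun h1 => rmult_ne_zero_trans hKM hMU h1 (rmult_triv_triv hKM)⟩)
  obtain ⟨θ, h2, h3⟩ := h.exists_under hMU
  rwa [eq_triv_of_odd_relIndex hKM (hMU.trans hN) hi h2.1
    (rmult_ne_zero_of_le_ezStab hKM hMU hN (le_ezStab_triv hN) h1 h3)] at h3

theorem roCnt_triv_sup (hN : V ≤ Subgroup.normalizer (M : Set Γ)) :
    roCnt (IrrCharacter.triv M) (M ⊔ V) = roCnt (IrrCharacter.triv ↥(M ⊓ V)) V := by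
  have hN' : M ⊔ V ≤ Subgroup.normalizer (M : Set Γ) := sup_le Subgroup.le_normalizer hN
  have := Subgroup.normal_subgroupOf_of_le_normalizer hN'
  let π := QuotientGroup.mk' (M.subgroupOf (M ⊔ V))
  let π' := π.comp (Subgroup.inclusion (le_sup_right : V ≤ M ⊔ V))
  have hπ' : Function.Surjective π' := by
    intro q
    obtain ⟨⟨x, hx⟩, rfl⟩ := QuotientGroup.mk_surjective q
    obtain ⟨a, ha, n, hn, rfl⟩ := (mem_sup_of_le_normalizer' hN).1 hx
    exact ⟨⟨a, ha⟩, QuotientGroup.eq.2 (by simpa [Subgroup.mem_subgroupOf] using hn)⟩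
  have hker : π'.ker = (M ⊓ V).subgroupOf V := by
    ext x
    rw [MonoidHom.mem_ker, Subgroup.mem_subgroupOf]
    exact (QuotientGroup.eq_one_iff _).trans ⟨fun h => ⟨h, x.2⟩, fun h => h.1⟩
  have h1 := card_realOdd_le_charKer π (QuotientGroup.mk'_surjective _)
  rw [← card_realOdd_le_charKer π' hπ', hker, QuotientGroup.ker_mk'] at h1
  simp only [roCnt, rmult_triv_iff le_sup_left hN', rmult_triv_iff inf_le_right
    (fun t ht => Subgroup.inf_normalizer_le_normalizer_inf ⟨hN ht, Subgroup.le_normalizer ht⟩ :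
      V ≤ Subgroup.normalizer ((M ⊓ V : Subgroup Γ) : Set Γ))]
  exact h1

theorem roCnt_clifford (hKV : K ≤ V) (hVU : V ≤ U) (hN : U ≤ Subgroup.normalizer (K : Set Γ))
    {θ : IrrCharacter K} (hθ : θ.cconj = θ) (hV : U ⊓ ezStab θ ≤ V) (h : ¬ 2 ∣ V.relIndex U) :
    roCnt θ U = roCnt θ V := by
  obtain ⟨e, he⟩ := exists_clifford_equiv hKV hVU hN hV
  have := Fintype.ofFinite U
  simp only [roCnt, and_comm (a := RealOdd _)]
  refine (card_subtype_eq_of_equiv e fun φ => ?_).symm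
  have h0 : ∀ W, K ≤ W → ∀ ψ : IrrCharacter W, rmult ψ θ ≠ 0 → rmult ψ.cconj θ ≠ 0 :=
    fun W hW ψ hψ => by rwa [← hθ, rmult_cconj hW]
  have h1 : e ⟨φ.1.cconj, h0 V hKV _ φ.2⟩ =
      ⟨(e φ).1.cconj, h0 U (hKV.trans hVU) _ (e φ).2⟩ := by
    refine Subtype.ext (Subtype.ext ?_)
    rw [(he _).2.2]
    change _ = fun g => conj ((e φ).1.1 g)
    rw [(he φ).2.2, ← indFun_conj]
    rfl
  refine and_congr ⟨fun h2 => ?_, fun h2 => ?_⟩ ?_
  · exact (congrArg Subtype.val h1).symm.trans (congrArg (fun x => (e x).1) (Subtype.ext h2))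
  · exact congrArg Subtype.val (e.injective (h1.trans (Subtype.ext h2)))
  · rw [(he φ).1, Nat.prime_two.dvd_mul, or_iff_right h]

theorem roCnt_twist (hMV : M ≤ V) (δ : V →* ℂˣ) (hδ : ∀ x, δ x * δ x = 1) (f : M →* ℂˣ)
    (hf : ∀ m : M, δ ⟨m, hMV m.2⟩ = f m) :
    roCnt (IrrCharacter.ofHom f) V = roCnt (IrrCharacter.triv M) V := by
  have h1 : ∀ ψ : IrrCharacter V, (ψ.twist δ).twist δ = ψ := fun ψ => Subtype.ext (funext fun x => by
    rw [IrrCharacter.twist_apply, IrrCharacter.twist_apply, ← mul_assoc, ← Units.val_mul, hδ,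
      Units.val_one, one_mul])
  have h2 : ∀ x, conj (δ x : ℂ) = δ x := fun x => by
    rcases mul_self_eq_one_iff.1 (show (δ x : ℂ) * δ x = 1 by rw [← Units.val_mul, hδ,
      Units.val_one]) with h | h <;> simp [h]
  have h3 : ∀ ψ : IrrCharacter V, (ψ.twist δ).cconj = ψ.cconj.twist δ := fun ψ =>
    Subtype.ext (funext fun x => by
      rw [IrrCharacter.cconj_apply, IrrCharacter.twist_apply, IrrCharacter.twist_apply, map_mul,
        h2, IrrCharacter.cconj_apply])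
  refine (Nat.card_congr ((Function.Involutive.toPerm (fun ψ : IrrCharacter V => ψ.twist δ)
    h1).subtypeEquiv fun ψ => ?_)).symm
  change _ ↔ RealOdd (ψ.twist δ) ∧ rmult (ψ.twist δ) _ ≠ 0
  rw [show IrrCharacter.ofHom f = (IrrCharacter.triv M).twist f from
    Subtype.ext (funext fun x => (mul_one _).symm), rmult_twist hMV _ _ _ _ hf, RealOdd, RealOdd,
    IrrCharacter.charDegree_twist, h3]
  exact and_congr_left' (and_congr_left' ⟨fun h => by rw [h], fun h => by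
    rw [← h1 ψ.cconj, h, h1]⟩)

theorem exists_real_hom_of_odd_relIndex {P T : Subgroup Γ} (hMP : M ≤ P) (hPT : P ≤ T)
    (hN : T ≤ Subgroup.normalizer (M : Set Γ)) (hi : ¬ 2 ∣ P.relIndex T) {f : M →* ℂˣ}
    (hf : T ≤ ezStab (IrrCharacter.ofHom f)) (μ : P →* ℂˣ) (h1 : ∀ x, μ x * μ x = 1)
    (h2 : ∀ m : M, μ ⟨m, hMP m.2⟩ = f m) :
    ∃ δ : T →* ℂˣ, (∀ x, δ x * δ x = 1) ∧ ∀ m : M, δ ⟨m, hPT (hMP m.2)⟩ = f m := by
  classical
  refine ⟨MonoidHom.transfer (μ.comp (Subgroup.subgroupOfEquivOfLe hPT).toMonoidHom),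
    fun x => ?_, fun m => ?_⟩
  · have := Fintype.ofFinite (Quotient (MulAction.orbitRel (Subgroup.zpowers x)
      (T ⧸ P.subgroupOf T)))
    rw [MonoidHom.transfer_eq_prod_quotient_orbitRel_zpowers_quot, ← Finset.prod_mul_distrib]
    exact Finset.prod_eq_one fun _ _ => h1 _
  · rw [transfer_eq_pow_index_of_conj (c := f m)]
    · obtain ⟨k, hk⟩ := Nat.odd_iff.2 (Nat.two_dvd_ne_zero.1 hi) |> Odd.exists_bit1
      change f m ^ P.relIndex T = _
      rw [hk, pow_succ, pow_mul, sq, ← h2, h1, one_pow, one_mul]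
    · intro g
      have h3 : (g : Γ)⁻¹ * m * (g : Γ)⁻¹⁻¹ ∈ M :=
        (Subgroup.mem_normalizer_iff.1 (hN (inv_mem g.2)) _).1 m.2
      refine ⟨hMP (by simpa using h3), ?_⟩
      have h4 := (le_ezStab_iff hN).1 hf _ (inv_mem g.2) m ⟨_, h3⟩ rfl
      rw [IrrCharacter.ofHom_apply, IrrCharacter.ofHom_apply, Units.val_inj] at h4
      rw [← h4, ← h2]
      exact congrArg μ (Subtype.ext (by simp))

theorem exists_chief_of_isSolvable (hKU : K < U) (hN : U ≤ Subgroup.normalizer (K : Set Γ))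
    (hU : Group.IsSolvable U) : ∃ (M : Subgroup Γ) (q : ℕ), q.Prime ∧ K < M ∧ M ≤ U ∧
      U ≤ Subgroup.normalizer (M : Set Γ) ∧ ⁅M, M⁆ ≤ K ∧ (∀ m ∈ M, m ^ q ∈ K) ∧
      ∃ k, K.relIndex M = q ^ k := by
  have := Subgroup.normal_subgroupOf_of_le_normalizer hN
  have : Nontrivial (U ⧸ K.subgroupOf U) := QuotientGroup.nontrivial_iff.2 fun h =>
    hKU.not_ge (Subgroup.subgroupOf_eq_top.1 h)
  obtain ⟨A, hA⟩ := exists_isMinNormal (G := U ⧸ K.subgroupOf U)
  obtain ⟨q, hq, h1, h2⟩ := hA.exists_isElementaryAbelian inferInstance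
  have := hA.1
  have h3 : K ≤ (A.comap (QuotientGroup.mk' _)).map U.subtype := fun x hx =>
    ⟨⟨x, hKU.le hx⟩, le_comap_mk _ A hx, rfl⟩
  have h4 : ((A.comap (QuotientGroup.mk' _)).map U.subtype).subgroupOf U =
      A.comap (QuotientGroup.mk' _) := Subgroup.comap_map_eq_self_of_injective U.subtype_injective _
  refine ⟨(A.comap (QuotientGroup.mk' _)).map U.subtype, q, hq,
    lt_of_le_of_ne h3 fun h => hA.2.1 ?_, Subgroup.map_subtype_le _, ?_,
    Subgroup.commutator_le.2 ?_, ?_, ?_⟩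
  · rw [← map_comap_mk _ A, map_mk_eq_bot_iff]
    exact fun x hx => h.ge ⟨x, hx, rfl⟩
  · rw [← Subgroup.normal_subgroupOf_iff_le_normalizer (Subgroup.map_subtype_le _), h4]
    infer_instance
  · rintro _ ⟨a, ha, rfl⟩ _ ⟨b, hb, rfl⟩
    have h5 : ⁅a, b⁆ ∈ K.subgroupOf U := by
      rw [← QuotientGroup.eq_one_iff, ← QuotientGroup.mk'_apply, map_commutatorElement,
        commutatorElement_eq_one_iff_mul_comm]
      exact congrArg Subtype.val (h1.is_comm.comm ⟨_, ha⟩ ⟨_, hb⟩)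
    exact h5
  · rintro _ ⟨a, ha, rfl⟩
    have h5 : a ^ q ∈ K.subgroupOf U := by
      rw [← QuotientGroup.eq_one_iff, QuotientGroup.mk_pow]
      exact h2 _ ha
    exact h5
  · have := Fact.mk hq
    obtain ⟨k, hk⟩ := (IsElementaryAbelian.isPGroup ⟨h1, h2⟩).exists_card_eq
    exact ⟨k, by rw [← Subgroup.relIndex_subgroupOf (Subgroup.map_subtype_le _), h4,
      relIndex_comap_mk, hk]⟩

theorem le_sup_of_relIndex_eq_pow {p : ℕ} [Fact p.Prime] (hMU : M ≤ U) (hSU : S ≤ U)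
    (hN' : U ≤ Subgroup.normalizer (M : Set Γ)) (hKM : K ≤ M) (hi : ¬ p ∣ S.relIndex U) {k : ℕ} (hk : K.relIndex M = p ^ k) :
    M ≤ K ⊔ S := by
  have h1 : K ⊔ S ≤ U := sup_le (hKM.trans hMU) hSU
  have h2 : ¬ p ∣ (K ⊔ S).relIndex (M ⊔ (K ⊔ S)) := not_dvd_relIndex_of_le le_sup_right
    (sup_le hMU h1) (not_dvd_relIndex_of_le' le_sup_right hi)
  have h3 : (K ⊔ S).relIndex (M ⊔ (K ⊔ S)) = (K ⊔ S).relIndex M := by
    refine Nat.eq_of_mul_eq_mul_left (Nat.card_pos (α := ↥(M ⊓ (K ⊔ S)))) ?_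
    refine Nat.eq_of_mul_eq_mul_left (Nat.card_pos (α := ↥(K ⊔ S))) ?_
    rw [mul_left_comm, card_mul_relIndex le_sup_right, mul_comm,
      card_sup_mul_card_inf (h1.trans hN'), inf_comm, card_inf_mul_relIndex, mul_comm]
  have h4 : (K ⊔ S).relIndex M ∣ p ^ k := hk ▸ Subgroup.relIndex_dvd_of_le_left M le_sup_left
  rw [h3] at h2
  exact Subgroup.relIndex_eq_one.1 (Nat.Coprime.eq_one_of_dvd
    (Nat.Coprime.pow_right k ((Nat.Prime.coprime_iff_not_dvd Fact.out).2 h2).symm) h4)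

theorem roCnt_triv_eq_normalizer (hKU : K ≤ U) (hN : U ≤ Subgroup.normalizer (K : Set Γ))
    (hU : Group.IsSolvable U) (hSU : S ≤ U) (hS : IsPGroup 2 S) (hi : ¬ 2 ∣ S.relIndex U) :
    roCnt (IrrCharacter.triv K) U =
      roCnt (IrrCharacter.triv K) (K ⊔ U ⊓ Subgroup.normalizer (S : Set Γ)) := by
  classical
  induction hn : K.relIndex U using Nat.strong_induction_on generalizing K U with
  | _ n ih =>
  subst hn
  rcases hKU.eq_or_lt with rfl | hlt
  · rw [sup_eq_left.2 inf_le_left]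
  obtain ⟨M, q, hq, h1, hMU, hNM, h2, h3, k, hk⟩ := exists_chief_of_isSolvable hlt hN hU
  have hlt' : ∀ T, M ≤ T → T ≤ U → M.relIndex T < K.relIndex U := fun T h4 h5 => by
    rw [← Subgroup.relIndex_mul_relIndex K M U h1.le hMU]
    exact (Subgroup.relIndex_le_of_le_right h5 Subgroup.FiniteIndex.index_ne_zero).trans_lt
      (lt_mul_of_one_lt_left (Nat.pos_of_ne_zero Subgroup.FiniteIndex.index_ne_zero)
        (Subgroup.one_lt_index_of_ne_top fun h => h1.not_ge (Subgroup.subgroupOf_eq_top.1 h)))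
  obtain ⟨H, hH⟩ : ∃ H, H = K ⊔ U ⊓ Subgroup.normalizer (S : Set Γ) := ⟨_, rfl⟩
  have hHU : H ≤ U := hH ▸ sup_le hKU inf_le_left
  have hKH : K ≤ H := hH ▸ le_sup_left
  have hNH : U ⊓ Subgroup.normalizer (S : Set Γ) ≤ H := hH ▸ le_sup_right
  have hSH : S ≤ H := (le_inf hSU Subgroup.le_normalizer).trans hNH
  rw [← hH]
  by_cases hq2 : q = 2
  swap
  · have h4 : ¬ 2 ∣ K.relIndex M := fun h => hq2
      ((Nat.prime_dvd_prime_iff_eq Nat.prime_two hq).1 (Nat.prime_two.dvd_of_dvd_pow (hk ▸ h))).symm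
    rw [roCnt_of_odd h1.le hMU hN h4, ih _ (hlt' U hMU le_rfl) hMU hNM hU hSU hi rfl,
      roCnt_of_odd (le_inf h1.le hKH) inf_le_right (hHU.trans hN)
        (not_dvd_relIndex_of_le (le_inf h1.le hKH) inf_le_left h4),
      ← roCnt_triv_sup (hHU.trans hNM), hH, ← sup_assoc, sup_eq_left.2 h1.le]
  subst hq2
  have hMP : M ≤ K ⊔ S := le_sup_of_relIndex_eq_pow hMU hSU hNM h1.le hi hk
  have hMH : M ≤ H := hMP.trans (sup_le hKH hSH)
  -- the count over an invariant `θ`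
  have key : ∀ θ : IrrCharacter M, S ≤ ezStab θ → rmult θ (IrrCharacter.triv K) ≠ 0 →
      roCnt θ U = roCnt θ H := by
    intro θ hθ hθK
    obtain ⟨f, rfl⟩ := θ.exists_eq_ofHom (θ.charDegree_eq_one_of_le_charKer
      (commutator_le_subgroupOf h2) ((rmult_triv_iff h1.le (hMU.trans hN)).1 hθK))
    have hfK := (rmult_triv_iff h1.le (hMU.trans hN)).1 hθK
    rw [IrrCharacter.charKer_ofHom] at hfK
    have hf : (IrrCharacter.ofHom f).cconj = IrrCharacter.ofHom f := Subtype.ext (funext fun m => by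
      rw [IrrCharacter.cconj_apply', IrrCharacter.ofHom_apply, IrrCharacter.ofHom_apply, map_inv,
        inv_eq_of_mul_eq_one_right (by rw [← map_mul, ← sq]; exact hfK (h3 m m.2))])
    obtain ⟨T, hT⟩ : ∃ T, T = U ⊓ ezStab (IrrCharacter.ofHom f) := ⟨_, rfl⟩
    have hTU : T ≤ U := hT ▸ inf_le_left
    have hTf : T ≤ ezStab (IrrCharacter.ofHom f) := hT ▸ inf_le_right
    have hPT : K ⊔ S ≤ T := hT ▸ le_inf (sup_le hKU hSU) (sup_le (h1.le.trans (le_ezStab _)) hθ)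
    have hMT := hMP.trans hPT
    have hST := le_sup_right.trans hPT
    have h4 : M ⊔ T ⊓ Subgroup.normalizer (S : Set Γ) ≤ T := sup_le hMT inf_le_left
    have h5 : S ≤ M ⊔ T ⊓ Subgroup.normalizer (S : Set Γ) :=
      (le_inf hST Subgroup.le_normalizer).trans le_sup_right
    have h6 : M ⊔ T ⊓ Subgroup.normalizer (S : Set Γ) ≤ H :=
      sup_le hMH ((inf_le_inf_right _ hTU).trans hNH)
    rw [roCnt_clifford hMT hTU hNM hf hT.ge (not_dvd_relIndex_of_le' hST hi),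
      roCnt_clifford le_sup_left h6 (hHU.trans hNM) hf (by
        rw [hH, hT, sup_inf_of_le_normalizer (inf_le_left.trans hN) (h1.le.trans (le_ezStab _)),
          inf_right_comm]
        exact sup_le_sup_right h1.le _)
        (not_dvd_relIndex_of_le' h5 (not_dvd_relIndex_of_le hSH hHU hi))]
    by_cases hμ : ∃ μ : ↥(K ⊔ S) →* ℂˣ, (∀ x, μ x * μ x = 1) ∧ ∀ m : M, μ ⟨m, hMP m.2⟩ = f m
    · obtain ⟨μ, h7, h8⟩ := hμ
      obtain ⟨δ, h9, h10⟩ := exists_real_hom_of_odd_relIndex hMP hPT (hTU.trans hNM)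
        (not_dvd_relIndex_of_le' le_sup_right (not_dvd_relIndex_of_le hST hTU hi)) hTf μ h7 h8
      rw [roCnt_twist hMT δ h9 f h10, roCnt_twist le_sup_left (δ.comp (Subgroup.inclusion h4))
        (fun _ => h9 _) f h10]
      exact ih _ (hlt' T hMT hTU) hMT (hTU.trans hNM) 
        (Group.isSolvable_of_isSolvable_injective (Subgroup.inclusion_injective hTU)) hST
        (not_dvd_relIndex_of_le hST hTU hi) rfl
    · have h7 : ∀ V, K ⊔ S ≤ V → V ≤ T → roCnt (IrrCharacter.ofHom f) V = 0 := fun V h8 h9 => by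
        have : IsEmpty {ψ : IrrCharacter V // RealOdd ψ ∧
            rmult ψ (IrrCharacter.ofHom f) ≠ 0} := ⟨fun ⟨ψ, h10, h11⟩ => hμ (by
          obtain ⟨μ, h12, h13⟩ := h10.exists_under h8
          have h14 := rmult_ne_zero_of_le_ezStab hMP h8 ((h9.trans hTU).trans hNM) (h9.trans hTf)
            h11 h13
          obtain ⟨e, h15, h16⟩ := exists_charDegree_eq_mul_of_rmult le_sup_left
            ((hPT.trans hTU).trans hN) (rmult_ne_zero_trans h1.le hMP h14 hθK)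
          rw [IrrCharacter.charDegree_triv, mul_one] at h15
          rw [relIndex_sup_of_le_normalizer (hSU.trans hN), ← h15] at h16
          obtain ⟨g, rfl⟩ := μ.exists_eq_ofHom (Nat.Coprime.eq_one_of_dvd
            (coprime_card_of_isPGroup hS h12.2).symm (h16.trans (Subgroup.relIndex_dvd_card _ _)))
          refine ⟨g, fun x => ?_, fun m => ?_⟩
          · have h17 := congrFun (congrArg Subtype.val h12.1) x
            rw [IrrCharacter.cconj_apply', IrrCharacter.ofHom_apply, IrrCharacter.ofHom_apply,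
              Units.val_inj, map_inv] at h17
            exact (congrArg (· * g x) h17).symm.trans (inv_mul_cancel _)
          · exact Units.val_inj.1 ((IrrCharacter.extends_iff hMP).1
              (IrrCharacter.extends_of_charDegree_le' hMP h14 (by simp)) m))⟩
        exact Nat.card_of_isEmpty
      rw [h7 T hPT le_rfl, h7 _ (sup_le (h1.le.trans le_sup_left) h5) h4]
  have key' : ∀ W : Subgroup Γ, M ≤ W → W ≤ U → ∀ θ : IrrCharacter M,
      Nat.card {a : {ψ : IrrCharacter W // RealOdd ψ ∧ rmult ψ (IrrCharacter.triv K) ≠ 0} //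
        rmult a.1 θ ≠ 0} = if rmult θ (IrrCharacter.triv K) ≠ 0 then roCnt θ W else 0 := by
    intro W h4 h5 θ
    rw [Nat.card_congr (Equiv.subtypeSubtypeEquivSubtypeInter _ (fun ψ => rmult ψ θ ≠ 0))]
    split_ifs with h6
    · exact Nat.card_congr (Equiv.subtypeEquivRight fun ψ => ⟨fun h7 => ⟨h7.1.1, h7.2⟩,
        fun h7 => ⟨⟨h7.1, rmult_ne_zero_trans h1.le h4 h7.2 h6⟩, h7.2⟩⟩)
    · have : IsEmpty {ψ : IrrCharacter W // (RealOdd ψ ∧ rmult ψ (IrrCharacter.triv K) ≠ 0) ∧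
          rmult ψ θ ≠ 0} := ⟨fun ⟨ψ, h7⟩ => h6 (rmult_ne_zero_of_le_ezStab h1.le h4 (h5.trans hN)
            (le_ezStab_triv (h5.trans hN)) h7.1.2 h7.2)⟩
      exact Nat.card_of_isEmpty
  refine card_eq_of_fibers (Θ := {θ : IrrCharacter M // S ≤ ezStab θ})
    (fun a θ => rmult a.1 θ.1 ≠ 0) (fun a θ => rmult a.1 θ.1 ≠ 0)
    (fun θ θ' => ∃ (n : Γ) (hn : n ∈ U), n ∈ Subgroup.normalizer (S : Set Γ) ∧
      θ.1.cj n (hNM hn) = θ'.1) (fun a => ?_) (fun a θ h4 θ' => ?_) (fun a => ?_)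
    (fun a θ h4 θ' => ?_) (fun θ => ?_)
  · obtain ⟨θ, h4, h5⟩ := exists_rmult_under_le_ezStab hMU hNM hSU hS a.2.1.2
    exact ⟨⟨θ, h5⟩, h4⟩
  · exact rmult_iff_exists_cj hMU le_rfl hNM hSU hS hi inf_le_left θ.2 θ'.2 h4
  · obtain ⟨θ, h4, h5⟩ := exists_rmult_under_le_ezStab hMH (hHU.trans hNM) hSH hS a.2.1.2
    exact ⟨⟨θ, h5⟩, h4⟩
  · exact rmult_iff_exists_cj hMH hHU hNM hSH hS hi hNH θ.2 θ'.2 h4
  · rw [key' U hMU le_rfl, key' H hMH hHU]
    split_ifs with h4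
    · exact key θ.1 θ.2 h4
    · rfl

theorem card_realOdd_eq_normalizer {G : Type u} [Group G] [Finite G] (hG : Group.IsSolvable G)
    (P : Sylow 2 G) : Nat.card {χ : IrrCharacter G // RealOdd χ} =
      Nat.card {ψ : IrrCharacter (Subgroup.normalizer ((P : Subgroup G) : Set G)) //
        RealOdd ψ} := by
  have h := roCnt_triv_eq_normalizer (K := ⊥) (U := ⊤) bot_le Subgroup.le_normalizer_of_normal
    inferInstance le_top P.isPGroup' (by rw [Subgroup.relIndex_top_right]; exact P.not_dvd_index)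
  rw [bot_sup_eq, top_inf_eq] at h
  simp only [roCnt, rmult_bot_ne_zero, ne_eq, not_false_eq_true, and_true] at h
  rw [← h]
  refine Nat.card_congr (IrrCharacter.toTop.subtypeEquiv fun χ => ?_)
  rw [RealOdd, RealOdd, χ.charDegree_toTop, IrrCharacter.cconj_eq_self_iff,
    IrrCharacter.cconj_eq_self_iff]
  exact and_congr_left' ⟨fun h x => h x, fun h x => h ⟨x, trivial⟩⟩

end Cfsg
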