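import Cfsg.Agent.CT.RankOne
import Cfsg.Agent.Grp.SLn
import Cfsg.Prelude.Def_DegreeGraph

/-! The character degrees of `SL(2, q)` and `PSL(2, q)`. -/

set_option autoImplicit false
set_option linter.style.haveILetI false

namespace Cfsg

open scoped ComplexConjugate MatrixGroups

variable {F : Type*} [Field F]

/-- the BN-pair of `SL(2, F)` -/
def sl2RankOne (F : Type*) [Field F] : RankOne SL(2, F) (Multiplicative F) Fˣ where
  x := MonoidHom.mk' (fun u => slX u.toAdd) fun _ _ => slX_add _ _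
  h := MonoidHom.mk' slH slH_mul
  act := MonoidHom.mk' (fun t => AddEquiv.toMultiplicative (DistribMulAction.toAddEquiv F (t ^ 2)))
    fun a b => by ext; simp [mul_pow, mul_smul]
  n := slN F
  h_x t u := by simp [slH_mul_slX, Units.smul_def]
  n_h t := by simp [mul_assoc, slH_mul_slN]
  bruhat g := by
    have hd := g.det_coe
    rw [Matrix.det_fin_two] at hd
    by_cases h : g 1 0 = 0
    · rw [show g.1 1 0 = 0 from h, mul_zero, sub_zero] at hd
      refine Or.inl ⟨.ofAdd (g 0 0 * g 0 1), Units.mkOfMulEqOne _ _ hd, sl2_ext ?_⟩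
      refine (Matrix.eta_fin_two g.1).trans ?_
      simp [coe_slX, coe_slH, h, ← eq_inv_of_mul_eq_one_right hd, mul_right_comm _ _ (g.1 1 1), hd]
    · refine Or.inr ⟨.ofAdd (g 0 0 / g 1 0), .ofAdd (g 1 0 * g 1 1), -Units.mk0 _ h, sl2_ext ?_⟩
      refine (Matrix.eta_fin_two g.1).trans ?_
      simp [coe_slX, coe_slH, coe_slN, h]
      constructor
      · field_simp
        linear_combination -hd
      · field_simp
  ti u u' t h := by
    rw [mul_assoc, inv_mul_eq_iff_eq_mul] at h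
    simpa [coe_slX, coe_slH, coe_slN] using congrArg (fun g : SL(2, F) => g.1 0 0) h
  disj u t h := by simpa [coe_slX, coe_slH] using congrArg (fun g : SL(2, F) => g.1 0 1) h
  n_ne u t h := by simpa [coe_slX, coe_slH, coe_slN] using congrArg (fun g : SL(2, F) => g.1 1 0) h

theorem sl2_eq_top_of_normal (K : Subgroup SL(2, F)) (hK : K.Normal) (h : ∀ t, slX t ∈ K) :
    K = ⊤ := by
  have h1 : ∀ t, slY t ∈ K := fun t => by
    simpa [slN_mul_slX] using hK.conj_mem _ (h (-t)) (slN F)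
  have h2 : ∀ t, slH t ∈ K := fun t => by
    rw [slH_eq_prod]
    exact K.mul_mem (K.mul_mem (K.mul_mem (K.mul_mem (K.mul_mem (h _) (h1 _)) (h _)) (h _)) (h1 _))
      (h _)
  have h3 : slN F ∈ K := by
    rw [show slN F = slX 1 * slY (-1) * slX 1 from sl2_ext (by simp [coe_slX, coe_slY, coe_slN])]
    exact K.mul_mem (K.mul_mem (h _) (h1 _)) (h _)
  refine eq_top_iff.2 fun g _ => ?_
  rcases (sl2RankOne F).bruhat g with ⟨u, t, rfl⟩ | ⟨u, u', t, rfl⟩
  · exact K.mul_mem (h _) (h2 _)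
  · exact K.mul_mem (K.mul_mem (h _) h3) (K.mul_mem (h _) (h2 _))

theorem sl2_center_le : Subgroup.center SL(2, F) ≤ (sl2RankOne F).h.range := fun g hg => by
  obtain ⟨r, h1, h2⟩ := Matrix.SpecialLinearGroup.mem_center_iff.1 hg
  rw [Fintype.card_fin, sq] at h1
  refine ⟨Units.mkOfMulEqOne _ _ h1, sl2_ext ?_⟩
  rw [← h2]
  ext i j
  fin_cases i <;> fin_cases j <;> simp [sl2RankOne, coe_slH, ← eq_inv_of_mul_eq_one_right h1]

theorem sq_eq_one_of_slH_mem_center {t : Fˣ} (h : slH t ∈ Subgroup.center SL(2, F)) :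
    t ^ 2 = 1 := by
  obtain ⟨r, h1, h2⟩ := Matrix.SpecialLinearGroup.mem_center_iff.1 h
  have h3 : r = t := by simpa [coe_slH] using congrFun (congrFun h2 0) 0
  exact Units.ext (by simpa [h3] using h1)

variable [Fintype F]

theorem fchar_sl2_act (a : F) (t : Fˣ) (u : Multiplicative F) :
    fchar a ((sl2RankOne F).act t u) = fchar (a * t ^ 2) u :=
  Units.ext (by simp [coe_fchar, sl2RankOne, Units.smul_def, mul_assoc])

theorem sl2_m_le_one {a : F} (ha : a ≠ 0) (χ : IrrCharacter SL(2, F)) :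
    (sl2RankOne F).m (fun u => fchar a u) χ.1 ≤ 1 := by
  classical
  refine (sl2RankOne F).m_le_one _ (fun g => ⟨!![g 1 1, g 0 1; g 1 0, g 0 0], by
    rw [Matrix.det_fin_two_of, mul_comm, ← Matrix.det_fin_two, g.det_coe]⟩) (fun g h => sl2_ext ?_) (Equiv.refl _)
    (fun u => sl2_ext ?_) (fun _ => rfl) (fun t => sl2_ext ?_) (fun t => ?_) χ
  · refine Eq.trans ?_ (Matrix.SpecialLinearGroup.coe_mul _ _).symm
    simp [Matrix.mul_apply, add_comm, mul_comm]
  · simp [sl2RankOne, coe_slX]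
  · simp [sl2RankOne, coe_slH, coe_slN]
  · refine (em (t = t⁻¹)).imp (fun h => sl2_ext ?_) fun h => ?_
    · simp [sl2RankOne, coe_slH, ← h]
    · by_contra h1
      simp only [not_exists, not_not, fchar_sl2_act] at h1
      have h2 := fchar_injective (MonoidHom.ext h1)
      exact h (eq_inv_of_mul_eq_one_left (Units.ext (by simpa [ha, sq] using h2)))

theorem sl2_degrees {G : Type*} [Group G] (φ : SL(2, F) →* G) (hφ : Function.Surjective φ)
    (hk : φ.ker ≤ Subgroup.center _) : ∃ St : IrrCharacter G,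
      charDegree St.1 = Fintype.card F ∧ (∀ χ : IrrCharacter G, χ = St ∨
        charDegree χ.1 ∣ Fintype.card F + 1 ∨ charDegree χ.1 ∣ Fintype.card F - 1) ∧
      (¬ Fintype.card F - 1 ∣ 4 → (∃ χ : IrrCharacter G, charDegree χ.1 = Fintype.card F + 1) ∧
        ∃ χ : IrrCharacter G, charDegree χ.1 = Fintype.card F - 1) := by
  classical
  haveI : Finite G := Finite.of_surjective φ hφ
  haveI := Fintype.ofFinite G
  let D := (sl2RankOne F).map φ hφ (hk.trans sl2_center_le)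
  have gen : ∀ K : Subgroup G, K.Normal → (∀ u, D.x u ∈ K) → K = ⊤ := fun K hK h =>
    Subgroup.comap_injective hφ (sl2_eq_top_of_normal _ (hK.comap φ) fun t => h (.ofAdd t))
  obtain ⟨ε, hε⟩ := IsCyclic.exists_monoid_generator (α := Fˣ)
  let M : F → (G → ℂ) → ℕ := fun a => D.m fun u => fchar a u
  have hc : ∀ a : F, IsCharacter _ fun u => (fchar a u : ℂ) := fun a => isCharacter_unitsHom _
  have hd : ∀ a : F, charDegree (fun u => (fchar a u : ℂ)) = 1 := fun a =>
    IrrCharacter.charDegree_ofHom (fchar a)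
  have h0 : ∀ χ, D.m (fun _ => 1) χ = M 0 χ := fun χ => by simp [M, fchar_zero]
  have h1 : ∀ {a : F}, a ≠ 0 → ∀ χ : IrrCharacter G, M a χ.1 ≤ 1 := fun ha χ =>
    sl2_m_le_one ha (χ.comap φ hφ)
  have h2 : ∀ χ : IrrCharacter G, 2 * charDegree χ.1 =
      2 * M 0 χ.1 + (Fintype.card F - 1) * (M 1 χ.1 + M ε χ.1) := fun χ => by
    rw [← two_mul_sum_eq_of_sq (M := fun a => M a χ.1) (fun a t => by
      simp only [M, ← fchar_sl2_act]; exact D.m_act t χ.isClassFunction) hε]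
    congr 1
    have := sum_classInner_fchar fun u => χ.1 (D.x u)
    rw [map_one, χ.one_eq_charDegree] at this
    simp only [← D.cast_m (hc _) χ.isCharacter] at this
    exact_mod_cast this.symm
  have h3 : ∀ {χ : G → ℂ}, (∀ u, χ (D.x u) = 1 + regFun _ u) → ∀ a,
      M a χ = if a = 0 then 2 else 1 := fun h a => by
    have := cmult_unitsHom (fchar 0) (fchar a)
    simp only [fchar_injective.eq_iff, eq_comm (a := (0 : F))] at this
    simp only [fchar_zero, MonoidHom.one_apply, Units.val_one] at this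
    simp only [M, D.m_eq_of_prin (hc a) h, hd, this]
    split_ifs <;> rfl
  have hq : 1 < Fintype.card F := Fintype.one_lt_card
  have h4 : ∀ χ : IrrCharacter G, (∀ u, χ.1 (D.x u) = 1 + regFun _ u) →
      charDegree χ.1 = Fintype.card F + 1 := fun χ h => by
    have := h2 χ
    simp only [h3 h, if_true, one_ne_zero, if_false, ε.ne_zero] at this
    omega
  obtain ⟨St, hSt, h⟩ := D.exists_St
  refine ⟨St, charDegree_eq_of_one_eq (by simpa [regFun] using hSt 1), fun χ => ?_, fun hq' => ?_⟩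
  · have h5 := h2 χ
    have h6 := h1 one_ne_zero χ
    have h7 := h1 ε.ne_zero χ
    by_cases h8 : D.m (fun _ => 1) χ.1 = 0
    · rw [← h0, h8] at h5
      have h9 := χ.charDegree_pos
      obtain h | h | h : M 1 χ.1 + M ε χ.1 = 0 ∨ M 1 χ.1 + M ε χ.1 = 1 ∨ M 1 χ.1 + M ε χ.1 = 2 := by
        omega
      all_goals rw [h] at h5
      · omega
      · exact Or.inr (Or.inr ⟨2, by omega⟩)
      · exact Or.inr (Or.inr ⟨1, by omega⟩)
    rcases h χ h8 with h | rfl | h | ⟨χ', h9, h10, h11, h, -⟩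
    · exact Or.inr (Or.inl (h4 χ h).dvd)
    · simp
    · exact Or.inl h
    have h12 : ∀ a, M a χ.1 + M a χ'.1 = if a = 0 then 2 else 1 := fun a => by
      rw [← h3 h]; exact (D.m_add (hc a) χ.isCharacter χ'.isCharacter).symm
    have h13 := h12 0
    have h14 := h12 1
    have h15 := h12 ε
    have h16 := h2 χ'
    simp only [if_true, one_ne_zero, if_false, ε.ne_zero, ← h0] at h13 h14 h15 h16 h5
    obtain h | h | h : M 1 χ.1 + M ε χ.1 = 0 ∨ M 1 χ.1 + M ε χ.1 = 1 ∨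
        M 1 χ'.1 + M ε χ'.1 = 0 := by omega
    · rw [h] at h5
      exact absurd (D.eq_triv gen (by omega) h8) h9
    · rw [h] at h5
      exact Or.inr (Or.inl ⟨2, by omega⟩)
    · rw [h] at h16
      exact absurd (D.eq_triv gen (by omega) (by omega)) h10
  obtain ⟨χ, hχ⟩ := D.exists_prin (t := ε) fun h => hq' (by
    rw [← Fintype.card_units, ← Nat.card_eq_fintype_card, ← orderOf_eq_card_of_forall_mem_powers hε]
    exact orderOf_dvd_of_pow_eq_one (by
      simpa [← pow_mul] using sq_eq_one_of_slH_mem_center (hk h)))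
  refine ⟨⟨χ, h4 χ hχ⟩, ?_⟩
  by_contra h5
  have h6 := D.sum_m_mul (hc ε) (hc 1)
  have h7 := D.sum_m_mul (hc 0) (hc 1)
  have h8 : ∀ t, cmult (fun u => (fchar (1 : F) (D.act t u) : ℂ)) (fun u => fchar (0 : F) u) = 0 :=
    fun t => by
      simp only [show D.act = (sl2RankOne F).act from rfl, fchar_sl2_act, cmult_unitsHom,
        fchar_injective.eq_iff]
      simp
  simp only [h8, hd, Finset.sum_const_zero] at h6 h7
  have h9 : ∑ ψ : IrrCharacter G, M ε ψ.1 * M 1 ψ.1 < ∑ ψ : IrrCharacter G, M 0 ψ.1 * M 1 ψ.1 := by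
    refine Finset.sum_lt_sum (fun ψ _ => ?_) ⟨χ, Finset.mem_univ _, by simp [h3 hχ]⟩
    have h9 := h2 ψ
    have h10 := h1 ε.ne_zero ψ
    obtain h | h := Nat.le_one_iff_eq_zero_or_eq_one.1 (h1 one_ne_zero ψ)
    · simp [h]
    rw [h, mul_one, mul_one]
    by_contra h11
    rw [h, show M ε ψ.1 = 1 by omega] at h9
    exact h5 ⟨ψ, by omega⟩
  have h10 := Nat.mul_lt_mul_of_pos_left h9 (Nat.card_pos (α := D.h.ker))
  simp only [M] at h10
  omega

theorem degreeGraph_of_three {S : Type*} [Group S] {q : ℕ}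
    (h : ∀ χ : IrrCharacter S, charDegree χ.1 = q ∨ charDegree χ.1 ∣ q + 1 ∨ charDegree χ.1 ∣ q - 1)
    (h0 : ∃ χ : IrrCharacter S, charDegree χ.1 = q)
    (h1 : ∃ χ : IrrCharacter S, charDegree χ.1 = q + 1)
    (h2 : ∃ χ : IrrCharacter S, charDegree χ.1 = q - 1) (hq : IsPrimePow q) :
    degreePrimes S = {r : ℕ | r.Prime ∧ r ∣ q * (q ^ 2 - 1)} ∧ ∀ r s : ℕ, (degreeGraph S).Adj r s ↔
      (r ≠ s ∧ r.Prime ∧ s.Prime ∧ ((r ∣ q + 1 ∧ s ∣ q + 1) ∨ (r ∣ q - 1 ∧ s ∣ q - 1))) := by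
  refine ⟨Set.ext fun r => and_congr_right fun hr => ?_, fun r s => and_congr_right fun hrs =>
    and_congr_right fun hr => and_congr_right fun hs => ⟨?_, ?_⟩⟩
  · rw [show q ^ 2 - 1 = (q + 1) * (q - 1) from Nat.sq_sub_sq q 1, hr.dvd_mul, hr.dvd_mul]
    refine ⟨?_, ?_⟩
    · rintro ⟨_, ⟨χ, rfl⟩, hd⟩
      exact (h χ).imp (fun h => by rwa [← h]) (Or.imp hd.trans hd.trans)
    · rintro (h | h | h)
      exacts [⟨_, h0, h⟩, ⟨_, h1, h⟩, ⟨_, h2, h⟩]
  · rintro ⟨_, ⟨χ, rfl⟩, hd⟩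
    have h3 := (dvd_mul_right r s).trans hd
    have h4 := (dvd_mul_left s r).trans hd
    rcases h χ with h | h | h
    · obtain ⟨p, k, hp, -, rfl⟩ := (isPrimePow_nat_iff _).1 hq
      rw [h] at h3 h4
      exact absurd (((Nat.prime_dvd_prime_iff_eq hr hp).1 (hr.dvd_of_dvd_pow h3)).trans
        ((Nat.prime_dvd_prime_iff_eq hs hp).1 (hs.dvd_of_dvd_pow h4)).symm) hrs
    · exact Or.inl ⟨h3.trans h, h4.trans h⟩
    · exact Or.inr ⟨h3.trans h, h4.trans h⟩
  · have h3 := (Nat.coprime_primes hr hs).2 hrs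
    rintro (h | h)
    exacts [⟨_, h1, h3.mul_dvd_of_dvd_of_dvd h.1 h.2⟩, ⟨_, h2, h3.mul_dvd_of_dvd_of_dvd h.1 h.2⟩]

theorem sl2_degreeGraph {q : ℕ} (hq : Fintype.card F = q) (h4 : ¬ q - 1 ∣ 4) {S : Type*} [Group S]
    (hS : Nonempty (S ≃* Matrix.ProjectiveSpecialLinearGroup (Fin 2) F) ∨
      Nonempty (S ≃* SL(2, F))) :
    degreePrimes S = {r : ℕ | r.Prime ∧ r ∣ q * (q ^ 2 - 1)} ∧ ∀ r s : ℕ, (degreeGraph S).Adj r s ↔
      (r ≠ s ∧ r.Prime ∧ s.Prime ∧ ((r ∣ q + 1 ∧ s ∣ q + 1) ∨ (r ∣ q - 1 ∧ s ∣ q - 1))) := by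
  subst hq
  obtain ⟨φ, h1, h2⟩ : ∃ φ : SL(2, F) →* S, Function.Surjective φ ∧ φ.ker ≤ Subgroup.center _ := by
    rcases hS with ⟨⟨e⟩⟩ | ⟨⟨e⟩⟩
    · exact ⟨e.symm.toMonoidHom.comp (QuotientGroup.mk' _),
        e.symm.surjective.comp (QuotientGroup.mk'_surjective _), fun g hg => by simpa using hg⟩
    · exact ⟨e.symm.toMonoidHom, e.symm.surjective, fun g hg => by
        rw [show g = 1 by simpa using hg]; exact one_mem _⟩
  obtain ⟨St, h3, h5, h6⟩ := sl2_degrees φ h1 h2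
  exact degreeGraph_of_three (fun χ => (h5 χ).imp_left fun h => by rw [h, h3]) ⟨St, h3⟩ (h6 h4).1 (h6 h4).2
    (FiniteField.isPrimePow_card F)

end Cfsg
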