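import Cfsg.Agent.Blk.ConstDiff
import Cfsg.Agent.Blk.Steinberg
import Mathlib.LinearAlgebra.Projectivization.PSL.PSL2
import Mathlib.LinearAlgebra.Matrix.GeneralLinearGroup.Card

/-! Character values of `SL(2, 2ⁿ)` at involutions. -/

set_option autoImplicit false

namespace Cfsg

open scoped ComplexConjugate MatrixGroups

universe u v

theorem sub_apply_eq_of_simple {G : Type u} [Group G] [Finite G] [IsSimpleGroup G] {t : G}
    (ht1 : t ≠ 1) (ht : t * t = 1) {P : Subgroup G} (hC : Subgroup.centralizer {t} = P)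
    [IsMulCommutative P] (hc : ∀ v ∈ P, v ≠ 1 → IsConj t v)
    (hG : Nat.card G + Nat.card P ≤ Nat.card P ^ 3) (hk : Nat.card P < Nat.card (ConjClasses G))
    {χ : IrrCharacter G} (hχ : χ ≠ IrrCharacter.triv G) : χ.1 1 - χ.1 t = Nat.card P := by
  classical
  have htP : t ∈ P := hC ▸ Subgroup.mem_centralizer_singleton_iff.2 rfl
  obtain ⟨l, hl⟩ := exists_unitsHom_ne_one_of_comm (t := (⟨t, htP⟩ : P))
    fun h => ht1 (congrArg Subtype.val h)
  have h1 : ∀ ψ : IrrCharacter G, (Nat.card P : ℂ) * lmul P ψ.1 l = ψ.1 1 - ψ.1 t := fun ψ =>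
    ψ.isCharacter.card_mul_lmul_of_const (fun v hv hv1 =>
      (ψ.isClassFunction.eq_of_isConj (hc v hv hv1)).symm) fun h => hl (by rw [h]; rfl)
  have h2 : ∀ ψ ∈ Finset.univ.erase (IrrCharacter.triv G), 1 ≤ lmul P ψ.1 l ^ 2 := fun ψ hψ => by
    refine Nat.one_le_pow _ _ (Nat.pos_of_ne_zero fun h => Finset.ne_of_mem_erase hψ ?_)
    have h3 := h1 ψ
    rw [h, Nat.cast_zero, mul_zero, eq_comm, sub_eq_zero] at h3
    have h4 := (Subgroup.Normal.eq_bot_or_eq_top (inferInstance : (charKer ψ.1).Normal)).resolve_left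
      fun e => ht1 (Subgroup.mem_bot.1 (e ▸ ψ.mem_charKer.2 h3.symm))
    exact ψ.charKer_eq_top_iff.1 h4
  have h3 : Nat.card P ^ 2 * ∑ ψ : IrrCharacter G, lmul P ψ.1 l ^ 2 = Nat.card G + Nat.card P := by
    have e1 := sum_irr_mul_conj t t
    have e2 := sum_irr_one_mul t
    have e3 := sum_irr_one_mul (1 : G)
    rw [if_pos (IsConj.refl t), hC] at e1
    simp only [← IrrCharacter.apply_inv, inv_eq_of_mul_eq_one_right ht] at e1
    rw [if_neg ht1] at e2
    rw [if_pos rfl] at e3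
    refine Nat.cast_injective (R := ℂ) ?_
    push_cast
    rw [Finset.mul_sum, Finset.sum_congr rfl fun ψ _ => show (Nat.card P : ℂ) ^ 2 *
      (lmul P ψ.1 l : ℂ) ^ 2 = ψ.1 1 * ψ.1 1 + ψ.1 t * ψ.1 t - 2 * (ψ.1 1 * ψ.1 t) by rw [← mul_pow, h1]; ring, Finset.sum_sub_distrib,
      Finset.sum_add_distrib, ← Finset.mul_sum, e1, e2, e3, mul_zero, sub_zero]
  have h4 : ∑ ψ ∈ Finset.univ.erase (IrrCharacter.triv G), lmul P ψ.1 l ^ 2 ≤
      ∑ ψ ∈ Finset.univ.erase (IrrCharacter.triv G), 1 := by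
    rw [Finset.sum_const, Finset.card_erase_of_mem (Finset.mem_univ _), Finset.card_univ,
      ← Nat.card_eq_fintype_card, card_irrCharacter, smul_eq_mul, mul_one]
    refine (Finset.sum_le_sum_of_subset (Finset.erase_subset _ _)).trans (le_trans ?_
      (Nat.le_sub_one_of_lt hk))
    refine Nat.le_of_mul_le_mul_left ?_ (pow_pos (Nat.card_pos (α := P)) 2)
    rwa [h3, ← pow_succ]
  have h5 := (Finset.sum_eq_sum_iff_of_le h2).1 (le_antisymm (Finset.sum_le_sum h2) h4) χ
    (Finset.mem_erase.2 ⟨hχ, Finset.mem_univ _⟩)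
  rw [← h1, (Nat.pow_eq_one.1 h5.symm).resolve_right two_ne_zero, Nat.cast_one, mul_one]

variable {F : Type v} [Field F]

theorem center_sl2_eq_bot [CharP F 2] : Subgroup.center SL(2, F) = ⊥ := by
  rw [eq_bot_iff]
  intro A hA
  obtain ⟨r, hr, hA⟩ := Matrix.SpecialLinearGroup.mem_center_iff.1 hA
  rw [Fintype.card_fin, sq, mul_self_eq_one_iff, CharTwo.neg_eq, or_self] at hr
  rw [hr, map_one] at hA
  exact Subtype.ext hA.symm

/-- `PSL(2, F) ≅ SL(2, F)` in characteristic two -/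
noncomputable def psl2EquivOfCharTwo (F : Type v) [Field F] [CharP F 2] :
    Matrix.ProjectiveSpecialLinearGroup (Fin 2) F ≃* SL(2, F) :=
  (QuotientGroup.quotientMulEquivOfEq center_sl2_eq_bot).trans QuotientGroup.quotientBot

theorem card_sl2_add_le [Fintype F] :
    Nat.card SL(2, F) + Fintype.card F ≤ Fintype.card F ^ 3 := by
  classical
  have h1 := Subgroup.card_mul_index (Matrix.GeneralLinearGroup.det : GL (Fin 2) F →* Fˣ).ker
  rw [Subgroup.index_ker, MonoidHom.range_eq_top.2 Matrix.GeneralLinearGroup.det_surjective,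
    Subgroup.card_top, Matrix.card_GL_field, Fin.prod_univ_two, Nat.card_units,
    Nat.card_eq_fintype_card (α := F)] at h1
  have h2 : Nat.card SL(2, F) ≤
      Nat.card (Matrix.GeneralLinearGroup.det : GL (Fin 2) F →* Fˣ).ker :=
    Nat.card_le_card_of_injective (fun A => ⟨Matrix.SpecialLinearGroup.toGL A, by simp⟩)
      fun A B h => Matrix.SpecialLinearGroup.toGL_injective (congrArg Subtype.val h)
  obtain ⟨m, hm⟩ : ∃ m, Fintype.card F = m + 2 :=
    ⟨_, (Nat.sub_add_cancel Fintype.one_lt_card).symm⟩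
  rw [hm] at h1 ⊢
  simp only [Fin.val_zero, Fin.val_one, pow_zero, pow_one] at h1
  rw [show (m + 2) ^ 2 - 1 = (m + 1) * (m + 3) from Nat.sub_eq_of_eq_add (by ring),
    show (m + 2) ^ 2 - (m + 2) = (m + 2) * (m + 1) from Nat.sub_eq_of_eq_add (by ring),
    show m + 2 - 1 = m + 1 from rfl, ← mul_assoc] at h1
  rw [Nat.eq_of_mul_eq_mul_right m.succ_pos h1] at h2
  nlinarith

theorem isConj_slX_one [Finite F] [CharP F 2] {A : SL(2, F)} (h : A * A = 1) (h1 : A ≠ 1) :
    IsConj (slX 1) A := by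
  have h2 : (2 : F) = 0 := CharTwo.two_eq_zero
  have hinj : ∀ x y : F, x ^ 2 = y ^ 2 → x = y := fun x y e => frobenius_inj F 2 e
  obtain ⟨β, hβ⟩ := surjective_frobenius F 2 (A 0 1)
  obtain ⟨γ, hγ⟩ := surjective_frobenius F 2 (A 1 0)
  rw [frobenius_def] at hβ hγ
  have e0 := congrArg (fun B : SL(2, F) => B 0 0) h
  have e1 := congrArg (fun B : SL(2, F) => B 1 1) h
  simp [Matrix.mul_apply, Fin.sum_univ_two] at e0 e1
  have k0 : A 0 0 = 1 + β * γ := hinj _ _ (by
    rw [← hβ, ← hγ] at e0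
    linear_combination e0 - (β ^ 2 * γ ^ 2 + β * γ) * h2)
  have k1 : A 1 1 = 1 + β * γ := hinj _ _ (by
    rw [← hβ, ← hγ] at e1
    linear_combination e1 - (β ^ 2 * γ ^ 2 + β * γ) * h2)
  obtain ⟨y, w, hyw⟩ : ∃ y w : F, β * w - y * γ = 1 := by
    by_cases hb : β = 0
    · by_cases hc : γ = 0
      · refine absurd (sl2_ext ?_) h1
        ext i j
        fin_cases i <;> fin_cases j <;> simp [k0, k1, ← hβ, ← hγ, hb, hc]
      · exact ⟨-γ⁻¹, 0, by field_simp; ring⟩
    · exact ⟨0, β⁻¹, by field_simp; ring⟩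
  obtain ⟨g, hg⟩ : ∃ g : SL(2, F), (g : Matrix (Fin 2) (Fin 2) F) = !![β, y; γ, w] :=
    ⟨⟨!![β, y; γ, w], by simp [hyw]⟩, rfl⟩
  refine isConj_iff.2 ⟨g, mul_inv_eq_iff_eq_mul.2 (sl2_ext ?_)⟩
  rw [Matrix.SpecialLinearGroup.coe_mul, Matrix.SpecialLinearGroup.coe_mul, hg]
  ext i j
  fin_cases i <;> fin_cases j <;>
    simp [coe_slX, Matrix.mul_apply, Fin.sum_univ_two, k0, k1, ← hβ, ← hγ]
  · linear_combination -(β ^ 2 * γ) * h2
  · linear_combination -β * hyw - β * γ * y * h2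
  · linear_combination -(β * γ ^ 2) * h2
  · linear_combination -γ * hyw - γ ^ 2 * y * h2

theorem eq_slX_of_commute [CharP F 2] {A : SL(2, F)} (h : A * slX 1 = slX 1 * A) :
    A = slX (A 0 1) := by
  have e0 := congrArg (fun B : SL(2, F) => B 0 0) h
  have e1 := congrArg (fun B : SL(2, F) => B 0 1) h
  have e2 := A.det_coe
  rw [Matrix.det_fin_two] at e2
  simp [coe_slX, Matrix.mul_apply, Fin.sum_univ_two] at e0 e1
  have e3 : A 0 0 = A 1 1 := by linear_combination e1
  have e4 : A 1 1 = 1 := by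
    rw [e0, e3, mul_zero, sub_zero, mul_self_eq_one_iff, CharTwo.neg_eq, or_self] at e2
    exact e2
  refine sl2_ext ?_
  ext i j
  fin_cases i <;> fin_cases j <;> simp [coe_slX, e0, e3, e4]

theorem card_lt_card_conjClasses_sl2 [Fintype F] :
    Fintype.card F < Nat.card (ConjClasses SL(2, F)) := by
  obtain ⟨c, hc⟩ : ∃ c : F → SL(2, F), ∀ τ, (c τ : Matrix (Fin 2) (Fin 2) F) = !![0, -1; 1, τ] :=
    ⟨fun τ => ⟨!![0, -1; 1, τ], by simp⟩, fun _ => rfl⟩
  have h := Nat.card_le_card_of_injective (fun a : Option F => ConjClasses.mk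
    (a.elim 1 c)) fun a b e => by
      have h1 := ConjClasses.mk_eq_mk_iff_isConj.1 e
      have h2 : ∀ τ : F, ¬ IsConj (1 : SL(2, F)) (c τ) := fun τ h => by
        have := congrArg (fun B : SL(2, F) => (B : Matrix (Fin 2) (Fin 2) F) 0 0)
          (isConj_one_right.1 h)
        simp [hc] at this
      rcases a with _ | a <;> rcases b with _ | b
      · rfl
      · exact absurd h1 (h2 b)
      · exact absurd h1.symm (h2 a)
      · obtain ⟨g, hg⟩ := isConj_iff.1 h1
        have h3 := congrArg (fun B : SL(2, F) => (B : Matrix (Fin 2) (Fin 2) F).trace) hg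
        simp only [Matrix.SpecialLinearGroup.coe_mul] at h3
        rw [Matrix.trace_mul_cycle, ← Matrix.SpecialLinearGroup.coe_mul, inv_mul_cancel] at h3
        simpa [hc] using h3
  rwa [Nat.card_eq_fintype_card, Fintype.card_option] at h

theorem sl2_even_sub_apply [Fintype F] [CharP F 2] (h4 : 4 ≤ Fintype.card F) {t : SL(2, F)}
    (ht1 : t ≠ 1) (ht : t * t = 1) {χ : IrrCharacter SL(2, F)} (hχ : χ ≠ IrrCharacter.triv _) :
    χ.1 1 - χ.1 t = Fintype.card F := by
  have := Matrix.ProjectiveSpecialLinearGroup.rank_two_simple (F := F)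
    (by rwa [Nat.card_eq_fintype_card])
  have := (psl2EquivOfCharTwo F).symm.isSimpleGroup
  have h1 : ∀ a : F, slX a * slX a = 1 := fun a => by rw [← slX_add, CharTwo.add_self_eq_zero, slX_zero]
  have h2 : ∀ v ∈ Subgroup.centralizer ({slX 1} : Set SL(2, F)), v * v = 1 := fun v hv => by
    rw [eq_slX_of_commute (Subgroup.mem_centralizer_singleton_iff.1 hv), h1]
  have h3 : Nat.card (Subgroup.centralizer ({slX 1} : Set SL(2, F))) = Fintype.card F := by
    rw [← Nat.card_eq_fintype_card]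
    exact Nat.card_congr
      { toFun := fun A => A.1 0 1
        invFun := fun a => ⟨slX a, Subgroup.mem_centralizer_singleton_iff.2 (by
          rw [← slX_add, ← slX_add, add_comm])⟩
        left_inv := fun A => Subtype.ext
          (eq_slX_of_commute (Subgroup.mem_centralizer_singleton_iff.1 A.2)).symm
        right_inv := fun _ => rfl }
  have := isMulCommutative_of_mul_self h2
  rw [← χ.isClassFunction.eq_of_isConj (isConj_slX_one ht ht1), ← h3]
  refine sub_apply_eq_of_simple (fun h => ?_) (h1 1) rfl (fun v hv hv1 => isConj_slX_one (h2 v hv) hv1)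
    (h3 ▸ card_sl2_add_le) (h3 ▸ card_lt_card_conjClasses_sl2) hχ
  simpa [coe_slX] using congrArg (fun B : SL(2, F) => B 0 1) h

end Cfsg
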