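import Cfsg.Agent.CT.Unitary
import Cfsg.Agent.CT.Forms

/-!
# Blichfeldt's theorem on elements whose eigenvalues lie within sixty degrees of one of them
-/

set_option autoImplicit false

namespace Cfsg

open scoped ComplexConjugate ComplexOrder

universe u v

section mat
variable {n : Type v} [Fintype n] [DecidableEq n]

/-- the real part of the trace -/
noncomputable def reTr : Matrix n n ℂ →+ ℝ :=
  Complex.reAddGroupHom.comp (Matrix.traceAddMonoidHom n ℂ)

omit [DecidableEq n] in
theorem reTr_apply (A : Matrix n n ℂ) : reTr A = A.trace.re := rfl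

omit [DecidableEq n] in
theorem reTr_comm (A B : Matrix n n ℂ) : reTr (A * B) = reTr (B * A) := by
  rw [reTr_apply, Matrix.trace_mul_comm, reTr_apply]

omit [DecidableEq n] in
theorem reTr_star_mul_self_nonneg (A : Matrix n n ℂ) : 0 ≤ reTr (star A * A) :=
  (Complex.nonneg_iff.1 (Matrix.posSemidef_conjTranspose_mul_self A).trace_nonneg).1

omit [DecidableEq n] in
theorem eq_zero_of_reTr_star_mul_self {A : Matrix n n ℂ} (h : reTr (star A * A) ≤ 0) : A = 0 := by
  have h1 := Complex.nonneg_iff.1 (Matrix.posSemidef_conjTranspose_mul_self A).trace_nonneg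
  exact Matrix.trace_conjTranspose_mul_self_eq_zero_iff.1
    (Complex.ext (le_antisymm h h1.1) h1.2.symm)

variable {X π Q : Matrix n n ℂ}

theorem IsStarProjection.eq_of_mul_eq_of_reTr (hπ : IsStarProjection π) (hQ : IsStarProjection Q)
    (h : π * Q = Q) (ht : reTr π ≤ reTr Q) : π = Q := by
  have h' : Q * π = Q := by
    simpa [hπ.isSelfAdjoint.star_eq, hQ.isSelfAdjoint.star_eq] using congrArg star h
  refine sub_eq_zero.1 (eq_zero_of_reTr_star_mul_self ?_)
  rw [star_sub, hπ.isSelfAdjoint.star_eq, hQ.isSelfAdjoint.star_eq, sub_mul, mul_sub, mul_sub, h, h',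
    hπ.isIdempotentElem.eq, hQ.isIdempotentElem.eq, sub_self, sub_zero, map_sub]
  linarith

theorem reTr_mul_lt_of_sixty (hπ : IsStarProjection π) (hQ : IsStarProjection Q)
    (hD : ∀ A, 0 ≤ reTr (star A * (X + star X - 1 - π) * A)) (ht : reTr π = reTr Q)
    (hne : π ≠ Q) : reTr (π * Q) < reTr (Q * (X * Q * star X)) := by
  by_contra! hle
  have q1 := hQ.isIdempotentElem.eq
  have q2 : ∀ A, Q * (Q * A) = Q * A := fun A => by rw [← mul_assoc, q1]
  have p1 := hπ.isIdempotentElem.eq
  have p2 : ∀ A, π * (π * A) = π * A := fun A => by rw [← mul_assoc, p1]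
  have sq := hQ.isSelfAdjoint.star_eq
  have sp := hπ.isSelfAdjoint.star_eq
  have c1 : ∀ A, reTr (Q * (A * Q)) = reTr (Q * A) := fun A => by
    rw [← mul_assoc, reTr_comm, q2]
  have c2 : ∀ A, reTr (π * (A * π)) = reTr (π * A) := fun A => by
    rw [← mul_assoc, reTr_comm, p2]
  have h1 := reTr_star_mul_self_nonneg (Q * X * Q + Q * X * Q - (Q + Q * π * Q))
  have h2 := hD Q
  have h3 := hD (Q * π)
  have h4 : reTr (star (Q - Q * π * Q) * (Q - Q * π * Q)) ≤ 0 := by
    have e1 := c1 (star X * Q * X)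
    have e2 := c1 (star X * Q * π)
    have e3 := c1 (π * Q * X)
    have e4 := c1 (π * Q * π)
    have e5 := c2 (Q * X * Q)
    have e6 := c2 (Q * star X * Q)
    have e7 := c2 Q
    have e8 := c2 (Q * π * Q)
    have e9 := reTr_comm π (Q * X * Q)
    have e10 := reTr_comm π (Q * star X * Q)
    have e11 := reTr_comm π (Q * π * Q)
    have e12 := reTr_comm π Q
    have e13 := c1 π
    have e14 := reTr_comm (Q * X) (Q * star X)
    have e15 := reTr_comm (Q * π) (Q * X)
    have e16 := reTr_comm (Q * π) (Q * star X)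
    have e17 := c1 (X * Q * π)
    have e18 := reTr_comm (π * Q * X) Q
    have e19 := reTr_comm (π * Q * star X) Q
    have e20 := reTr_comm (π * Q * π) Q
    simp only [star_add, star_sub, star_mul, sq, sp, mul_add, add_mul, mul_sub, sub_mul, mul_assoc,
      q1, q2, p1, p2, mul_one, map_add, map_sub] at *
    linarith
  have h5 : Q * π * Q = Q := (sub_eq_zero.1 (eq_zero_of_reTr_star_mul_self h4)).symm
  have h6 : π * Q = Q := by
    refine (sub_eq_zero.1 (eq_zero_of_reTr_star_mul_self (A := Q - π * Q) ?_)).symm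
    rw [mul_assoc] at h5
    simp only [star_sub, star_mul, sq, sp, mul_sub, sub_mul, mul_assoc, q1, p2, h5]
    simp
  exact hne (IsStarProjection.eq_of_mul_eq_of_reTr hπ hQ h6 ht.le)

theorem commute_of_sixty (hX : star X * X = 1) (hπ : IsStarProjection π) (hQ : IsStarProjection Q)
    (hD : ∀ A, 0 ≤ reTr (star A * (X + star X - 1 - π) * A))
    (hc : Commute Q (X * Q * star X)) : Commute X Q := by
  have hX' : X * star X = 1 := mul_eq_one_comm.1 hX
  have x1 : ∀ A, star X * (X * A) = A := fun A => by rw [← mul_assoc, hX, one_mul]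
  have x2 : ∀ A, X * (star X * A) = A := fun A => by rw [← mul_assoc, hX', one_mul]
  have q1 := hQ.isIdempotentElem.eq
  have q2 : ∀ A, Q * (Q * A) = Q * A := fun A => by rw [← mul_assoc, q1]
  have sq := hQ.isSelfAdjoint.star_eq
  have h0 : ∀ A, Q * (X * (Q * (star X * A))) = X * (Q * (star X * (Q * A))) := fun A => by
    simpa only [mul_assoc] using congrArg (· * A) hc.eq
  have h1 : Q * (X * Q) = X * (Q * (star X * (Q * X))) := by
    simpa only [hX, mul_one] using h0 X
  -- the projection onto the vectors of `Q` that `X` moves out of `Q`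
  let W := Q - Q * star X * Q * X
  have h2 : Q * (X * W) = 0 := by
    simp only [W, mul_sub, mul_assoc, h0, h1, q2, sub_self]
  have h3 : star W = W := by
    simp only [W, star_sub, star_mul, star_star, sq, mul_assoc, h1, x1]
  have h4 : W * Q = W := by
    conv_lhs => rw [← h3]
    simp only [W, star_sub, star_mul, star_star, sq, mul_assoc, sub_mul, q1, q2, h1, x1]
  have h5 : W * (X * W) = 0 := by rw [← h4, mul_assoc, h4, h2, mul_zero]
  have h6 : W * (star X * W) = 0 := by
    simpa only [star_mul, h3, mul_assoc, star_zero] using congrArg star h5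
  have h7 := hD W
  have h8 := reTr_star_mul_self_nonneg (π * W)
  have h9 : W = 0 := eq_zero_of_reTr_star_mul_self (by
    rw [star_mul, hπ.isSelfAdjoint.star_eq, mul_assoc, ← mul_assoc π, hπ.isIdempotentElem.eq] at h8
    simp only [h3, mul_add, add_mul, mul_sub, sub_mul, mul_assoc, h5, h6, mul_one, map_add, map_sub,
      map_zero] at h7 h8 ⊢
    linarith)
  have h10 : IsStarProjection (X * Q * star X) :=
    ⟨by simp only [IsIdempotentElem, mul_assoc, x1, q2],
      by simp only [IsSelfAdjoint, star_mul, star_star, sq, mul_assoc]⟩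
  have h11 := IsStarProjection.eq_of_mul_eq_of_reTr hQ h10 (by
    have := congrArg (fun A => X * A * star X) (sub_eq_zero.1 h9)
    simp only [mul_assoc, hX', mul_one] at this
    rw [hc.eq]
    simpa only [mul_assoc] using this.symm) (by rw [reTr_comm, x1])
  have := congrArg (· * X) h11
  simp only [mul_assoc, hX, mul_one] at this
  exact this.symm

/-- the projection onto the fixed space of `X` when `X ^ o = 1` -/
noncomputable def fixProj (o : ℕ) (X : Matrix n n ℂ) : Matrix n n ℂ :=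
  (o : ℂ)⁻¹ • ∑ k ∈ Finset.range o, X ^ k

variable {o : ℕ}

theorem mul_fixProj (h : X ^ o = 1) : X * fixProj o X = fixProj o X := by
  rw [fixProj, mul_smul_comm, Finset.mul_sum]
  congr 1
  have := (Finset.sum_range_succ (X ^ ·) o).symm.trans (Finset.sum_range_succ' (X ^ ·) o)
  simp only [h, pow_zero, add_left_inj] at this
  simp only [← pow_succ', this]

theorem pow_mul_fixProj (h : X ^ o = 1) (k : ℕ) : X ^ k * fixProj o X = fixProj o X := by
  induction k with
  | zero => simp
  | succ k ih => rw [pow_succ, mul_assoc, mul_fixProj h, ih]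

theorem Commute.fixProj_left (h : Commute X Q) : Commute (fixProj o X) Q :=
  (Commute.sum_left _ _ _ fun k _ => h.pow_left k).smul_left _

theorem isStarProjection_fixProj (ho : o ≠ 0) (hX : star X * X = 1) (h : X ^ o = 1) :
    IsStarProjection (fixProj o X) := by
  have h1 : star X * fixProj o X = fixProj o X := by
    conv_lhs => rw [← mul_fixProj h, ← mul_assoc, hX, one_mul]
  have h2 : ∀ k, star X ^ k * fixProj o X = fixProj o X := fun k => by
    induction k with
    | zero => simp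
    | succ k ih => rw [pow_succ, mul_assoc, h1, ih]
  have ho' : (o : ℂ) ≠ 0 := Nat.cast_ne_zero.2 ho
  have h3 : star (fixProj o X) * fixProj o X = fixProj o X := by
    conv_lhs => rw [fixProj]
    simp only [star_smul, star_sum, star_pow, smul_mul_assoc, Finset.sum_mul]
    rw [← fixProj]
    simp [h2, ← Nat.cast_smul_eq_nsmul ℂ, smul_smul, ho']
  have h4 : star (fixProj o X) = fixProj o X := by
    rw [← h3, star_mul, star_star]
  exact ⟨by rwa [h4] at h3, h4⟩

theorem reTr_fixProj {ι : Type u} [Fintype ι] (ho : o ≠ 0) {δ : ι → ℂ} (h1 : ∀ i, δ i ^ o = 1)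
    (h2 : ∀ k : ℕ, (X ^ k).trace = ∑ i, δ i ^ k) :
    reTr (fixProj o X) = Nat.card {i // δ i = 1} := by
  classical
  have ho' : (o : ℂ) ≠ 0 := Nat.cast_ne_zero.2 ho
  rw [reTr_apply, fixProj, Matrix.trace_smul, Matrix.trace_sum]
  simp only [h2]
  rw [Finset.sum_comm, Finset.sum_congr rfl (g := fun i => if δ i = 1 then (o : ℂ) else 0)
    fun i _ => ?_, ← Finset.sum_filter, Finset.sum_const, Nat.card_eq_fintype_card,
    Fintype.card_subtype, nsmul_eq_mul, smul_eq_mul, mul_comm, mul_inv_cancel_right₀ ho',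
    Complex.natCast_re]
  split_ifs with h
  · simp [h]
  · rw [geom_sum_eq h, h1, sub_self, zero_div]

theorem reTr_nonneg_of_sixty {ι : Type u} [Fintype ι] (ho : o ≠ 0) (hX : star X * X = 1)
    (h : X ^ o = 1) {δ : ι → ℂ} (h1 : ∀ i, δ i ^ o = 1)
    (h2 : ∀ k : ℕ, (X ^ k).trace = ∑ i, δ i ^ k) (h3 : ∀ i, 1 / 2 ≤ (δ i).re)
    (A : Matrix n n ℂ) : 0 ≤ reTr (star A * (X + star X - 1 - fixProj o X) * A) := by
  obtain ⟨ω, hω⟩ : ∃ ω : ℂ, IsPrimitiveRoot ω o := ⟨_, Complex.isPrimitiveRoot_exp o ho⟩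
  have ho' : (o : ℂ) ≠ 0 := Nat.cast_ne_zero.2 ho
  have hω0 := hω.ne_zero ho
  have hn : ∀ j : ℕ, conj (ω ^ j) * ω ^ j = 1 := fun j => by
    rw [Complex.conj_mul', norm_pow, hω.norm'_eq_one ho]; simp
  let E : ℕ → Matrix n n ℂ := fun j => fixProj o (ω ^ j • X)
  have e1 : ∀ j : ℕ, (ω ^ j • X) ^ o = 1 := fun j => by
    rw [smul_pow, h, ← pow_mul, mul_comm, pow_mul, hω.pow_eq_one, one_pow, one_smul]
  have e2 : ∀ j : ℕ, star (ω ^ j • X) * (ω ^ j • X) = 1 := fun j => by
    rw [star_smul, smul_mul_smul_comm, hX, RCLike.star_def, hn, one_smul]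
  have e3 : ∀ j, IsStarProjection (E j) := fun j => isStarProjection_fixProj ho (e2 j) (e1 j)
  have e4 : ∀ j, X * E j = conj (ω ^ j) • E j := fun j => by
    rw [← show ω ^ j • X * E j = E j from mul_fixProj (e1 j), smul_mul_assoc, smul_smul, hn,
      one_smul, ← smul_mul_assoc, mul_fixProj (e1 j)]
  have e5 : ∀ j, star X * E j = ω ^ j • E j := fun j => by
    conv_rhs => rw [← one_mul (E j), ← hX, mul_assoc, e4, mul_smul_comm, smul_smul, mul_comm, hn,
      one_smul]
  have e6 : ∑ j ∈ Finset.range o, E j = 1 := by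
    simp only [E, fixProj, ← Finset.smul_sum, smul_pow]
    rw [Finset.sum_comm]
    simp only [← Finset.sum_smul]
    rw [Finset.sum_eq_single 0 (fun k hk hk0 => ?_) (by simp [ho])]
    · simp [smul_smul, ho']
    · simp only [← pow_mul, mul_comm _ k]
      simp only [pow_mul]
      rw [geom_sum_eq (hω.pow_ne_one_of_pos_of_lt hk0 (Finset.mem_range.1 hk)), ← pow_mul,
        mul_comm, pow_mul, hω.pow_eq_one, one_pow, sub_self, zero_div, zero_smul]
  have e7 : X + star X - 1 - fixProj o X = ∑ j ∈ Finset.range o,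
      ((2 * (ω ^ j).re - 1 - if j = 0 then 1 else 0 : ℝ) : ℂ) • E j := by
    have : fixProj o X = ∑ j ∈ Finset.range o, ((if j = 0 then 1 else 0 : ℝ) : ℂ) • E j := by
      rw [Finset.sum_eq_single 0 (fun k _ hk => by simp [hk]) (by simp [ho])]
      simp [E]
    rw [this, ← mul_one (X + star X - 1)]
    conv_lhs => arg 1; arg 2; rw [← e6]
    rw [Finset.mul_sum, ← Finset.sum_sub_distrib]
    refine Finset.sum_congr rfl fun j _ => ?_
    rw [sub_mul, add_mul, e4, e5, one_mul, ← add_smul, add_comm, Complex.add_conj]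
    push_cast
    rw [sub_smul, sub_smul, one_smul]
  rw [e7, Finset.mul_sum, Finset.sum_mul, map_sum]
  refine Finset.sum_nonneg fun j _ => ?_
  have e8 := reTr_star_mul_self_nonneg (E j * A)
  rw [star_mul, (e3 j).isSelfAdjoint.star_eq, mul_assoc, ← mul_assoc (E j),
    (e3 j).isIdempotentElem.eq, ← mul_assoc] at e8
  rw [mul_smul_comm, smul_mul_assoc, reTr_apply, Matrix.trace_smul, smul_eq_mul,
    Complex.re_ofReal_mul, ← reTr_apply]
  by_cases hj : ∃ i, ω ^ j * δ i = 1
  · obtain ⟨i, hi⟩ := hj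
    refine mul_nonneg ?_ e8
    split_ifs with h0
    · simp [h0]; norm_num
    · have : δ i = conj (ω ^ j) := by rw [← mul_one (conj _), ← hi, ← mul_assoc, hn, one_mul]
      have h4 := h3 i
      rw [this, Complex.conj_re] at h4
      linarith
  · have h4 := reTr_fixProj (X := ω ^ j • X) ho (δ := fun i => ω ^ j * δ i)
      (fun i => by rw [mul_pow, h1, ← pow_mul, mul_comm j, pow_mul, hω.pow_eq_one, one_pow, one_mul])
      fun k => by simp only [smul_pow, Matrix.trace_smul, h2, mul_pow, smul_eq_mul, Finset.mul_sum]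
    have : IsEmpty {i // ω ^ j * δ i = 1} := ⟨fun i => hj ⟨i.1, i.2⟩⟩
    have h5 : E j = 0 := eq_zero_of_reTr_star_mul_self (by
      rw [(e3 j).isSelfAdjoint.star_eq, (e3 j).isIdempotentElem.eq, h4]; simp)
    simp [h5]

end mat

variable {G : Type u} [Group G] [Finite G]

/-- **Blichfeldt**: if all eigenvalues of `x` lie within sixty degrees of the eigenvalue `c`, then
the `c`-eigenspace of `x` is invariant under the normal closure of `x` -/
theorem commute_fixProj_of_sixty {n : Type v} [Fintype n] [DecidableEq n]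
    (U : G →* Matrix n n ℂ) (hU : ∀ g, star (U g) * U g = 1) {x : G} {ι : Type*} [Fintype ι]
    {ε : ι → ℂ} (h1 : ∀ i, ε i ^ orderOf x = 1) (h2 : ∀ k : ℕ, (U (x ^ k)).trace = ∑ i, ε i ^ k)
    {c : ℂ} (hc : c ^ orderOf x = 1) (h3 : ∀ i, 1 / 2 ≤ (ε i * c⁻¹).re) {g : G}
    (hg : g ∈ Subgroup.normalClosure {x}) : Commute (U g) (fixProj (orderOf x) (c⁻¹ • U x)) := by
  have ho := (orderOf_pos x).ne'
  have hc1 : star c⁻¹ * c⁻¹ = 1 := by
    rw [RCLike.star_def, Complex.conj_mul', norm_inv, Complex.norm_eq_one_of_pow_eq_one hc ho]; simp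
  have hs : ∀ g, star (U g) = U g⁻¹ := fun g => by
    rw [← mul_one (star _), ← map_one U, ← mul_inv_cancel g, map_mul, ← mul_assoc, hU, one_mul]
  let X : G → Matrix n n ℂ := fun g => c⁻¹ • U (g * x * g⁻¹)
  let Q : G → Matrix n n ℂ := fun g => fixProj (orderOf x) (X g)
  have a1 : ∀ g, star (X g) * X g = 1 := fun g => by
    simp only [X]
    rw [star_smul, smul_mul_smul_comm, hU, hc1, one_smul]
  have a2 : ∀ g, X g ^ orderOf x = 1 := fun g => by
    simp only [X]
    rw [smul_pow, inv_pow, hc, ← map_pow, conj_pow, pow_orderOf_eq_one]; simp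
  have a3 : ∀ g (k : ℕ), (X g ^ k).trace = ∑ i, (ε i * c⁻¹) ^ k := fun g k => by
    simp only [X]
    rw [smul_pow, ← map_pow, conj_pow, Matrix.trace_smul, map_mul, Matrix.trace_mul_comm, ← map_mul,
      inv_mul_cancel_left, h2, smul_eq_mul, Finset.mul_sum]
    simp only [mul_pow, mul_comm]
  have a4 : ∀ i, (ε i * c⁻¹) ^ orderOf x = 1 := fun i => by rw [mul_pow, h1, inv_pow, hc]; simp
  have a5 : ∀ g, IsStarProjection (Q g) := fun g => isStarProjection_fixProj ho (a1 g) (a2 g)
  have a6 := fun g => reTr_nonneg_of_sixty ho (a1 g) (a2 g) a4 (a3 g) h3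
  have a7 : ∀ g h, reTr (Q g) = reTr (Q h) := fun g h =>
    (reTr_fixProj ho a4 (a3 g)).trans (reTr_fixProj ho a4 (a3 h)).symm
  have a8 : ∀ g h, X g * Q h * star (X g) = Q (g * x * g⁻¹ * h) := fun g h => by
    simp only [X, Q, fixProj]
    generalize g * x * g⁻¹ = y
    rw [star_smul, hs, smul_mul_assoc, smul_mul_smul_comm, mul_comm, hc1, one_smul,
      mul_smul_comm, smul_mul_assoc, Finset.mul_sum, Finset.sum_mul]
    congr 1
    refine Finset.sum_congr rfl fun k _ => ?_
    rw [smul_pow, smul_pow, mul_smul_comm, smul_mul_assoc, ← map_pow, ← map_pow, ← map_mul,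
      ← map_mul, conj_pow, conj_pow]
    congr 2
    group
  have key : ∀ g h, Commute (X g) (Q h) := by
    by_contra! hne
    obtain ⟨⟨g, h⟩, h4, h5⟩ := Set.exists_max_image {t : G × G | ¬ Commute (X t.1) (Q t.2)}
      (fun t => reTr (Q t.1 * Q t.2)) (Set.toFinite _) (by
        obtain ⟨g, h, hne⟩ := hne
        exact ⟨(g, h), hne⟩)
    have h6 := reTr_mul_lt_of_sixty (a5 g) (a5 h) (a6 g) (a7 g h) fun h6 => h4 (by
      simp only [← h6]
      exact (Commute.fixProj_left (Commute.refl _)).symm)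
    refine h4 (commute_of_sixty (a1 g) (a5 g) (a5 h) (a6 g) (Commute.fixProj_left ?_))
    rw [a8] at h6 ⊢
    by_contra h7
    exact (h5 (h, _) h7).not_gt h6
  have h4 : Q 1 = fixProj (orderOf x) (c⁻¹ • U x) := by simp [Q, X]
  rw [← h4]
  induction hg using Subgroup.closure_induction with
  | mem y hy =>
    obtain ⟨a, rfl, hy'⟩ := Group.mem_conjugatesOfSet_iff.1 hy
    obtain ⟨g, rfl⟩ := isConj_iff.1 hy'
    have := (key g 1).smul_left c
    rwa [smul_smul, mul_inv_cancel₀ (ne_zero_pow ho (hc ▸ one_ne_zero)), one_smul] at this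
  | one => simp
  | mul y z _ _ hy hz => rw [map_mul]; exact hy.mul_left hz
  | inv y _ hy =>
    have := congrArg star hy.eq
    rw [star_mul, star_mul, (a5 1).isSelfAdjoint.star_eq, hs] at this
    exact this.symm

/-- **Blichfeldt**: an element generating `G` as a normal subgroup whose eigenvalues lie within
sixty degrees of one of them acts as a scalar -/
theorem IrrCharacter.eq_of_sixty (χ : IrrCharacter G) {x : G}
    (hx : Subgroup.normalClosure {x} = ⊤) {ι : Type*} [Fintype ι] {ε : ι → ℂ}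
    (h1 : ∀ i, ε i ^ orderOf x = 1) (h2 : ∀ k : ℕ, χ.1 (x ^ k) = ∑ i, ε i ^ k) (i₀ : ι)
    (h3 : ∀ i, 1 / 2 ≤ (ε i * (ε i₀)⁻¹).re) (i : ι) : ε i = ε i₀ := by
  classical
  obtain ⟨n, U, hU, hχ⟩ := χ.isCharacter.exists_unitary_matrix
  have ho := (orderOf_pos x).ne'
  have h0 : ε i₀ ≠ 0 := ne_zero_pow ho (h1 i₀ ▸ _root_.one_ne_zero)
  simp only [hχ] at h2
  obtain ⟨c, hc⟩ := matrix_schur_scalar (X := U) (funext hχ ▸ χ.2) fun g =>
    (commute_fixProj_of_sixty U hU h1 h2 (h1 i₀) h3 (g := g) (hx ▸ Subgroup.mem_top g)).symm.eq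
  have a4 : ∀ i, (ε i * (ε i₀)⁻¹) ^ orderOf x = 1 := fun i => by
    rw [mul_pow, h1, inv_pow, h1]; simp
  have a3 : ∀ k : ℕ, (((ε i₀)⁻¹ • U x) ^ k).trace = ∑ i, (ε i * (ε i₀)⁻¹) ^ k := fun k => by
    rw [smul_pow, ← map_pow, Matrix.trace_smul, h2, smul_eq_mul, Finset.mul_sum]
    simp only [mul_pow, mul_comm]
  have a2 : ((ε i₀)⁻¹ • U x) ^ orderOf x = 1 := by
    rw [smul_pow, inv_pow, h1, ← map_pow, pow_orderOf_eq_one]; simp
  have h4 := reTr_fixProj ho a4 a3
  have h5 := mul_fixProj a2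
  have hc0 : c ≠ 0 := fun h => by
    have : Nonempty {i // ε i * (ε i₀)⁻¹ = 1} := ⟨⟨i₀, mul_inv_cancel₀ h0⟩⟩
    rw [hc, h, zero_smul, map_zero, eq_comm, Nat.cast_eq_zero] at h4
    exact Nat.card_pos.ne' h4
  rw [hc, mul_smul_comm, mul_one, (smul_right_injective _ hc0).eq_iff] at h5
  rw [h5] at a3 h4
  have h6 : fixProj (orderOf x) (1 : Matrix (Fin n) (Fin n) ℂ) = 1 := by
    simp [fixProj, ← Nat.cast_smul_eq_nsmul ℂ, smul_smul, ho]
  have h7 := a3 0
  simp only [pow_zero, Finset.sum_const, Finset.card_univ, nsmul_eq_mul, mul_one] at h7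
  rw [h6, reTr_apply, h7, Complex.natCast_re, Nat.cast_inj, Nat.card_eq_fintype_card,
    Fintype.card_subtype, eq_comm, Finset.card_eq_iff_eq_univ, Finset.filter_eq_self] at h4
  exact (mul_inv_eq_one₀ h0).1 (h4 i (Finset.mem_univ i))

end Cfsg
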