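import Cfsg.Agent.CT.SymFrob

/-!
# Beta-sets, completeness, column orthogonality and `p`-classes of beta-sets
-/

set_option autoImplicit false

namespace Cfsg
namespace SymCh

open Finset Equiv

variable {N : ℕ}

/-- Triangular numbers. -/
def tri (N : ℕ) : ℕ := ∑ i ∈ range N, i

theorem sum_del : ∑ i, del N i = tri N := by
  simp only [del, tri]
  rw [Fin.sum_univ_eq_sum_range (fun i => (i : ℤ)) N]
  push_cast; rfl

/-- Beta-sets with `N` beads and weight `m`. -/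
def bs (N m : ℕ) : Finset (Finset ℕ) :=
  ((range (m + tri N + 1)).powersetCard N).filter fun X => ∑ x ∈ X, x = m + tri N

theorem mem_bs {m : ℕ} {X : Finset ℕ} : X ∈ bs N m ↔ #X = N ∧ ∑ x ∈ X, x = m + tri N := by
  simp only [bs, mem_filter, mem_powersetCard]
  refine ⟨fun h => ⟨h.1.2, h.2⟩, fun h => ⟨⟨fun x hx => ?_, h.1⟩, h.2⟩⟩
  have := single_le_sum (f := fun x : ℕ => x) (fun _ _ => Nat.zero_le _) hx
  simp only [mem_range]
  omega

/-- The increasing labelling of a beta-set. -/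
def lab (N : ℕ) (X : Finset ℕ) : Fin N → ℤ :=
  fun i => if h : #X = N then (X.orderEmbOfFin h i : ℤ) else 0

/-- The character value attached to a beta-set. -/
noncomputable def ph (N : ℕ) (X : Finset ℕ) (ρ : Multiset ℕ) : ℚ := phi (lab N X) ρ

theorem lab_nonneg (X : Finset ℕ) (i : Fin N) : 0 ≤ lab N X i := by
  unfold lab; split_ifs <;> simp

theorem lab_eq {X : Finset ℕ} (h : #X = N) (i : Fin N) : lab N X i = X.orderEmbOfFin h i := by
  simp [lab, h]

theorem lab_strictMono {X : Finset ℕ} (h : #X = N) : StrictMono (lab N X) := fun i j hij => by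
  rw [lab_eq h, lab_eq h]
  exact_mod_cast (X.orderEmbOfFin h).strictMono hij

theorem sum_lab {X : Finset ℕ} (h : #X = N) {A : Type*} [AddCommMonoid A] (f : ℤ → A) :
    ∑ i, f (lab N X i) = ∑ x ∈ X, f x := by
  conv_rhs => rw [← X.map_orderEmbOfFin_univ h, sum_map]
  simp [lab_eq h]

theorem mem_iff_lab {X : Finset ℕ} (h : #X = N) {x : ℕ} : x ∈ X ↔ ∃ i, lab N X i = x := by
  conv_lhs => rw [← X.image_orderEmbOfFin_univ h, mem_image]
  simp [lab_eq h]

theorem sum_lab_of_mem {m : ℕ} {X : Finset ℕ} (h : X ∈ bs N m) :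
    ∑ i, lab N X i = m + ∑ i, del N i := by
  rw [mem_bs] at h
  rw [sum_lab h.1 (fun x => x), sum_del, ← Nat.cast_sum]
  exact_mod_cast h.2

theorem tri_le_sum (X : Finset ℕ) : tri #X ≤ ∑ x ∈ X, x := by
  have h := sum_del_le (lab_strictMono (X := X) rfl).injective (lab_nonneg X)
  rw [sum_lab rfl (fun x => x), sum_del, ← Nat.cast_sum] at h
  exact_mod_cast h

theorem lab_image {f : Fin N → ℕ} (hf : StrictMono f) (i : Fin N) :
    lab N (univ.image f) i = f i := by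
  have hc : #(univ.image f) = N := by
    rw [card_image_of_injective _ hf.injective]; simp
  rw [lab_eq hc, ← orderEmbOfFin_unique hc (by simp) hf]

theorem exists_lab_comp {β : Fin N → ℤ} (h : Function.Injective β) (h0 : ∀ i, 0 ≤ β i) :
    ∃ X : Finset ℕ, #X = N ∧ ∃ w : Perm (Fin N), β = lab N X ∘ w := by
  obtain ⟨w, hw⟩ := exists_strictMono_comp h
  have hf : StrictMono fun i => (β (w i)).toNat := fun i j hij => by
    have := hw hij
    have := h0 (w i)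
    simp only [Function.comp_apply] at *
    omega
  refine ⟨univ.image fun i => (β (w i)).toNat, ?_, w⁻¹, ?_⟩
  · rw [card_image_of_injective _ hf.injective]; simp
  · funext i
    simp only [Function.comp_apply, lab_image hf]
    have := h0 i
    simp; omega

theorem dp_lab {X Y : Finset ℕ} (hX : #X = N) (hY : #Y = N) :
    dp (lab N X) (lab N Y) = if X = Y then 1 else 0 := by
  rw [dp, if_pos (lab_nonneg X)]
  split_ifs with h
  · rw [h, dd_self (lab_strictMono hY).injective]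
  · by_contra hc
    obtain ⟨w, hw⟩ := exists_of_dd_ne_zero hc
    refine h (eq_of_subset_of_card_le (fun x hx => ?_) (by omega))
    obtain ⟨i, hi⟩ := (mem_iff_lab hX).1 hx
    exact (mem_iff_lab hY).2 ⟨w i, by rw [← hi, hw]; rfl⟩

theorem sum_ph_mul_ph {m : ℕ} {X Y : Finset ℕ} (hX : X ∈ bs N m) (hY : Y ∈ bs N m) :
    ∑ ρ ∈ ptn m, ph N X ρ * ph N Y ρ / zz ρ = if X = Y then 1 else 0 := by
  unfold ph
  rw [sum_phi_mul_phi m _ _ (sum_lab_of_mem hX), dp_lab (mem_bs.1 hX).1 (mem_bs.1 hY).1]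

theorem card_ptn_le {m : ℕ} (h : m ≤ N) : #(ptn m) ≤ #(bs N m) := by
  refine card_le_card_of_surjOn
    (fun X => ((univ : Finset (Fin N)).val.map fun i => (lab N X i - i).toNat).filter (0 < ·)) ?_
  intro ρ hρ
  rw [mem_coe, mem_ptn] at hρ
  have hc : Multiset.card ρ ≤ N := by
    refine le_trans ?_ (hρ.1 ▸ h)
    simpa using Multiset.card_nsmul_le_sum (s := ρ) (a := 1) hρ.2
  set l := (ρ + Multiset.replicate (N - Multiset.card ρ) 0).sort (· ≤ ·) with hl
  have hlen : l.length = N := by simp [hl]; omega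
  let lam : Fin N → ℕ := fun i => l.get (i.cast hlen.symm)
  have hmono : Monotone lam := fun i j hij =>
    (Multiset.pairwise_sort _ _).sortedLE.monotone_get (by simpa using hij)
  have hmap : (univ : Finset (Fin N)).val.map lam =
      ρ + Multiset.replicate (N - Multiset.card ρ) 0 := by
    rw [Fin.univ_val_map, ← Multiset.sort_eq (ρ + _) (· ≤ ·), ← hl]
    congr 1
    conv_rhs => rw [← List.ofFn_get l]
    exact (List.ofFn_congr hlen _).symm
  have hf : StrictMono fun i : Fin N => lam i + i := fun i j hij =>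
    add_lt_add_of_le_of_lt (hmono hij.le) hij
  refine ⟨univ.image fun i : Fin N => lam i + i, ?_, ?_⟩
  · rw [mem_coe, mem_bs]
    refine ⟨by rw [card_image_of_injective _ hf.injective]; simp, ?_⟩
    rw [sum_image (fun i _ j _ h => hf.injective h), sum_add_distrib, tri,
      Fin.sum_univ_eq_sum_range (fun i => i) N]
    congr 1
    rw [Finset.sum, hmap]
    simp [hρ.1]
  · simp only [lab_image hf]
    have : (fun i : Fin N => (((lam i + i : ℕ) : ℤ) - i).toNat) = lam := by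
      funext i; simp
    rw [this, hmap, Multiset.filter_add, Multiset.filter_eq_self.2 hρ.2,
      Multiset.filter_eq_nil.2, add_zero]
    intro a ha
    simp [Multiset.eq_of_mem_replicate ha]

theorem mat_mul_eq_one (N m : ℕ) :
    (Matrix.of fun (X : bs N m) (ρ : ptn m) => ph N X ρ) *
      (Matrix.of fun (ρ : ptn m) (X : bs N m) => ph N X ρ / zz ρ) = 1 := by
  ext X Y
  simp only [Matrix.mul_apply, Matrix.of_apply, Matrix.one_apply, Subtype.ext_iff]
  rw [← sum_ph_mul_ph X.2 Y.2, ← sum_coe_sort (ptn m)]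
  exact sum_congr rfl fun ρ _ => (mul_div_assoc _ _ _).symm

theorem card_bs_le (N m : ℕ) : #(bs N m) ≤ #(ptn m) := by
  have h := Matrix.rank_mul_le_left (Matrix.of fun (X : bs N m) (ρ : ptn m) => ph N X ρ)
    (Matrix.of fun (ρ : ptn m) (X : bs N m) => ph N X ρ / zz ρ)
  rw [mat_mul_eq_one, Matrix.rank_one] at h
  simpa using h.trans (Matrix.rank_le_card_width _)

theorem card_bs {m : ℕ} (h : m ≤ N) : #(bs N m) = #(ptn m) :=
  le_antisymm (card_bs_le N m) (card_ptn_le h)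

/-- Column orthogonality. -/
theorem sum_bs_ph_mul_ph {m : ℕ} (h : m ≤ N) {ρ σ : Multiset ℕ} (hρ : ρ ∈ ptn m)
    (hσ : σ ∈ ptn m) :
    ∑ X ∈ bs N m, ph N X ρ * ph N X σ = if ρ = σ then (zz ρ : ℚ) else 0 := by
  have h1 := (Matrix.mul_eq_one_comm_of_card_eq _ _ _ (by simp [card_bs h])).1 (mat_mul_eq_one N m)
  have h2 := congrFun (congrFun h1 ⟨ρ, hρ⟩) ⟨σ, hσ⟩
  simp only [Matrix.mul_apply, Matrix.of_apply, Matrix.one_apply, Subtype.ext_iff] at h2
  rw [sum_coe_sort (bs N m) (fun X => ph N X ρ / zz ρ * ph N X σ)] at h2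
  have hz : (zz ρ : ℚ) ≠ 0 := by exact_mod_cast (zz_pos (mem_ptn.1 hρ).2).ne'
  have h3 : ∑ X ∈ bs N m, ph N X ρ * ph N X σ =
      zz ρ * ∑ X ∈ bs N m, ph N X ρ / zz ρ * ph N X σ := by
    rw [mul_sum]
    exact sum_congr rfl fun X _ => by field_simp
  rw [h3, h2]
  simp

/-! ### Classes modulo `p` -/

variable {p : ℕ}

/-- The number of beads on each runner of the `p`-abacus. -/
def cls (p : ℕ) (β : Fin N → ℤ) : Fin p → ℕ := fun j => #{i | β i % p = (j : ℕ)}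

/-- The number of beads on each runner, for a beta-set. -/
def clsF (p : ℕ) (X : Finset ℕ) : Fin p → ℕ := fun j => #{x ∈ X | x % p = j}

theorem cls_comp (β : Fin N → ℤ) (w : Perm (Fin N)) : cls p (β ∘ w) = cls p β := by
  funext j
  simp only [cls, card_filter]
  exact Equiv.sum_comp w (fun i => if β i % p = (j : ℕ) then 1 else 0)

theorem cls_lab {X : Finset ℕ} (h : #X = N) : cls p (lab N X) = clsF p X := by
  funext j
  simp only [cls, clsF, card_filter]
  rw [sum_lab h (fun x => if x % p = (j : ℕ) then 1 else 0)]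
  refine sum_congr rfl fun x _ => if_congr ?_ rfl rfl
  exact_mod_cast Iff.rfl

theorem sub_single_emod (β : Fin N → ℤ) (i k : Fin N) {r : ℕ} (hr : p ∣ r) :
    (β - Pi.single i (r : ℤ) : Fin N → ℤ) k % p = β k % p := by
  obtain ⟨t, rfl⟩ := hr
  simp only [Pi.sub_apply, Pi.single_apply]
  split_ifs
  · push_cast; rw [Int.sub_mul_emod_self_left]
  · simp

theorem cls_sub_single (β : Fin N → ℤ) (i : Fin N) {r : ℕ} (hr : p ∣ r) :
    cls p (β - Pi.single i (r : ℤ)) = cls p β := by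
  funext j
  simp only [cls, sub_single_emod β i _ hr]

/-- The beta-sets in a class. -/
def bc (N p : ℕ) (c : Fin p → ℕ) (m : ℕ) : Finset (Finset ℕ) :=
  (bs N m).filter fun X => clsF p X = c

theorem mem_bc {c : Fin p → ℕ} {m : ℕ} {X : Finset ℕ} :
    X ∈ bc N p c m ↔ X ∈ bs N m ∧ clsF p X = c := mem_filter

/-- The Gram kernel of a class. -/
noncomputable def mm (N p : ℕ) (c : Fin p → ℕ) (m : ℕ) (ρ σ : Multiset ℕ) : ℚ :=
  ∑ X ∈ bc N p c m, ph N X ρ * ph N X σ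

theorem sum_mm_mul_ph (c : Fin p → ℕ) {m : ℕ} (ρ : Multiset ℕ) {Y : Finset ℕ} (hY : Y ∈ bs N m) :
    ∑ σ ∈ ptn m, mm N p c m ρ σ / zz σ * ph N Y σ = if clsF p Y = c then ph N Y ρ else 0 := by
  have : ∀ σ ∈ ptn m, mm N p c m ρ σ / zz σ * ph N Y σ =
      ∑ X ∈ bc N p c m, ph N X ρ * (ph N X σ * ph N Y σ / zz σ) := by
    intro σ _
    rw [mm, sum_div, sum_mul]
    exact sum_congr rfl fun X _ => by ring
  rw [sum_congr rfl this, sum_comm]
  simp_rw [← mul_sum]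
  rw [sum_congr rfl fun X hX => by rw [sum_ph_mul_ph (mem_bc.1 hX).1 hY]]
  simp [mem_bc, hY]

theorem cls_expand (c : Fin p → ℕ) {m : ℕ} {ρ : Multiset ℕ} (hρ : ρ.sum = m) (β : Fin N → ℤ) :
    (if cls p β = c then phi β ρ else 0) = ∑ σ ∈ ptn m, mm N p c m ρ σ / zz σ * phi β σ := by
  by_cases hi : Function.Injective β
  swap
  · simp [phi_eq_zero_of_not_injective hi]
  by_cases h0 : ∀ i, 0 ≤ β i
  swap
  · push Not at h0
    obtain ⟨i, hi⟩ := h0
    simp [phi_eq_zero_of_neg hi]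
  by_cases hs : ∑ i, β i = m + ∑ i, del N i
  swap
  · have : ∀ σ : Multiset ℕ, σ.sum = m → phi β σ = 0 := fun σ hσ => by
      by_contra hc
      exact hs (hσ ▸ sum_eq_of_phi_ne_zero hc)
    rw [this ρ hρ, sum_eq_zero fun σ hσ => by rw [this σ (mem_ptn.1 hσ).1, mul_zero]]
    simp
  obtain ⟨X, hX, w, rfl⟩ := exists_lab_comp hi h0
  have hX' : X ∈ bs N m := by
    rw [mem_bs]
    refine ⟨hX, ?_⟩
    rw [show ∑ i, (lab N X ∘ w) i = ∑ i, lab N X i from Equiv.sum_comp w _,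
      sum_lab hX (fun x => x), sum_del, ← Nat.cast_sum] at hs
    exact_mod_cast hs
  simp_rw [phi_comp, cls_comp, cls_lab hX, mul_left_comm _ (sg w), ← mul_sum]
  have := sum_mm_mul_ph c ρ hX'
  unfold ph at this
  rw [this]
  simp

theorem cls_expand_add (c : Fin p → ℕ) {m : ℕ} {ρ : Multiset ℕ} (hρ : ρ.sum = m)
    {ν : Multiset ℕ} (hν : ∀ r ∈ ν, p ∣ r) (β : Fin N → ℤ) :
    (if cls p β = c then phi β (ν + ρ) else 0) =
      ∑ σ ∈ ptn m, mm N p c m ρ σ / zz σ * phi β (ν + σ) := by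
  induction ν using Multiset.induction_on generalizing β with
  | empty => simpa using cls_expand c hρ β
  | cons r ν ih =>
    simp_rw [Multiset.cons_add, phi_cons, mul_sum]
    rw [sum_comm]
    have := fun i => ih (fun s hs => hν s (by simp [hs])) (β - Pi.single i (r : ℤ))
    simp_rw [← this, cls_sub_single β _ (hν r (by simp))]
    split_ifs <;> simp

theorem mm_add (c : Fin p → ℕ) {m : ℕ} {ρ : Multiset ℕ} (hρ : ρ.sum = m)
    {ν : Multiset ℕ} (hν : ∀ r ∈ ν, p ∣ r) (hν0 : ∀ r ∈ ν, 0 < r) (hN : ν.sum + m ≤ N)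
    {τ : Multiset ℕ} (hτ : τ ∈ ptn (ν.sum + m)) :
    mm N p c (ν.sum + m) (ν + ρ) τ =
      ∑ σ ∈ ptn m, mm N p c m ρ σ / zz σ * if ν + σ = τ then (zz τ : ℚ) else 0 := by
  have h1 : mm N p c (ν.sum + m) (ν + ρ) τ = ∑ X ∈ bs N (ν.sum + m),
      (if cls p (lab N X) = c then phi (lab N X) (ν + ρ) else 0) * ph N X τ := by
    rw [mm, bc, sum_filter]
    refine sum_congr rfl fun X hX => ?_
    rw [cls_lab (mem_bs.1 hX).1]
    split_ifs <;> simp [ph]
  rw [h1]
  simp_rw [cls_expand_add c hρ hν, sum_mul]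
  rw [sum_comm]
  refine sum_congr rfl fun σ hσ => ?_
  simp_rw [mul_assoc, ← mul_sum]
  congr 1
  have hνσ : ν + σ ∈ ptn (ν.sum + m) := by
    rw [mem_ptn] at hσ ⊢
    refine ⟨by simp [hσ.1], fun r hr => ?_⟩
    rcases Multiset.mem_add.1 hr with h | h
    exacts [hν0 r h, hσ.2 r h]
  have := sum_bs_ph_mul_ph hN hνσ hτ
  unfold ph at this ⊢
  rw [this]
  split_ifs with h
  · rw [h]
  · rfl

theorem mm_add_add (c : Fin p → ℕ) {m : ℕ} {ρ : Multiset ℕ} (hρ : ρ ∈ ptn m)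
    (hreg : ∀ r ∈ ρ, ¬ p ∣ r)
    {ν : Multiset ℕ} (hν : ∀ r ∈ ν, p ∣ r) (hν0 : ∀ r ∈ ν, 0 < r) (hN : ν.sum + m ≤ N) :
    mm N p c (ν.sum + m) (ν + ρ) (ν + ρ) = zz ν * mm N p c m ρ ρ := by
  have hνρ : ν + ρ ∈ ptn (ν.sum + m) := by
    rw [mem_ptn] at hρ ⊢
    refine ⟨by simp [hρ.1], fun r hr => ?_⟩
    rcases Multiset.mem_add.1 hr with h | h
    exacts [hν0 r h, hρ.2 r h]
  rw [mm_add c (mem_ptn.1 hρ).1 hν hν0 hN hνρ]
  simp only [add_right_inj, mul_ite, mul_zero, sum_ite_eq', hρ, if_true]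
  rw [zz_add fun r h1 h2 => hreg r h2 (hν r h1)]
  have hz : (zz ρ : ℚ) ≠ 0 := by exact_mod_cast (zz_pos (mem_ptn.1 hρ).2).ne'
  push_cast
  field_simp

theorem mm_eq_zero (c : Fin p → ℕ) {m : ℕ} (hN : m ≤ N) {ρ τ : Multiset ℕ} (hρ : ρ ∈ ptn m)
    (hτ : τ ∈ ptn m) (hs : ¬ ∀ r ∈ ρ, ¬ p ∣ r) (hreg : ∀ r ∈ τ, ¬ p ∣ r) :
    mm N p c m ρ τ = 0 := by
  push Not at hs
  obtain ⟨r, hr, hpr⟩ := hs
  obtain ⟨ρ', rfl⟩ := Multiset.exists_cons_of_mem hr
  have h1 := (mem_ptn.1 hρ).1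
  have h2 := (mem_ptn.1 hρ).2 r hr
  have := mm_add (N := N) c (ρ := ρ') rfl (ν := {r}) (by simpa) (by simpa)
    (by simp at h1 ⊢; omega) (τ := τ) (by simp at h1 ⊢; rwa [h1])
  rw [Multiset.sum_singleton, Multiset.singleton_add] at this
  rw [Multiset.sum_cons] at h1
  rw [← h1, this]
  refine sum_eq_zero fun σ _ => ?_
  rw [if_neg, mul_zero]
  rintro rfl
  exact hreg r (by simp) hpr

/-- The `p`-regular partitions. -/
def rptn (p m : ℕ) : Finset (Multiset ℕ) := (ptn m).filter fun ρ => ∀ r ∈ ρ, ¬ p ∣ r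

theorem mem_rptn {m : ℕ} {ρ : Multiset ℕ} : ρ ∈ rptn p m ↔ ρ ∈ ptn m ∧ ∀ r ∈ ρ, ¬ p ∣ r :=
  mem_filter

/-- Different classes are orthogonal on the `p`-regular partitions. -/
theorem sum_rptn_eq_zero {m : ℕ} (hN : m ≤ N) {X Y : Finset ℕ} (hX : X ∈ bs N m)
    (hY : Y ∈ bs N m) (h : clsF p X ≠ clsF p Y) :
    ∑ ρ ∈ rptn p m, ph N X ρ * ph N Y ρ / zz ρ = 0 := by
  set c := clsF p X with hc
  set a : Finset ℕ → ℚ := fun Z => ∑ ρ ∈ rptn p m, ph N Z ρ * ph N Y ρ / zz ρ with ha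
  have h1 : ∀ ρ ∈ ptn m, ∑ Z ∈ bc N p c m, ph N Z ρ * a Z = 0 := by
    intro ρ hρ
    have h2 : ∑ Z ∈ bc N p c m, ph N Z ρ * a Z =
        ∑ σ ∈ rptn p m, mm N p c m ρ σ / zz σ * ph N Y σ := by
      simp only [ha, mul_sum, mm, sum_div, sum_mul]
      rw [sum_comm]
      exact sum_congr rfl fun σ _ => sum_congr rfl fun Z _ => by ring
    rw [h2]
    by_cases hr : ∀ r ∈ ρ, ¬ p ∣ r
    · have h3 := sum_mm_mul_ph c ρ hY
      rw [if_neg (Ne.symm h)] at h3
      rw [← h3, rptn]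
      refine sum_filter_of_ne fun σ hσ hne => ?_
      by_contra hs
      apply hne
      have : mm N p c m ρ σ = mm N p c m σ ρ := sum_congr rfl fun _ _ => mul_comm _ _
      rw [this, mm_eq_zero c hN hσ hρ hs hr]
      simp
    · refine sum_eq_zero fun σ hσ => ?_
      rw [mm_eq_zero c hN hρ (mem_rptn.1 hσ).1 hr (mem_rptn.1 hσ).2]
      simp
  have h4 : ∑ ρ ∈ ptn m, (∑ Z ∈ bc N p c m, ph N Z ρ * a Z) * (ph N X ρ / zz ρ) = a X := by
    simp_rw [sum_mul]
    rw [sum_comm]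
    have : ∀ Z ∈ bc N p c m, ∑ ρ ∈ ptn m, ph N Z ρ * a Z * (ph N X ρ / zz ρ) =
        if Z = X then a Z else 0 := by
      intro Z hZ
      have := sum_ph_mul_ph (mem_bc.1 hZ).1 hX
      calc _ = a Z * ∑ ρ ∈ ptn m, ph N Z ρ * ph N X ρ / zz ρ := by
            rw [mul_sum]; exact sum_congr rfl fun _ _ => by ring
        _ = _ := by rw [this]; simp
    rw [sum_congr rfl this]
    simp [mem_bc, hX, hc]
  rw [sum_eq_zero fun ρ hρ => by rw [h1 ρ hρ, zero_mul]] at h4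
  exact h4.symm

theorem sum_ptn_split (hp : 0 < p) {A : Type*} [AddCommMonoid A] (m : ℕ) (G : Multiset ℕ → A) :
    ∑ ρ ∈ ptn m, G ρ = ∑ j ∈ range (m + 1) with p * j ≤ m, ∑ μ ∈ ptn j,
      ∑ ρ ∈ rptn p (m - p * j), G (μ.map (p * ·) + ρ) := by
  simp_rw [sum_sigma']
  symm
  refine sum_bij' (fun x _ => x.2.1.map (p * ·) + x.2.2)
    (fun ρ _ => ⟨((ρ.filter (p ∣ ·)).map (· / p)).sum, (ρ.filter (p ∣ ·)).map (· / p),
      ρ.filter (¬ p ∣ ·)⟩) ?_ ?_ ?_ ?_ fun _ _ => rfl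
  · rintro ⟨j, μ, ρ⟩ h
    simp only [mem_sigma, mem_filter, mem_range, mem_ptn, mem_rptn] at h ⊢
    obtain ⟨⟨-, h1⟩, ⟨h2, h3⟩, ⟨h4, h5⟩, -⟩ := h
    refine ⟨?_, fun r hr => ?_⟩
    · rw [Multiset.sum_add, Multiset.sum_map_mul_left, h4]
      simp only [Multiset.map_id', h2]; omega
    · rcases Multiset.mem_add.1 hr with h | h
      · obtain ⟨s, hs, rfl⟩ := Multiset.mem_map.1 h
        exact Nat.mul_pos hp (h3 s hs)
      · exact h5 r h
  · intro ρ hρ
    simp only [mem_sigma, mem_filter, mem_range, mem_ptn, mem_rptn] at hρ ⊢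
    have h1 : p * ((ρ.filter (p ∣ ·)).map (· / p)).sum = (ρ.filter (p ∣ ·)).sum := by
      rw [← Multiset.sum_map_mul_left]
      conv_rhs => rw [← Multiset.map_id (ρ.filter _)]
      congr 1
      exact Multiset.map_congr rfl fun r hr =>
        Nat.mul_div_cancel' (Multiset.mem_filter.1 hr).2
    have h2 : (ρ.filter (p ∣ ·)).sum + (ρ.filter (¬ p ∣ ·)).sum = m := by
      rw [← Multiset.sum_add, Multiset.filter_add_not, hρ.1]
    have h3 := Nat.le_mul_of_pos_left ((ρ.filter (p ∣ ·)).map (· / p)).sum hp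
    refine ⟨⟨by omega, by omega⟩, ⟨trivial, fun r hr => ?_⟩, ⟨by omega, fun r hr => ?_⟩,
      fun r hr => (Multiset.mem_filter.1 hr).2⟩
    · obtain ⟨s, hs, rfl⟩ := Multiset.mem_map.1 hr
      rw [Multiset.mem_filter] at hs
      exact Nat.div_pos (Nat.le_of_dvd (hρ.2 s hs.1) hs.2) hp
    · exact hρ.2 r (Multiset.mem_filter.1 hr).1
  · rintro ⟨j, μ, ρ⟩ h
    simp only [mem_sigma, mem_filter, mem_range, mem_ptn, mem_rptn] at h
    obtain ⟨-, ⟨h2, -⟩, -, h6⟩ := h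
    have e1 : (μ.map (p * ·) + ρ).filter (p ∣ ·) = μ.map (p * ·) := by
      rw [Multiset.filter_add, Multiset.filter_eq_nil.2 h6, add_zero, Multiset.filter_eq_self]
      intro r hr
      obtain ⟨s, -, rfl⟩ := Multiset.mem_map.1 hr
      exact dvd_mul_right _ _
    have e2 : (μ.map (p * ·) + ρ).filter (¬ p ∣ ·) = ρ := by
      rw [Multiset.filter_add, Multiset.filter_eq_self.2 h6, Multiset.filter_eq_nil.2, zero_add]
      intro r hr
      obtain ⟨s, -, rfl⟩ := Multiset.mem_map.1 hr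
      simp
    have e3 : (μ.map (p * ·)).map (· / p) = μ := by
      rw [Multiset.map_map]
      conv_rhs => rw [← Multiset.map_id μ]
      exact Multiset.map_congr rfl fun r _ => Nat.mul_div_cancel_left r hp
    simp only [e1, e2, e3, h2]
  · intro ρ _
    simp only [Multiset.map_map]
    conv_rhs => rw [← Multiset.filter_add_not (p ∣ ·) ρ]
    congr 1
    conv_rhs => rw [← Multiset.map_id (ρ.filter _)]
    exact Multiset.map_congr rfl fun r hr => Nat.mul_div_cancel' (Multiset.mem_filter.1 hr).2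

/-- The weighted regular trace of a class. -/
noncomputable def ll (N p : ℕ) (c : Fin p → ℕ) (η : Multiset ℕ → ℚ) (m : ℕ) : ℚ :=
  ∑ ρ ∈ rptn p m, η ρ * mm N p c m ρ ρ / zz ρ

/-- The section decomposition. -/
theorem sum_mm_eq (hp : 0 < p) (c : Fin p → ℕ) (η : Multiset ℕ → ℚ)
    (hη : ∀ ν ρ, η (ν + ρ) = η ν * η ρ) {m : ℕ} (hN : m ≤ N) :
    ∑ ρ ∈ ptn m, η ρ * mm N p c m ρ ρ / zz ρ = ∑ j ∈ range (m + 1) with p * j ≤ m,
      (∑ μ ∈ ptn j, η (μ.map (p * ·))) * ll N p c η (m - p * j) := by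
  rw [sum_ptn_split hp]
  refine sum_congr rfl fun j hj => ?_
  rw [mem_filter] at hj
  rw [sum_mul]
  refine sum_congr rfl fun μ hμ => ?_
  rw [ll, mul_sum]
  refine sum_congr rfl fun ρ hρ => ?_
  rw [mem_rptn] at hρ
  rw [mem_ptn] at hμ
  have hs : (μ.map (p * ·)).sum = p * j := by
    rw [Multiset.sum_map_mul_left]; simp [hμ.1]
  have h1 : ∀ r ∈ μ.map (p * ·), p ∣ r := fun r hr => by
    obtain ⟨s, -, rfl⟩ := Multiset.mem_map.1 hr
    exact dvd_mul_right _ _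
  have h2 : ∀ r ∈ μ.map (p * ·), 0 < r := fun r hr => by
    obtain ⟨s, hs, rfl⟩ := Multiset.mem_map.1 hr
    exact Nat.mul_pos hp (hμ.2 s hs)
  have := mm_add_add (N := N) c hρ.1 hρ.2 h1 h2 (by omega)
  rw [hs, Nat.add_sub_cancel' hj.2] at this
  rw [this, hη, zz_add fun r a b => hρ.2 r b (h1 r a)]
  have hz : (zz (μ.map (p * ·)) : ℚ) ≠ 0 := by exact_mod_cast (zz_pos h2).ne'
  push_cast
  field_simp

theorem sum_mm_one (c : Fin p → ℕ) (m : ℕ) :
    ∑ ρ ∈ ptn m, mm N p c m ρ ρ / zz ρ = #(bc N p c m) := by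
  simp_rw [mm, sum_div]
  rw [sum_comm, sum_congr rfl fun X hX => sum_ph_mul_ph (mem_bc.1 hX).1 (mem_bc.1 hX).1]
  simp

end SymCh
end Cfsg
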