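import Cfsg.Agent.CT.SymCore
import Cfsg.Agent.CT.Basic

/-!
# The irreducible characters of the symmetric groups
-/

set_option autoImplicit false

namespace Cfsg
namespace SymCh

open Finset Equiv ComplexConjugate

variable {N : ℕ} {α : Type} [Fintype α] [DecidableEq α]

/-- The cycle type including fixed points. -/
def typ (σ : Perm α) : Multiset ℕ := σ.partition.parts

theorem typ_def (σ : Perm α) :
    typ σ = σ.cycleType + Multiset.replicate (Fintype.card α - σ.cycleType.sum) 1 := by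
  rw [typ, Perm.parts_partition, Perm.sum_cycleType]

theorem typ_mem (σ : Perm α) : typ σ ∈ ptn (Fintype.card α) :=
  mem_image_of_mem _ (mem_univ _)

theorem typ_eq_iff {σ τ : Perm α} : typ σ = typ τ ↔ IsConj σ τ := by
  rw [Perm.partition_eq_of_isConj, Nat.Partition.ext_iff, typ, typ]

theorem exists_typ_eq {ρ : Multiset ℕ} (h : ρ ∈ ptn (Fintype.card α)) : ∃ σ : Perm α, typ σ = ρ := by
  rw [mem_ptn] at h
  have h1 : ρ.filter (¬ 2 ≤ ·) = Multiset.replicate (ρ.filter (¬ 2 ≤ ·)).card 1 := by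
    refine Multiset.eq_replicate_card.2 fun r hr => ?_
    rw [Multiset.mem_filter] at hr
    have := h.2 r hr.1
    omega
  have h2 := Multiset.filter_add_not (2 ≤ ·) ρ
  have h3 := congrArg Multiset.sum h2
  rw [Multiset.sum_add, h1, Multiset.sum_replicate, smul_eq_mul, mul_one, h.1] at h3
  obtain ⟨σ, hσ⟩ := (Perm.exists_with_cycleType_iff α (m := ρ.filter (2 ≤ ·))).2
    ⟨by omega, fun a ha => (Multiset.mem_filter.1 ha).2⟩
  refine ⟨σ, ?_⟩
  rw [typ_def, hσ]
  conv_rhs => rw [← h2, h1]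
  congr 2
  omega

theorem zz_replicate_one (k : ℕ) : zz (Multiset.replicate k 1) = k.factorial := by
  induction k with
  | zero => simp
  | succ k ih => rw [Multiset.replicate_succ, zz_cons, ih, Nat.factorial_succ]; simp

theorem card_typ_mul {ρ : Multiset ℕ} (h : ρ ∈ ptn (Fintype.card α)) :
    #{σ : Perm α | typ σ = ρ} * zz ρ = (Fintype.card α).factorial := by
  obtain ⟨g, rfl⟩ := exists_typ_eq h
  rw [← Perm.card_isConj_mul_eq g]
  congr 1
  · rw [Nat.card_eq_fintype_card, Fintype.card_subtype]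
    congr 1
    ext σ
    simp only [mem_filter, mem_univ, true_and, typ_eq_iff, Set.mem_ofPred_eq]
    exact isConj_comm
  · rw [typ_def, zz_add, zz_replicate_one, zz]
    · ring
    · intro r h1 h2
      have := Perm.two_le_of_mem_cycleType h1
      have := Multiset.eq_of_mem_replicate h2
      omega

theorem inv_mul_sum_typ (F : Multiset ℕ → ℂ) :
    (Nat.card (Perm α) : ℂ)⁻¹ * ∑ σ : Perm α, F (typ σ) =
      ∑ ρ ∈ ptn (Fintype.card α), F ρ / zz ρ := by
  rw [← sum_fiberwise_of_maps_to (fun σ _ => typ_mem σ), mul_sum]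
  refine sum_congr rfl fun ρ hρ => ?_
  rw [sum_congr rfl (g := fun _ => F ρ) fun σ hσ => by rw [(mem_filter.1 hσ).2], sum_const,
    nsmul_eq_mul, Nat.card_eq_fintype_card, Fintype.card_perm, ← card_typ_mul hρ]
  have hz : (zz ρ : ℂ) ≠ 0 := by exact_mod_cast (zz_pos (mem_ptn.1 hρ).2).ne'
  have h2 : (#{σ : Perm α | typ σ = ρ} : ℂ) ≠ 0 := by
    have := card_typ_mul hρ
    intro h0
    rw [Nat.cast_eq_zero] at h0
    rw [h0, zero_mul] at this
    exact (Nat.factorial_ne_zero _) this.symm
  push_cast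
  field_simp

theorem dvd_orderOf_iff {p : ℕ} (hp : p.Prime) (σ : Perm α) :
    ¬ p ∣ orderOf σ ↔ ∀ r ∈ typ σ, ¬ p ∣ r := by
  rw [← Perm.lcm_cycleType, typ_def]
  constructor
  · intro h r hr hpr
    rcases Multiset.mem_add.1 hr with hr | hr
    · exact h (hpr.trans (Multiset.dvd_lcm hr))
    · rw [Multiset.eq_of_mem_replicate hr] at hpr
      exact hp.one_lt.ne' (Nat.dvd_one.1 hpr)
  · intro h
    have : ∀ r ∈ σ.cycleType, ¬ p ∣ r := fun r hr => h r (by simp [hr])
    revert this
    induction σ.cycleType using Multiset.induction_on with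
    | empty => simpa using hp.one_lt.ne'
    | cons a s ih =>
      intro h1 h2
      rw [Multiset.lcm_cons, lcm_eq_nat_lcm] at h2
      rcases (hp.dvd_mul).1 (h2.trans (Nat.lcm_dvd_mul _ _)) with h3 | h3
      · exact h1 a (by simp) h3
      · exact ih (fun r hr => h1 r (by simp [hr])) h3

/-- The sign of a cycle type. -/
def sgn (ρ : Multiset ℕ) : ℚ := (ρ.map fun r => -(-1 : ℚ) ^ r).prod

theorem sgn_add (ν ρ : Multiset ℕ) : sgn (ν + ρ) = sgn ν * sgn ρ := by simp [sgn]

theorem sgn_typ (σ : Perm α) : sgn (typ σ) = ((Perm.sign σ : ℤ) : ℚ) := by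
  rw [typ_def, sgn_add, Perm.sign_of_cycleType']
  have : sgn (Multiset.replicate (Fintype.card α - σ.cycleType.sum) 1) = 1 := by simp [sgn]
  rw [this, mul_one, sgn]
  induction σ.cycleType using Multiset.induction_on with
  | empty => simp
  | cons a s ih => simp [ih]

/-- The content of a colouring. -/
def cont {α : Type} [Fintype α] (f : α → Fin N) : Fin N → ℤ := fun i => #{a | f a = i}

omit [DecidableEq α] in
theorem sum_single_cont {Ω : Type} [Fintype Ω] [DecidableEq Ω] (q : α → Ω) :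
    ∑ g : Ω → Fin N, (AddMonoidAlgebra.single (cont (g ∘ q)) 1 : LP N) =
      ∏ ω, ps N #{a | q a = ω} := by
  simp only [ps]
  rw [prod_univ_sum, Fintype.piFinset_univ]
  refine sum_congr rfl fun g _ => ?_
  rw [AddMonoidAlgebra.prod_single, prod_const_one]
  congr 1
  funext i
  simp only [cont, Finset.sum_apply, Pi.single_apply, Function.comp_apply]
  rw [card_eq_sum_card_fiberwise (f := q) (t := univ) (fun _ _ => mem_univ _)]
  push_cast
  refine sum_congr rfl fun ω _ => ?_
  split_ifs with h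
  · congr 2
    ext a
    simp only [mem_filter, mem_univ, true_and, and_iff_right_iff_imp]
    rintro rfl; exact h.symm
  · rw [Nat.cast_eq_zero, card_eq_zero, eq_empty_iff_forall_notMem]
    intro a ha
    simp only [mem_filter, mem_univ, true_and] at ha
    exact h (by rw [← ha.1, ha.2])

theorem pp_typ (σ : Perm α) : pp N (typ σ) =
    ∑ f : α → Fin N with f ∘ σ = f, (AddMonoidAlgebra.single (cont f) 1 : LP N) := by
  let q : α → σ.cycleFactorsFinset ⊕ {a // σ a = a} := fun a =>
    if h : σ a = a then Sum.inr ⟨a, h⟩ else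
      Sum.inl ⟨σ.cycleOf a, Perm.cycleOf_mem_cycleFactorsFinset_iff.2 (Perm.mem_support.2 h)⟩
  have hq1 : ∀ c a, q a = Sum.inl c ↔ a ∈ c.1.support := by
    intro c a
    rw [← Perm.eq_cycleOf_of_mem_cycleFactorsFinset_iff σ c.1 c.2]
    simp only [q]
    split_ifs with h
    · simp only [false_iff]
      intro hc
      have := (Perm.mem_cycleFactorsFinset_iff.1 c.2).1.ne_one
      exact this (hc.trans ((Perm.cycleOf_eq_one_iff σ).2 h))
    · simp [Subtype.ext_iff, eq_comm]
  have hq2 : ∀ b a, q a = Sum.inr b ↔ a = b.1 := by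
    intro b a
    simp only [q]
    split_ifs with h
    · simp [Subtype.ext_iff]
    · simp only [false_iff]
      rintro rfl; exact h b.2
  have hsurj : Function.Surjective q := by
    rintro (c | b)
    · obtain ⟨a, ha⟩ := (Perm.mem_cycleFactorsFinset_iff.1 c.2).1.nonempty_support
      exact ⟨a, (hq1 c a).2 ha⟩
    · exact ⟨b, (hq2 b b).2 rfl⟩
  have hqσ : ∀ a, q (σ a) = q a := by
    intro a
    rcases h : q a with c | b
    · rw [hq1] at h ⊢
      exact (Perm.mem_cycleFactorsFinset_support_le c.2 h |> fun _ => by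
        rw [← Perm.eq_cycleOf_of_mem_cycleFactorsFinset_iff σ c.1 c.2] at h ⊢
        rw [h, Perm.cycleOf_self_apply])
    · rw [hq2] at h ⊢
      rw [h, b.2]
  have hfac : ∀ f : α → Fin N, f ∘ σ = f → ∀ a b, q a = q b → f a = f b := by
    intro f hf a b hab
    have hpow : ∀ (k : ℕ) a, f ((σ ^ k) a) = f a := by
      intro k
      induction k with
      | zero => simp
      | succ k ih => intro a; rw [pow_succ', Perm.mul_apply, ← ih a]; exact congrFun hf _
    rcases h : q a with c | c
    · have h' := hab ▸ h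
      rw [hq1] at h h'
      have h1 := Perm.cycle_is_cycleOf h c.2
      rw [h1, Perm.mem_support_cycleOf_iff] at h'
      obtain ⟨k, hk⟩ := h'.1.exists_nat_pow_eq
      rw [← hk, hpow]
    · have h' := hab ▸ h
      rw [hq2] at h h'
      rw [h, h']
  have h1 : ∑ f : α → Fin N with f ∘ σ = f, (AddMonoidAlgebra.single (cont f) 1 : LP N) =
      ∑ g : σ.cycleFactorsFinset ⊕ {a // σ a = a} → Fin N,
        (AddMonoidAlgebra.single (cont (g ∘ q)) 1 : LP N) := by
    symm
    refine sum_bij (fun g _ => g ∘ q) ?_ ?_ ?_ fun _ _ => rfl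
    · intro g _
      simp only [mem_filter, mem_univ, true_and]
      funext a
      simp [hqσ]
    · intro g _ g' _ h
      exact hsurj.injective_comp_right h
    · intro f hf
      simp only [mem_filter, mem_univ, true_and] at hf
      refine ⟨f ∘ Function.surjInv hsurj, mem_univ _, funext fun a => ?_⟩
      exact hfac f hf _ _ (Function.surjInv_eq hsurj _)
  rw [h1, sum_single_cont, Fintype.prod_sum_type, typ_def, pp, Multiset.map_add,
    Multiset.prod_add, Multiset.map_replicate, Multiset.prod_replicate]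
  congr 1
  · rw [Perm.cycleType_def, Multiset.map_map, ← prod_eq_multiset_prod,
      ← prod_coe_sort σ.cycleFactorsFinset]
    refine prod_congr rfl fun c _ => ?_
    simp only [Function.comp_apply, hq1]
    congr 2
    ext a; simp
  · simp only [hq2]
    rw [← Perm.card_fixedPoints]
    simp only [filter_eq', mem_univ, if_true, card_singleton, prod_const, card_univ]
    congr 1

/-- Colourings with given content. -/
def Col (α : Type) [Fintype α] (μ : Fin N → ℤ) : Type := {f : α → Fin N // cont f = μ}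

instance (μ : Fin N → ℤ) : Finite (Col α μ) := Subtype.finite

omit [DecidableEq α] in
theorem cont_comp (f : α → Fin N) (σ : Perm α) : cont (f ∘ σ) = cont f := by
  funext i
  simp only [cont, card_filter]
  exact_mod_cast Equiv.sum_comp σ (fun a => if f a = i then 1 else 0)

instance (μ : Fin N → ℤ) : MulAction (Perm α) (Col α μ) where
  smul σ f := ⟨f.1 ∘ ⇑σ⁻¹, (cont_comp _ _).trans f.2⟩
  one_smul _ := rfl
  mul_smul _ _ _ := rfl

theorem coeff_pp_typ (μ : Fin N → ℤ) (σ : Perm α) :
    (pp N (typ σ)).coeff μ = Nat.card (MulAction.fixedBy (Col α μ) σ) := by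
  rw [pp_typ, AddMonoidAlgebra.coeff_sum, Finsupp.finsetSum_apply]
  simp only [AddMonoidAlgebra.coeff_single, Finsupp.single_apply]
  rw [← sum_filter, sum_const, nsmul_eq_mul, mul_one, filter_filter, ← Fintype.card_subtype,
    ← Nat.card_eq_fintype_card]
  congr 1
  have key : ∀ f : α → Fin N, f ∘ σ = f ↔ f ∘ ⇑σ⁻¹ = f := fun f =>
    ⟨fun h => funext fun a => by simpa using (congrFun h (σ⁻¹ a)).symm,
      fun h => funext fun a => by simpa using (congrFun h (σ a)).symm⟩
  exact Nat.card_congr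
    { toFun := fun f => ⟨⟨f.1, f.2.2⟩, Subtype.ext ((key _).1 f.2.1)⟩
      invFun := fun f => ⟨f.1.1, (key _).2 (congrArg Subtype.val f.2), f.1.2⟩
      left_inv := fun _ => rfl
      right_inv := fun _ => rfl }

theorem isGeneralizedCharacter_phi (β : Fin N → ℤ) :
    IsGeneralizedCharacter (Perm α) fun σ => (phi β (typ σ) : ℂ) := by
  have h := IsGeneralizedCharacter.sum (G := Perm α) (univ : Finset (Perm (Fin N)))
    (χ := fun w σ => ((Perm.sign w : ℤ) : ℂ) *
      (Nat.card (MulAction.fixedBy (Col α (β - del N ∘ w)) σ) : ℂ))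
    fun w _ => IsGeneralizedCharacter.zsmul _
      (isCharacter_card_fixedBy (Col α (β - del N ∘ w))).isGeneralizedCharacter
  convert h using 1
  funext σ
  simp only [phi, adel, sum_mul, AddMonoidAlgebra.coeff_sum, Finsupp.finsetSum_apply,
    AddMonoidAlgebra.coeff_single_mul_apply, Finset.sum_apply, coeff_pp_typ, sg, neg_add_eq_sub]
  push_cast
  rfl

/-- `χ` is labelled by the beta-set `X`. -/
def IsLab (N : ℕ) (X : Finset ℕ) (χ : IrrCharacter (Perm α)) : Prop :=
  ∃ ε : ℂ, (ε = 1 ∨ ε = -1) ∧ ∀ σ, χ.1 σ = ε * ph N X (typ σ)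

theorem classInner_ph (X Y : Finset ℕ) (η : Multiset ℕ → ℚ) :
    classInner (fun σ : Perm α => (η (typ σ) * ph N X (typ σ) : ℂ))
      (fun σ => (ph N Y (typ σ) : ℂ)) =
      ((∑ ρ ∈ ptn (Fintype.card α), η ρ * (ph N X ρ * ph N Y ρ) / zz ρ : ℚ) : ℂ) := by
  rw [classInner_def]
  have := inv_mul_sum_typ (α := α) fun ρ => (η ρ * ph N X ρ : ℂ) * conj (ph N Y ρ : ℂ)
  rw [this]
  push_cast
  refine sum_congr rfl fun ρ _ => ?_
  rw [map_ratCast, mul_assoc]

theorem IsLab.classInner_mul {X Y : Finset ℕ} {χ ψ : IrrCharacter (Perm α)} (hX : IsLab N X χ)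
    (hY : IsLab N Y ψ) :
    ∃ ε : ℂ, (ε = 1 ∨ ε = -1) ∧ (χ = ψ → X = Y → ε = 1) ∧ ∀ η : Multiset ℕ → ℚ,
      classInner (fun σ => η (typ σ) * χ.1 σ) ψ.1 =
        ε * ((∑ ρ ∈ ptn (Fintype.card α), η ρ * (ph N X ρ * ph N Y ρ) / zz ρ : ℚ) : ℂ) := by
  obtain ⟨a, ha, hX⟩ := hX
  obtain ⟨b, hb, hY⟩ := hY
  refine ⟨a * b, ?_, ?_, fun η => ?_⟩
  · rcases ha with rfl | rfl <;> rcases hb with rfl | rfl <;> simp
  · rintro rfl rfl
    have h1 := (hX 1).symm.trans (hY 1)
    have h2 : (ph N X (typ (1 : Perm α)) : ℂ) ≠ 0 := fun h => χ.one_ne_zero (by rw [hX, h, mul_zero])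
    rw [mul_right_cancel₀ h2 h1]
    rcases hb with rfl | rfl <;> simp
  · rw [← classInner_ph, show ψ.1 = fun σ => b * ph N Y (typ σ) from funext hY,
      classInner_const_mul_right, mul_comm a, mul_assoc, ← classInner_const_mul_left a]
    have : conj b = b := by rcases hb with rfl | rfl <;> simp
    rw [this]
    congr 2
    funext σ
    rw [hX]; ring

theorem exists_isLab {X : Finset ℕ} (hX : X ∈ bs N (Fintype.card α)) :
    ∃ χ : IrrCharacter (Perm α), IsLab N X χ := by
  have h := classInner_ph (N := N) (α := α) X X (fun _ => 1)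
  simp only [Rat.cast_one, one_mul, sum_ph_mul_ph hX hX, if_true] at h
  obtain ⟨χ, hχ | hχ⟩ := (isGeneralizedCharacter_phi (lab N X)).exists_irr_of_classInner_self_eq_one h
  · exact ⟨χ, 1, Or.inl rfl, fun σ => by rw [← hχ]; simp [ph]⟩
  · refine ⟨χ, -1, Or.inr rfl, fun σ => ?_⟩
    have := congrFun hχ σ
    simp only [Pi.neg_apply] at this
    simp [ph, this]

theorem IsLab.eq_iff {X Y : Finset ℕ} (hX : X ∈ bs N (Fintype.card α))
    (hY : Y ∈ bs N (Fintype.card α)) {χ ψ : IrrCharacter (Perm α)} (h : IsLab N X χ)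
    (h' : IsLab N Y ψ) : χ = ψ ↔ X = Y := by
  obtain ⟨ε, hε, -, h1⟩ := h.classInner_mul h'
  have h1 := h1 fun _ => 1
  simp only [Rat.cast_one, one_mul, sum_ph_mul_ph hX hY] at h1
  have h2 := χ.classInner_eq ψ
  rw [show classInner χ.1 ψ.1 = _ from h1] at h2
  rcases hε with rfl | rfl <;> split_ifs at h2 <;> simp_all

/-- The irreducible character labelled by a beta-set. -/
noncomputable def irrB (α : Type) [Fintype α] [DecidableEq α] (N : ℕ) (X : Finset ℕ) :
    IrrCharacter (Perm α) := by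
  classical
  exact if h : ∃ χ : IrrCharacter (Perm α), IsLab N X χ then h.choose else IrrCharacter.triv _

theorem isLab_irrB {X : Finset ℕ} (hX : X ∈ bs N (Fintype.card α)) : IsLab N X (irrB α N X) := by
  have h := exists_isLab hX
  rw [irrB, dif_pos h]
  exact h.choose_spec

theorem irrB_injOn : Set.InjOn (irrB α N) (bs N (Fintype.card α)) := fun _ hX _ hY h =>
  (IsLab.eq_iff hX hY (isLab_irrB hX) (isLab_irrB hY)).1 h

theorem exists_irrB_eq (hN : Fintype.card α ≤ N) (χ : IrrCharacter (Perm α)) :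
    ∃ X ∈ bs N (Fintype.card α), irrB α N X = χ := by
  by_contra hc
  push Not at hc
  have h1 : ∀ X ∈ bs N (Fintype.card α), ∑ σ : Perm α, χ.1 σ * ph N X (typ σ) = 0 := by
    intro X hX
    obtain ⟨ε, hε, h⟩ := isLab_irrB hX
    have := IrrCharacter.classInner_of_ne (hc X hX).symm
    rw [classInner_def, mul_eq_zero] at this
    rcases this with h0 | h0
    · simp at h0
    · simp only [h, map_mul, map_ratCast, mul_left_comm _ (conj ε), ← mul_sum] at h0
      rcases hε with rfl | rfl <;> simpa using h0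
  have h2 : ∑ X ∈ bs N (Fintype.card α), (∑ σ : Perm α, χ.1 σ * ph N X (typ σ)) *
      ph N X (typ (1 : Perm α)) = χ.1 1 * zz (typ (1 : Perm α)) := by
    simp_rw [sum_mul, mul_assoc]
    rw [sum_comm]
    simp_rw [← mul_sum, ← Rat.cast_mul, ← Rat.cast_sum, sum_bs_ph_mul_ph hN (typ_mem _) (typ_mem _),
      typ_eq_iff, isConj_one_left]
    rw [sum_eq_single 1] <;> simp +contextual
  rw [sum_eq_zero fun X hX => by rw [h1 X hX, zero_mul]] at h2
  have hz : (zz (typ (1 : Perm α)) : ℂ) ≠ 0 := by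
    exact_mod_cast (zz_pos (mem_ptn.1 (typ_mem _)).2).ne'
  exact mul_ne_zero χ.one_ne_zero hz h2.symm

theorem irrB_ne_zero_iff {X : Finset ℕ} (hX : X ∈ bs N (Fintype.card α)) (σ : Perm α) :
    (irrB α N X).1 σ ≠ 0 ↔ ph N X (typ σ) ≠ 0 := by
  obtain ⟨ε, hε, h⟩ := isLab_irrB hX
  rw [h]
  rcases hε with rfl | rfl <;> simp

end SymCh
end Cfsg
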