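import Cfsg.Agent.CT.SymCount

/-!
# Removing `p`-hooks: non-vanishing on products of `p`-cycles
-/

set_option autoImplicit false

namespace Cfsg
namespace SymCh

open Finset Equiv

variable {N p : ℕ}

/-- The labelled core. -/
def gam (p : ℕ) (β : Fin N → ℤ) : Fin N → ℤ :=
  fun i => β i % p + p * #{k | β k % p = β i % p ∧ β k < β i}

theorem add_le_of_emod_eq {a b : ℤ} (h : a % p = b % p) (hab : a < b) : a + p ≤ b := by
  have h1 : (p : ℤ) ∣ b - a := Int.ModEq.dvd h
  have := Int.le_of_dvd (by omega) h1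
  omega

theorem gam_sub {β : Fin N → ℤ} (h : Function.Injective β) {i : Fin N}
    (h' : Function.Injective (β - Pi.single i (p : ℤ) : Fin N → ℤ)) :
    gam p (β - Pi.single i (p : ℤ)) = gam p β := by
  funext l
  simp only [gam, sub_single_emod β i _ (dvd_refl p)]
  congr 4
  ext k
  simp only [mem_filter, mem_univ, true_and]
  refine and_congr_right fun hk => ?_
  by_cases hkl : k = l
  · simp [hkl]
  have h1 := h.ne hkl
  have h2 := h'.ne hkl
  have h3 := add_le_of_emod_eq hk
  have h4 := add_le_of_emod_eq hk.symm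
  simp only [Pi.sub_apply, Pi.single_apply] at h2 ⊢
  split_ifs at h2 ⊢ with a b b
  · exact absurd (a.trans b.symm) hkl
  · omega
  · omega
  · omega

theorem eq_range_of_down {Y : Finset ℕ} (h : ∀ y, y + 1 ∈ Y → y ∈ Y) : Y = range #Y := by
  have h1 : ∀ t y, y + t ∈ Y → y ∈ Y := by
    intro t
    induction t with
    | zero => simp
    | succ t ih => exact fun y hy => ih y (h _ hy)
  rcases Y.eq_empty_or_nonempty with rfl | hne
  · simp
  have : Y = range (Y.max' hne + 1) := by
    ext y
    rw [mem_range, Nat.lt_succ_iff]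
    refine ⟨fun hy => Y.le_max' y hy, fun hy => ?_⟩
    obtain ⟨t, ht⟩ := Nat.exists_eq_add_of_le hy
    exact h1 t y (ht ▸ Y.max'_mem hne)
  rw [this, card_range]

theorem base_cls_le (hp : 0 < p) {β : Fin N → ℤ} (h : Function.Injective β) (h0 : ∀ i, 0 ≤ β i) :
    (base (cls p β) : ℤ) ≤ ∑ i, β i := by
  obtain ⟨X, hX, w, rfl⟩ := exists_lab_comp h h0
  rw [show ∑ i, (lab N X ∘ w) i = ∑ i, lab N X i from Equiv.sum_comp w _,
    sum_lab hX (fun x => x), cls_comp, cls_lab hX, ← Nat.cast_sum, sum_eq_base_add hp]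
  simp only [Nat.cast_add, le_add_iff_nonneg_right]
  positivity

theorem terminal (hp : 0 < p) {β : Fin N → ℤ} (h : Function.Injective β) (h0 : ∀ i, 0 ≤ β i)
    (ht : ∀ i, (p : ℤ) ≤ β i → ∃ k, β k = β i - p) :
    gam p β = β ∧ ∑ i, β i = base (cls p β) := by
  have hp' : (0 : ℤ) < p := by exact_mod_cast hp
  constructor
  · funext i
    have h1 : ∀ t : ℕ, (p : ℤ) * t ≤ β i → ∃ k, β k = β i - p * t := by
      intro t
      induction t with
      | zero => exact fun _ => ⟨i, by simp⟩
      | succ t ih =>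
        intro ht'
        push_cast at ht' ⊢
        obtain ⟨k, hk⟩ := ih (by nlinarith)
        obtain ⟨l, hl⟩ := ht k (by nlinarith)
        exact ⟨l, by rw [hl, hk]; ring⟩
    have h2 : #{k | β k % p = β i % p ∧ β k < β i} = (β i / p).toNat := by
      conv_rhs => rw [← card_range (β i / p).toNat]
      have hq : ∀ k, 0 ≤ β k / p := fun k => Int.ediv_nonneg (h0 k) hp'.le
      have hd : ∀ k, β k = p * (β k / p) + β k % p := fun k => (Int.mul_ediv_add_emod _ _).symm
      refine card_bij (fun k _ => (β k / p).toNat) ?_ ?_ ?_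
      · intro k hk
        simp only [mem_filter, mem_univ, true_and, mem_range] at hk ⊢
        have := hq k; have := hq i
        have : β k / p < β i / p := by
          have := hd k; have := hd i
          by_contra hc
          nlinarith
        omega
      · intro k hk l hl hkl
        simp only [mem_filter, mem_univ, true_and] at hk hl
        have := hq k; have := hq l
        have h3 : β k / p = β l / p := by omega
        apply h
        rw [hd k, hd l, h3, hk.1, hl.1]
      · intro s hs
        rw [mem_range] at hs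
        have := hq i
        have hm := Int.emod_nonneg (β i) hp'.ne'
        have hm' := Int.emod_lt_of_pos (β i) hp'
        obtain ⟨k, hk⟩ := h1 ((β i / p).toNat - s) (by
          have : (((β i / p).toNat - s : ℕ) : ℤ) ≤ β i / p := by omega
          have := hd i
          nlinarith)
        have h3 : (((β i / p).toNat - s : ℕ) : ℤ) = β i / p - s := by omega
        have h4 : β k = β i % p + p * s := by
          rw [hk, h3]; have := hd i; linarith
        have h5 : (s : ℤ) < β i / p := by omega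
        refine ⟨k, ?_, ?_⟩
        · simp only [mem_filter, mem_univ, true_and]
          refine ⟨by rw [h4, Int.add_mul_emod_self_left, Int.emod_emod_of_dvd _ (dvd_refl _)], ?_⟩
          have := hd i
          nlinarith
        · rw [h4, Int.add_mul_ediv_left _ _ hp'.ne', Int.ediv_eq_zero_of_lt hm hm']
          simp
    simp only [gam, h2]
    rw [Int.toNat_of_nonneg (Int.ediv_nonneg (h0 i) hp'.le), add_comm, Int.mul_ediv_add_emod]
  · obtain ⟨X, hX, w, rfl⟩ := exists_lab_comp h h0
    rw [show ∑ i, (lab N X ∘ w) i = ∑ i, lab N X i from Equiv.sum_comp w _,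
      sum_lab hX (fun x => x), cls_comp, cls_lab hX, ← Nat.cast_sum, sum_eq_base_add hp]
    have : wt p X = 0 := by
      refine sum_eq_zero fun j _ => ?_
      have h1 : run p X j = range #(run p X j) := by
        refine eq_range_of_down fun y hy => ?_
        rw [mem_run, mem_iff_lab hX] at hy ⊢
        obtain ⟨i, hi⟩ := hy
        obtain ⟨k, hk⟩ := ht (w.symm i) (by
          simp only [Function.comp_apply, apply_symm_apply, hi]
          push_cast
          nlinarith [Int.natCast_nonneg (j : ℕ), Int.natCast_nonneg y])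
        refine ⟨w k, ?_⟩
        simp only [Function.comp_apply, apply_symm_apply, hi] at hk
        rw [hk]; push_cast; ring
      rw [h1, card_run, tri]; simp
    rw [this]; simp

theorem exists_move {β : Fin N → ℤ} (h : Function.Injective β) (h0 : ∀ i, 0 ≤ β i)
    (ht : ¬ ∀ i, (p : ℤ) ≤ β i → ∃ k, β k = β i - p) :
    ∃ i, Function.Injective (β - Pi.single i (p : ℤ) : Fin N → ℤ) ∧
      ∀ k, 0 ≤ (β - Pi.single i (p : ℤ) : Fin N → ℤ) k := by
  push Not at ht
  obtain ⟨i, hi, hk⟩ := ht
  refine ⟨i, fun k l hkl => ?_, fun k => ?_⟩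
  · simp only [Pi.sub_apply, Pi.single_apply] at hkl
    split_ifs at hkl with a b b
    · rw [a, b]
    · exact absurd (by rw [← a]; omega) (hk l)
    · exact absurd (by rw [← b]; omega) (hk k)
    · exact h (by omega)
  · simp only [Pi.sub_apply, Pi.single_apply]
    split_ifs with a
    · rw [a]; omega
    · simpa using h0 k

theorem phi_replicate (hp : 0 < p) (w : ℕ) {β : Fin N → ℤ} (h : Function.Injective β)
    (h0 : ∀ i, 0 ≤ β i) (hs : ∑ i, β i = base (cls p β) + p * w) :
    (Function.Injective (gam p β) ∧ (∀ i, 0 ≤ gam p β i) ∧ ∑ i, gam p β i = base (cls p β)) ∧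
      ∃ f : ℕ, 0 < f ∧ ∀ ρ, phi β (Multiset.replicate w p + ρ) = f * phi (gam p β) ρ := by
  induction w generalizing β with
  | zero =>
    have ht : ∀ i, (p : ℤ) ≤ β i → ∃ k, β k = β i - p := by
      by_contra ht
      obtain ⟨i, h1, h2⟩ := exists_move h h0 ht
      have := base_cls_le hp h1 h2
      rw [cls_sub_single β i (dvd_refl p), sum_sub_single] at this
      simp at hs
      omega
    have := terminal hp h h0 ht
    rw [this.1]
    exact ⟨⟨h, h0, this.2⟩, 1, one_pos, by simp⟩
  | succ w ih =>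
    have ht : ¬ ∀ i, (p : ℤ) ≤ β i → ∃ k, β k = β i - p := fun ht => by
      have := (terminal hp h h0 ht).2
      rw [this] at hs
      push_cast at hs
      have : (0 : ℤ) < p * (w + 1) := by positivity
      omega
    have key : ∀ i, Function.Injective (β - Pi.single i (p : ℤ) : Fin N → ℤ) →
        (∀ k, 0 ≤ (β - Pi.single i (p : ℤ) : Fin N → ℤ) k) → _ := fun i h1 h2 => by
      have := ih h1 h2 (by
        rw [cls_sub_single β i (dvd_refl p), sum_sub_single, hs]; push_cast; ring)
      rw [gam_sub h h1, cls_sub_single β i (dvd_refl p)] at this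
      exact this
    obtain ⟨i₀, h1, h2⟩ := exists_move h h0 ht
    refine ⟨(key i₀ h1 h2).1, ?_⟩
    have : ∀ i, ∃ f : ℕ, (i = i₀ → 0 < f) ∧ ∀ ρ, phi (β - Pi.single i (p : ℤ))
        (Multiset.replicate w p + ρ) = f * phi (gam p β) ρ := by
      intro i
      by_cases a : Function.Injective (β - Pi.single i (p : ℤ) : Fin N → ℤ)
      · by_cases b : ∀ k, 0 ≤ (β - Pi.single i (p : ℤ) : Fin N → ℤ) k
        · obtain ⟨f, hf, hf'⟩ := (key i a b).2
          exact ⟨f, fun _ => hf, hf'⟩
        · refine ⟨0, by rintro rfl; exact absurd h2 b, fun ρ => ?_⟩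
          push Not at b
          obtain ⟨k, hk⟩ := b
          simp [phi_eq_zero_of_neg hk]
      · exact ⟨0, by rintro rfl; exact absurd h1 a, fun ρ => by
          simp [phi_eq_zero_of_not_injective a]⟩
    choose f hf hf' using this
    refine ⟨∑ i, f i, sum_pos' (fun _ _ => Nat.zero_le _) ⟨i₀, mem_univ _, hf i₀ rfl⟩, fun ρ => ?_⟩
    rw [Multiset.replicate_succ, Multiset.cons_add, phi_cons]
    simp [hf', sum_mul]

theorem phi_replicate_one_ne_zero {β : Fin N → ℤ} (h : Function.Injective β)
    (h0 : ∀ i, 0 ≤ β i) {m : ℕ} (hs : ∑ i, β i = m + tri N) :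
    phi β (Multiset.replicate m 1) ≠ 0 := by
  have hc : base (cls 1 β) = tri N := by
    simp [base, cls]
  obtain ⟨⟨h1, h2, h3⟩, f, hf, h4⟩ := phi_replicate one_pos m h h0 (by rw [hs, hc]; simp [add_comm])
  have h5 := h4 0
  rw [add_zero] at h5
  rw [h5, phi_zero]
  refine mul_ne_zero (by exact_mod_cast hf.ne') ?_
  rcases eq_del_comp_or_lt h1 h2 with ⟨w, hw⟩ | hlt
  · rw [hw, dd_comp_left, dd_self del_injective, mul_one]
    intro h0
    simpa [h0] using sg_mul_self w
  · rw [h3, hc, sum_del] at hlt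
    omega

/-- Characters of weight `w` do not vanish at a product of `w` disjoint `p`-cycles. -/
theorem ph_replicate_ne_zero (hp : 0 < p) {c : Fin p → ℕ} {m₀ w : ℕ} (hm : m₀ + tri N = base c)
    {X : Finset ℕ} (hX : X ∈ bc N p c (m₀ + p * w)) :
    ph N X (Multiset.replicate w p + Multiset.replicate m₀ 1) ≠ 0 := by
  rw [mem_bc] at hX
  have h1 := (mem_bs.1 hX.1).1
  obtain ⟨⟨h2, h3, h4⟩, f, hf, h5⟩ := phi_replicate hp w (lab_strictMono h1).injective
    (lab_nonneg X) (by
      rw [sum_lab_of_mem hX.1, cls_lab h1, hX.2, ← hm, sum_del]; push_cast; ring)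
  rw [ph, h5]
  refine mul_ne_zero (by exact_mod_cast hf.ne') (phi_replicate_one_ne_zero h2 h3 ?_)
  rw [h4, cls_lab h1, hX.2, ← hm]; push_cast; ring

theorem bc_base (hp : 0 < p) {c : Fin p → ℕ} (hc : ∑ j, c j = N) {m₀ : ℕ}
    (hm : m₀ + tri N = base c) : ∃ Y, bc N p c m₀ = {Y} := by
  rw [← card_eq_one, card_bc hp hc (w := 0) (by simp) (by simpa), cc_zero_right]

/-- In weight two exactly `2p` characters do not vanish at a `2p`-cycle. -/
theorem le_card_filter_ne_zero (hp : 0 < p) {c : Fin p → ℕ} (hc : ∑ j, c j = N) {m₀ : ℕ}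
    (hm : m₀ + tri N = base c) (hN : m₀ + p * 2 ≤ N) (hp1 : p ≠ 1) :
    2 * p ≤ #{X ∈ bc N p c (m₀ + p * 2) | ph N X ((2 * p) ::ₘ Multiset.replicate m₀ 1) ≠ 0} := by
  obtain ⟨Y, hY⟩ := bc_base hp hc hm
  have hYm : Y ∈ bc N p c m₀ := by simp [hY]
  set ρ := Multiset.replicate m₀ 1 with hρ
  have hρ1 : ρ ∈ ptn m₀ := by
    rw [mem_ptn]
    exact ⟨by simp [hρ], fun r hr => by rw [Multiset.eq_of_mem_replicate hr]; exact one_pos⟩
  have hρ2 : ∀ r ∈ ρ, ¬ p ∣ r := fun r hr => by
    rw [Multiset.eq_of_mem_replicate hr]; simpa using hp1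
  have h1 := mm_add_add (N := N) c hρ1 hρ2 (ν := {2 * p}) (by simp) (by simpa)
    (by simp; omega)
  rw [Multiset.sum_singleton, Multiset.singleton_add, show 2 * p + m₀ = m₀ + p * 2 by ring] at h1
  have hz : zz {2 * p} = 2 * p := by simp [zz]
  rw [hz, mm, mm, hY, sum_singleton] at h1
  have hd : ph N Y ρ ≠ 0 := by
    have := ph_replicate_ne_zero hp hm (w := 0) (X := Y) (by simpa using hYm)
    simpa using this
  have h2 : ∀ X ∈ bc N p c (m₀ + p * 2), ph N X ((2 * p) ::ₘ ρ) * ph N X ((2 * p) ::ₘ ρ) ≤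
      if ph N X ((2 * p) ::ₘ ρ) ≠ 0 then ph N Y ρ * ph N Y ρ else 0 := by
    intro X hX
    split_ifs with h
    swap
    · push Not at h; simp [h]
    rw [mem_bc] at hX
    have hXc := (mem_bs.1 hX.1).1
    have hterm : ∀ i, phi (lab N X - Pi.single i ((2 * p : ℕ) : ℤ)) ρ ≠ 0 →
        ∃ w : Perm (Fin N), lab N X - Pi.single i ((2 * p : ℕ) : ℤ) = lab N Y ∘ w := by
      intro i hi
      obtain ⟨Z, hZ, w, hw⟩ := exists_lab_comp (β := lab N X - Pi.single i ((2 * p : ℕ) : ℤ))
        (by by_contra hc; exact hi (phi_eq_zero_of_not_injective hc _))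
        (fun k => by by_contra hc; exact hi (phi_eq_zero_of_neg (not_le.1 hc) _))
      have hZm : Z ∈ bc N p c m₀ := by
        rw [mem_bc, mem_bs]
        refine ⟨⟨hZ, ?_⟩, ?_⟩
        · have := sum_eq_of_phi_ne_zero hi
          rw [hw, show ∑ i, (lab N Z ∘ w) i = ∑ i, lab N Z i from Equiv.sum_comp w _,
            sum_lab hZ (fun x => x), sum_del, ← Nat.cast_sum, (mem_ptn.1 hρ1).1] at this
          exact_mod_cast this
        · rw [← cls_lab hZ, ← cls_comp _ w, ← hw, cls_sub_single _ _ (dvd_mul_left p 2),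
            cls_lab hXc, hX.2]
      rw [hY, mem_singleton] at hZm
      exact ⟨w, hZm ▸ hw⟩
    unfold ph at h ⊢
    rw [phi_cons] at h ⊢
    obtain ⟨i, -, hi⟩ := exists_ne_zero_of_sum_ne_zero h
    rw [sum_eq_single i]
    · obtain ⟨w, hw⟩ := hterm i hi
      rw [hw, phi_comp, mul_mul_mul_comm, sg_mul_self, one_mul]
    · intro j _ hji
      by_contra hj
      obtain ⟨w, hw⟩ := hterm i hi
      obtain ⟨v, hv⟩ := hterm j hj
      have hinj := (lab_strictMono hXc).injective
      have e3 := congrFun hv i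
      have e4 := congrFun hw (w.symm (v i))
      simp only [Pi.sub_apply, Pi.single_apply, Ne.symm hji, if_false, sub_zero,
        Function.comp_apply, apply_symm_apply] at e3 e4
      split_ifs at e4 with a
      · rw [a] at e4; omega
      · rw [sub_zero] at e4
        exact a (hinj (e4.trans e3.symm))
    · simp
  have h3 := sum_le_sum h2
  rw [h1, ← sum_filter, sum_const, nsmul_eq_mul] at h3
  have h4 : 0 < ph N Y ρ * ph N Y ρ := mul_self_pos.2 hd
  exact_mod_cast le_of_mul_le_mul_right h3 h4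

end SymCh
end Cfsg
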