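import Cfsg.Agent.CT.SymBeta

/-!
# Counting partitions and multipartitions
-/

set_option autoImplicit false

namespace Cfsg
namespace SymCh

open Finset Equiv

/-- The number of partitions. -/
def pn (m : ℕ) : ℕ := #(ptn m)

theorem ptn_zero : ptn 0 = {0} := by
  ext ρ
  simp only [mem_ptn, mem_singleton]
  constructor
  · rintro ⟨h1, h2⟩
    by_contra hc
    obtain ⟨r, hr⟩ := Multiset.exists_mem_of_ne_zero hc
    have := Multiset.single_le_sum (by simp) r hr
    have := h2 r hr
    omega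
  · rintro rfl; simp

theorem ptn_eq_biUnion {m : ℕ} (hm : m ≠ 0) :
    ptn m = (range m).biUnion fun k => (ptn k).image ((m - k) ::ₘ ·) := by
  ext ρ
  simp only [mem_ptn, mem_biUnion, mem_range, mem_image]
  constructor
  · rintro ⟨h1, h2⟩
    have : ρ ≠ 0 := by rintro rfl; simp at h1; omega
    obtain ⟨r, hr⟩ := Multiset.exists_mem_of_ne_zero this
    obtain ⟨τ, rfl⟩ := Multiset.exists_cons_of_mem hr
    have := h2 r hr
    simp only [Multiset.sum_cons] at h1
    exact ⟨τ.sum, by omega, τ, ⟨rfl, fun s hs => h2 s (by simp [hs])⟩, by congr 1; omega⟩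
  · rintro ⟨k, hk, τ, ⟨h1, h2⟩, rfl⟩
    refine ⟨by simp [h1]; omega, fun r hr => ?_⟩
    rcases Multiset.mem_cons.1 hr with rfl | hr
    · omega
    · exact h2 r hr

/-- A computable enumeration of the partitions. -/
def ptnC : ℕ → ℕ → Finset (Multiset ℕ)
  | 0, _ => {0}
  | f + 1, m => if m = 0 then {0} else (range m).biUnion fun k => (ptnC f k).image ((m - k) ::ₘ ·)

theorem ptn_eq_ptnC (f m : ℕ) (h : m ≤ f) : ptn m = ptnC f m := by
  induction f generalizing m with
  | zero => obtain rfl : m = 0 := by omega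
            exact ptn_zero
  | succ f ih =>
    unfold ptnC
    split_ifs with hm
    · rw [hm, ptn_zero]
    · rw [ptn_eq_biUnion hm]
      refine biUnion_congr rfl fun k hk => ?_
      rw [ih k (by simp at hk; omega)]

theorem pn_zero : pn 0 = 1 := by rw [pn, ptn_zero]; rfl
theorem pn_one : pn 1 = 1 := by rw [pn, ptn_eq_ptnC 1 1 le_rfl]; decide
theorem pn_two : pn 2 = 2 := by rw [pn, ptn_eq_ptnC 2 2 le_rfl]; decide
theorem pn_three : pn 3 = 3 := by rw [pn, ptn_eq_ptnC 3 3 le_rfl]; decide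
theorem pn_four : pn 4 = 5 := by rw [pn, ptn_eq_ptnC 4 4 le_rfl]; decide
theorem pn_five : pn 5 = 7 := by rw [pn, ptn_eq_ptnC 5 5 le_rfl]; decide +kernel

theorem pn_succ_le (n : ℕ) : pn (n + 1) ≤ 2 * pn n := by
  rcases Nat.eq_zero_or_pos n with rfl | hn
  · simp [pn_zero, pn_one]
  classical
  let g : Multiset ℕ → Multiset ℕ := fun ρ =>
    if h : ρ.toFinset.Nonempty then (ρ.toFinset.min' h + 1) ::ₘ ρ.erase (ρ.toFinset.min' h) else 0
  have : ptn (n + 1) ⊆ (ptn n).image (1 ::ₘ ·) ∪ (ptn n).image g := by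
    intro ρ hρ
    rw [mem_ptn] at hρ
    simp only [mem_union, mem_image, mem_ptn]
    have hne : ρ.toFinset.Nonempty := by
      rw [Multiset.toFinset_nonempty]; rintro rfl; simp at hρ
    have hr := ρ.toFinset.min'_mem hne
    have hmin := ρ.toFinset.min'_le
    set r := ρ.toFinset.min' hne with hrdef
    have hmin : ∀ s ∈ ρ, r ≤ s := fun s hs => ρ.toFinset.min'_le s (by simpa using hs)
    rw [Multiset.mem_toFinset] at hr
    clear_value r
    obtain ⟨τ, rfl⟩ := Multiset.exists_cons_of_mem hr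
    have h1 := hρ.1
    have h2 := hρ.2 r hr
    have h3 : ∀ s ∈ τ, 0 < s := fun s hs => hρ.2 s (by simp [hs])
    simp only [Multiset.sum_cons] at h1
    by_cases h : r = 1
    · left
      exact ⟨τ, ⟨by omega, h3⟩, by rw [h]⟩
    · right
      refine ⟨(r - 1) ::ₘ τ, ⟨by simp; omega, fun s hs => ?_⟩, ?_⟩
      · rcases Multiset.mem_cons.1 hs with rfl | hs
        · omega
        · exact h3 s hs
      · have hne' : ((r - 1) ::ₘ τ).toFinset.Nonempty := ⟨r - 1, by simp⟩
        have : ((r - 1) ::ₘ τ).toFinset.min' hne' = r - 1 := by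
          refine le_antisymm (min'_le _ _ (by simp)) (le_min' _ _ _ fun s hs => ?_)
          rw [Multiset.mem_toFinset] at hs
          rcases Multiset.mem_cons.1 hs with rfl | hs
          · rfl
          · have := hmin s (by simp [hs]); omega
        simp only [g, dif_pos hne', this, Multiset.erase_cons_head]
        congr 1; omega
  have h1 := card_le_card this
  have h2 := card_union_le ((ptn n).image (1 ::ₘ ·)) ((ptn n).image g)
  have h3 := card_image_le (s := ptn n) (f := (1 ::ₘ ·))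
  have h4 := card_image_le (s := ptn n) (f := g)
  unfold pn
  omega

/-- The number of `e`-multipartitions of `w`. -/
def cc : ℕ → ℕ → ℕ
  | 0, w => if w = 0 then 1 else 0
  | e + 1, w => ∑ j ∈ range (w + 1), pn j * cc e (w - j)

theorem cc_succ (e w : ℕ) : cc (e + 1) w = ∑ j ∈ range (w + 1), pn j * cc e (w - j) := rfl

theorem sum_piAntidiag_pn {ι : Type*} [DecidableEq ι] (s : Finset ι) (w : ℕ) :
    ∑ f ∈ piAntidiag s w, ∏ j ∈ s, pn (f j) = cc #s w := by
  induction s using Finset.cons_induction generalizing w with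
  | empty =>
    by_cases h : w = 0
    · simp [h, cc]
    · simp [cc, h, piAntidiag_empty_of_ne_zero h]
  | cons i s hi ih =>
    rw [piAntidiag_cons, sum_disjiUnion, card_cons, cc_succ,
      Nat.sum_antidiagonal_eq_sum_range_succ_mk]
    refine sum_congr rfl fun j _ => ?_
    rw [sum_map, ← ih, mul_sum]
    refine sum_congr rfl fun f hf => ?_
    rw [prod_cons]
    have : f i = 0 := by
      by_contra hc
      exact hi ((mem_piAntidiag.1 hf).2 i hc)
    simp only [addRightEmbedding_apply, Pi.add_apply, this, if_true, zero_add]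
    congr 1
    refine prod_congr rfl fun k hk => ?_
    rw [if_neg (by rintro rfl; exact hi hk), add_zero]

theorem cc_zero_right (e : ℕ) : cc e 0 = 1 := by
  induction e with
  | zero => rfl
  | succ e ih => simp [cc_succ, ih, pn_zero]

theorem cc_one_right (e : ℕ) : cc e 1 = e := by
  induction e with
  | zero => rfl
  | succ e ih => simp [cc_succ, sum_range_succ, ih, pn_zero, pn_one, cc_zero_right]

theorem cc_two_right (e : ℕ) : 2 * cc e 2 = e * (e + 3) := by
  induction e with
  | zero => rfl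
  | succ e ih =>
    simp only [cc_succ, sum_range_succ, pn_zero, pn_one, pn_two, cc_zero_right, range_zero,
      sum_empty, Nat.reduceSub, cc_one_right, Nat.sub_zero]
    nlinarith

theorem cc_three_right (e : ℕ) : 6 * cc e 3 = e * (e + 1) * (e + 8) := by
  induction e with
  | zero => rfl
  | succ e ih =>
    have := cc_two_right e
    simp only [cc_succ, sum_range_succ, pn_zero, pn_one, pn_two, pn_three, cc_zero_right,
      range_zero, sum_empty, Nat.reduceSub, cc_one_right, Nat.sub_zero]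
    nlinarith

theorem cc_one_left (w : ℕ) : cc 1 w = pn w := by
  rw [cc_succ, sum_range_succ, sum_eq_zero]
  · simp [cc]
  · intro j hj
    simp only [mem_range] at hj
    simp [cc]; omega

theorem cc_succ_le (e w : ℕ) : cc e (w + 1) ≤ (e + 1) * cc e w := by
  induction e generalizing w with
  | zero => simp [cc]
  | succ e ih =>
    rw [cc_succ, cc_succ, sum_range_succ, sum_range_succ, sum_range_succ]
    have h1 : ∑ j ∈ range w, pn j * cc e (w + 1 - j) ≤
        (e + 1) * ∑ j ∈ range w, pn j * cc e (w - j) := by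
      rw [mul_sum]
      refine sum_le_sum fun j hj => ?_
      rw [show w + 1 - j = w - j + 1 by simp at hj; omega, mul_left_comm]
      exact Nat.mul_le_mul_left _ (ih _)
    have h2 := pn_succ_le w
    simp only [Nat.add_sub_cancel_left, Nat.sub_self, cc_one_right, cc_zero_right]
    nlinarith [Nat.zero_le (∑ j ∈ range w, pn j * cc e (w - j))]

theorem cc_add_le (e w k : ℕ) : cc e (w + k) ≤ (e + 1) ^ k * cc e w := by
  induction k with
  | zero => simp
  | succ k ih =>
    refine (cc_succ_le e (w + k)).trans ?_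
    rw [pow_succ', mul_assoc]
    exact Nat.mul_le_mul_left _ ih

theorem cc_lt {e w : ℕ} (hw : 1 ≤ w) : cc e w < (e + 1) ^ w := by
  obtain ⟨k, rfl⟩ := Nat.exists_eq_add_of_le hw
  refine (cc_add_le e 1 k).trans_lt ?_
  rw [cc_one_right, pow_add, pow_one, mul_comm (e + 1)]
  exact Nat.mul_lt_mul_of_pos_left (by omega) (by positivity)

theorem two_mul_cc_lt {e w : ℕ} (hw : 3 ≤ w) : 2 * cc e w < (e + 1) ^ w := by
  obtain ⟨k, rfl⟩ := Nat.exists_eq_add_of_le hw
  have h1 := cc_add_le e 3 k
  have h2 : 2 * cc e 3 < (e + 1) ^ 3 := by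
    have := cc_three_right e
    nlinarith [Nat.zero_le (e ^ 3), Nat.zero_le (e ^ 2)]
  calc 2 * cc e (3 + k) ≤ (e + 1) ^ k * (2 * cc e 3) := by nlinarith
    _ < (e + 1) ^ k * (e + 1) ^ 3 := Nat.mul_lt_mul_of_pos_left h2 (by positivity)
    _ = _ := by ring

theorem four_mul_cc_lt {w : ℕ} (hw : 5 ≤ w) : 4 * cc 1 w < 2 ^ w := by
  obtain ⟨k, rfl⟩ := Nat.exists_eq_add_of_le hw
  have h1 := cc_add_le 1 5 k
  rw [cc_one_left 5, pn_five] at h1
  have : 0 < 2 ^ k := by positivity
  rw [pow_add]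
  norm_num at h1 ⊢
  omega

/-! ### Runners -/

variable {N p : ℕ}

/-- The positions of the beads on a runner. -/
def run (p : ℕ) (X : Finset ℕ) (j : Fin p) : Finset ℕ := ({x ∈ X | x % p = j}).image (· / p)

/-- Reassembling a beta-set from its runners. -/
def glue {p : ℕ} (Y : Fin p → Finset ℕ) : Finset ℕ :=
  univ.biUnion fun j => (Y j).image fun y => p * y + j

theorem mem_run {X : Finset ℕ} {j : Fin p} {y : ℕ} : y ∈ run p X j ↔ p * y + j ∈ X := by
  have hp : 0 < p := j.pos
  simp only [run, mem_image, mem_filter]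
  constructor
  · rintro ⟨x, ⟨h1, h2⟩, rfl⟩
    rwa [← h2, Nat.div_add_mod]
  · intro h
    refine ⟨_, ⟨h, ?_⟩, ?_⟩
    · rw [Nat.mul_add_mod, Nat.mod_eq_of_lt j.2]
    · rw [Nat.mul_add_div hp, Nat.div_eq_of_lt j.2, add_zero]

theorem mul_add_inj {j k : Fin p} {y z : ℕ} (h : p * y + j = p * z + k) : j = k ∧ y = z := by
  have h1 := congrArg (· % p) h
  have h2 := congrArg (· / p) h
  simp only [Nat.mul_add_mod, Nat.mod_eq_of_lt j.2, Nat.mod_eq_of_lt k.2, Nat.mul_add_div j.pos,
    Nat.div_eq_of_lt j.2, Nat.div_eq_of_lt k.2, add_zero] at h1 h2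
  exact ⟨Fin.ext h1, h2⟩

theorem run_glue (Y : Fin p → Finset ℕ) (j : Fin p) : run p (glue Y) j = Y j := by
  ext y
  simp only [mem_run, glue, mem_biUnion, mem_univ, true_and, mem_image]
  constructor
  · rintro ⟨k, z, hz, h⟩
    obtain ⟨rfl, rfl⟩ := mul_add_inj h
    exact hz
  · exact fun h => ⟨j, y, h, rfl⟩

theorem glue_run (hp : 0 < p) (X : Finset ℕ) : glue (run p X) = X := by
  ext x
  simp only [mem_run, glue, mem_biUnion, mem_univ, true_and, mem_image]
  constructor
  · rintro ⟨k, z, hz, rfl⟩; exact hz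
  · intro h
    exact ⟨⟨x % p, Nat.mod_lt _ hp⟩, x / p, by rwa [Nat.div_add_mod], Nat.div_add_mod _ _⟩

theorem sum_glue {A : Type*} [AddCommMonoid A] (Y : Fin p → Finset ℕ) (f : ℕ → A) :
    ∑ x ∈ glue Y, f x = ∑ j, ∑ y ∈ Y j, f (p * y + j) := by
  rw [glue, sum_biUnion]
  · exact sum_congr rfl fun j _ => sum_image fun y _ z _ h => (mul_add_inj h).2
  · intro j _ k _ hjk
    rw [Function.onFun, disjoint_left]
    intro x h1 h2
    obtain ⟨y, -, rfl⟩ := mem_image.1 h1
    obtain ⟨z, -, h⟩ := mem_image.1 h2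
    exact hjk (mul_add_inj h).1.symm

theorem card_run (X : Finset ℕ) (j : Fin p) : #(run p X j) = clsF p X j := by
  rw [run, clsF, card_image_of_injOn]
  intro x hx y hy h
  simp only [coe_filter, Set.mem_ofPred_eq] at hx hy h
  rw [← Nat.div_add_mod x p, ← Nat.div_add_mod y p, h, hx.2, hy.2]

theorem clsF_glue (Y : Fin p → Finset ℕ) (j : Fin p) : clsF p (glue Y) j = #(Y j) := by
  rw [← card_run, run_glue]

theorem card_glue (Y : Fin p → Finset ℕ) : #(glue Y) = ∑ j, #(Y j) := by
  rw [card_eq_sum_ones, sum_glue]; simp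

theorem sum_id_glue (Y : Fin p → Finset ℕ) :
    ∑ x ∈ glue Y, x = ∑ j, (p * ∑ y ∈ Y j, y + j * #(Y j)) := by
  rw [sum_glue]
  refine sum_congr rfl fun j _ => ?_
  rw [sum_add_distrib, mul_sum]; simp [mul_comm]

theorem sum_clsF (hp : 0 < p) (X : Finset ℕ) : ∑ j, clsF p X j = #X := by
  conv_rhs => rw [← glue_run hp X, card_glue]
  simp [card_run]

/-- The minimal bead sum in a class. -/
def base {p : ℕ} (c : Fin p → ℕ) : ℕ := ∑ j, (p * tri (c j) + j * c j)

/-- The weight of a beta-set. -/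
def wt (p : ℕ) (X : Finset ℕ) : ℕ := ∑ j, (∑ y ∈ run p X j, y - tri (clsF p X j))

theorem sum_eq_base_add (hp : 0 < p) (X : Finset ℕ) :
    ∑ x ∈ X, x = base (clsF p X) + p * wt p X := by
  conv_lhs => rw [← glue_run hp X, sum_id_glue]
  rw [base, wt, mul_sum, ← sum_add_distrib]
  refine sum_congr rfl fun j _ => ?_
  have := tri_le_sum (run p X j)
  rw [card_run] at this ⊢
  obtain ⟨t, ht⟩ := Nat.exists_eq_add_of_le this
  rw [ht, Nat.add_sub_cancel_left]; ring

theorem tri_le_base (c : Fin p → ℕ) : tri (∑ j, c j) ≤ base c := by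
  have := tri_le_sum (glue fun j => range (c j))
  rw [card_glue, sum_id_glue] at this
  simpa [base, tri] using this

theorem card_bc (hp : 0 < p) {c : Fin p → ℕ} (hc : ∑ j, c j = N) {m w : ℕ}
    (hw : ∀ j, w ≤ c j) (hm : m + tri N = base c + p * w) : #(bc N p c m) = cc p w := by
  have h1 := sum_piAntidiag_pn (univ : Finset (Fin p)) w
  rw [card_univ, Fintype.card_fin] at h1
  have h2 : ∀ f ∈ piAntidiag (univ : Finset (Fin p)) w, ∏ j, pn (f j) =
      #(Fintype.piFinset fun j => bs (c j) (f j)) := by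
    intro f hf
    rw [Fintype.card_piFinset]
    refine prod_congr rfl fun j _ => (card_bs ?_).symm
    have := single_le_sum (f := f) (fun _ _ => Nat.zero_le _) (mem_univ j)
    have : ∑ x, f x = w := (mem_piAntidiag.1 hf).1
    have := hw j
    omega
  rw [← h1, sum_congr rfl h2, ← card_sigma]
  refine card_bij' (fun X _ => ⟨fun j => ∑ y ∈ run p X j, y - tri (c j), run p X⟩)
    (fun x _ => glue x.2) ?_ ?_ ?_ ?_
  · intro X hX
    rw [mem_bc, mem_bs] at hX
    simp only [mem_sigma, mem_piAntidiag, Fintype.mem_piFinset, mem_bs, mem_univ, implies_true,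
      and_true]
    refine ⟨?_, fun j => ⟨by rw [card_run, hX.2], ?_⟩⟩
    · have := sum_eq_base_add hp X
      rw [hX.1.2, hm, hX.2, add_right_inj, mul_right_inj' hp.ne', wt, hX.2] at this
      exact this.symm
    · have := tri_le_sum (run p X j)
      rw [card_run, hX.2] at this
      omega
  · rintro ⟨f, Y⟩ h
    simp only [mem_sigma, mem_piAntidiag, Fintype.mem_piFinset, mem_bs, mem_univ, implies_true,
      and_true] at h
    rw [mem_bc, mem_bs, card_glue, sum_id_glue]
    refine ⟨⟨?_, ?_⟩, funext fun j => ?_⟩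
    · rw [← hc]; exact sum_congr rfl fun j _ => (h.2 j).1
    · rw [hm, base, ← h.1, mul_sum, ← sum_add_distrib]
      refine sum_congr rfl fun j _ => ?_
      rw [(h.2 j).1, (h.2 j).2]; ring
    · rw [clsF_glue, (h.2 j).1]
  · intro X _
    exact glue_run hp X
  · rintro ⟨f, Y⟩ h
    simp only [mem_sigma, mem_piAntidiag, Fintype.mem_piFinset, mem_bs, mem_univ, implies_true,
      and_true] at h
    have : run p (glue Y) = Y := funext (run_glue Y)
    simp only [this, Sigma.mk.injEq, heq_eq_eq, and_true]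
    funext j
    rw [(h.2 j).2]; simp

theorem bc_eq_empty (hp : 0 < p) {c : Fin p → ℕ} {m : ℕ} (hm : m + tri N < base c) :
    bc N p c m = ∅ := by
  refine eq_empty_of_forall_notMem fun X hX => ?_
  rw [mem_bc, mem_bs] at hX
  have := sum_eq_base_add hp X
  rw [hX.1.2, hX.2] at this
  omega

theorem sum_mm_eq' (hp : 0 < p) {c : Fin p → ℕ} (η : Multiset ℕ → ℚ)
    (hη : ∀ ν ρ, η (ν + ρ) = η ν * η ρ) {m₀ w : ℕ} (hm : m₀ + tri N = base c)
    (hN : m₀ + p * w ≤ N) :
    ∑ ρ ∈ ptn (m₀ + p * w), η ρ * mm N p c (m₀ + p * w) ρ ρ / zz ρ = ∑ j ∈ range (w + 1),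
      (∑ μ ∈ ptn j, η (μ.map (p * ·))) * ll N p c η (m₀ + p * (w - j)) := by
  rw [sum_mm_eq hp c η hη hN, ← sum_subset (s₁ := range (w + 1))]
  · refine sum_congr rfl fun j hj => ?_
    obtain ⟨t, rfl⟩ := Nat.exists_eq_add_of_le (Nat.lt_succ_iff.1 (mem_range.1 hj))
    congr 2
    rw [Nat.add_sub_cancel_left, mul_add]; omega
  · intro j hj
    simp only [mem_range, mem_filter] at hj ⊢
    have := Nat.mul_le_mul_left p (Nat.lt_succ_iff.1 hj)
    have := Nat.le_mul_of_pos_left j hp
    omega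
  · intro j hj hj'
    simp only [mem_range, mem_filter, not_lt] at hj hj'
    have := Nat.mul_le_mul_left p hj'
    rw [mul_add] at this
    refine mul_eq_zero_of_right _ (sum_eq_zero fun ρ _ => ?_)
    rw [mm, bc_eq_empty hp (by omega)]
    simp

theorem ll_one (hp : 0 < p) {c : Fin p → ℕ} (hc : ∑ j, c j = N) {m₀ w : ℕ}
    (hm : m₀ + tri N = base c) (hw : ∀ j, w ≤ c j) (hN : m₀ + p * w ≤ N) :
    ll N p c (fun _ => 1) (m₀ + p * w) = cc (p - 1) w := by
  induction w using Nat.strong_induction_on with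
  | _ w ih =>
  have h1 := sum_mm_eq' hp (fun _ => 1) (by simp) hm hN
  simp only [one_mul, sum_const, nsmul_eq_mul, mul_one] at h1
  rw [sum_mm_one, card_bc hp hc hw (by omega)] at h1
  obtain ⟨e, rfl⟩ : ∃ e, p = e + 1 := ⟨p - 1, by omega⟩
  rw [cc_succ, sum_range_succ', sum_range_succ'] at h1
  push_cast at h1
  have h2 : ∑ j ∈ range w, (#(ptn (j + 1)) : ℚ) *
      ll N (e + 1) c (fun _ => 1) (m₀ + (e + 1) * (w - (j + 1))) =
      ∑ j ∈ range w, (pn (j + 1) : ℚ) * cc e (w - (j + 1)) := by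
    refine sum_congr rfl fun j hj => ?_
    rw [mem_range] at hj
    rw [ih (w - (j + 1)) (by omega) (fun k => by have := hw k; omega)]
    · rfl
    · have := Nat.mul_le_mul_left (e + 1) (show w - (j + 1) ≤ w by omega)
      omega
  rw [h2] at h1
  simpa [ptn_zero, pn_zero] using h1.symm

theorem range_subset_of_mem_bs {m : ℕ} {X : Finset ℕ} (h : X ∈ bs N m) : range (N - m) ⊆ X := by
  have hX := (mem_bs.1 h).1
  have hs := sum_lab_of_mem h
  have hle := le_of_strictMono (lab_strictMono hX) (lab_nonneg X)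
  intro x hx
  rw [mem_range] at hx
  rw [mem_iff_lab hX]
  refine ⟨⟨x, by omega⟩, ?_⟩
  by_contra hc
  have h1 : ∀ k : ℕ, ∀ hk : x + k < N, ((x + k : ℕ) : ℤ) < lab N X ⟨x + k, hk⟩ := by
    intro k
    induction k with
    | zero =>
      intro hk
      have := hle ⟨x, hk⟩
      simp only [del] at this
      exact lt_of_le_of_ne this (Ne.symm hc)
    | succ k ih =>
      intro hk
      have := ih (by omega)
      have := lab_strictMono hX (show (⟨x + k, by omega⟩ : Fin N) < ⟨x + (k + 1), hk⟩ by simp)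
      push_cast at *
      omega
  have h2 : ∑ i : Fin N, ((if x ≤ (i : ℕ) then 1 else 0 : ℤ) + del N i) ≤ ∑ i, lab N X i := by
    refine sum_le_sum fun i _ => ?_
    split_ifs with hi
    · obtain ⟨i, hi'⟩ := i
      obtain ⟨k, rfl⟩ := Nat.exists_eq_add_of_le hi
      have := h1 k hi'
      simp only [del]
      omega
    · simpa using hle i
  rw [sum_add_distrib, hs, Fin.sum_univ_eq_sum_range (fun i => if x ≤ i then (1 : ℤ) else 0) N,
    ← sum_filter, sum_const,
    show {a ∈ range N | x ≤ a} = Ico x N by ext a; simp [and_comm], Nat.card_Ico] at h2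
  simp at h2; omega

theorem le_clsF {m : ℕ} {X : Finset ℕ} (h : X ∈ bs N m) {k : ℕ} (hk : p * k + m ≤ N) (j : Fin p) :
    k ≤ clsF p X j := by
  rw [← card_run]
  conv_lhs => rw [← card_range k]
  refine card_le_card fun y hy => ?_
  rw [mem_run]
  refine range_subset_of_mem_bs h ?_
  rw [mem_range] at hy ⊢
  have := Nat.mul_le_mul_left p (show y + 1 ≤ k by omega)
  have := j.2
  rw [mul_add] at *
  omega

end SymCh
end Cfsg
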