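import Mathlib

/-!
# The Frobenius formula for symmetric groups: combinatorial part

`phi β ρ` is the coefficient of `x^β` in `a_δ · p_ρ`.
-/

set_option autoImplicit false

namespace Cfsg
namespace SymCh

open Finset Equiv

variable {N : ℕ}

/-- Laurent polynomials in `N` variables. -/
abbrev LP (N : ℕ) := AddMonoidAlgebra ℚ (Fin N → ℤ)

/-- Power sums. -/
noncomputable def ps (N r : ℕ) : LP N :=
  ∑ i : Fin N, AddMonoidAlgebra.single (Pi.single i (r : ℤ)) 1

/-- Products of power sums. -/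
noncomputable def pp (N : ℕ) (ρ : Multiset ℕ) : LP N := (ρ.map (ps N)).prod

/-- The staircase. -/
def del (N : ℕ) : Fin N → ℤ := fun i => ((i : ℕ) : ℤ)

/-- The sign as a rational number. -/
def sg (w : Perm (Fin N)) : ℚ := ((Perm.sign w : ℤ) : ℚ)

/-- The Vandermonde alternant. -/
noncomputable def adel (N : ℕ) : LP N :=
  ∑ w : Perm (Fin N), AddMonoidAlgebra.single (del N ∘ w) (sg w)

/-- The Frobenius character value. -/
noncomputable def phi (β : Fin N → ℤ) (ρ : Multiset ℕ) : ℚ := (adel N * pp N ρ).coeff β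

/-- Signed count of permutations taking `γ` to `β`. -/
noncomputable def dd (β γ : Fin N → ℤ) : ℚ :=
  ∑ w : Perm (Fin N), if β = γ ∘ w then sg w else 0

theorem sg_mul (v w : Perm (Fin N)) : sg (v * w) = sg v * sg w := by
  simp [sg]

@[simp] theorem sg_one : sg (1 : Perm (Fin N)) = 1 := by simp [sg]

theorem sg_inv (w : Perm (Fin N)) : sg w⁻¹ = sg w := by simp [sg]

theorem sg_mul_self (w : Perm (Fin N)) : sg w * sg w = 1 := by
  unfold sg
  rcases Int.units_eq_one_or (Perm.sign w) with h | h <;> simp [h]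

theorem sg_swap {i j : Fin N} (h : i ≠ j) : sg (swap i j) = -1 := by
  simp [sg, Perm.sign_swap h]

theorem pp_cons (r : ℕ) (ρ : Multiset ℕ) : pp N (r ::ₘ ρ) = pp N ρ * ps N r := by
  simp [pp, mul_comm]

theorem coeff_mul_ps (F : LP N) (r : ℕ) (β : Fin N → ℤ) :
    (F * ps N r).coeff β = ∑ i, F.coeff (β - Pi.single i (r : ℤ)) := by
  simp [ps, mul_sum, AddMonoidAlgebra.coeff_sum, Finsupp.finsetSum_apply, sub_eq_add_neg]

/-- The Murnaghan–Nakayama rule. -/
theorem phi_cons (β : Fin N → ℤ) (r : ℕ) (ρ : Multiset ℕ) :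
    phi β (r ::ₘ ρ) = ∑ i, phi (β - Pi.single i (r : ℤ)) ρ := by
  simp only [phi, pp_cons, ← mul_assoc, coeff_mul_ps]

theorem phi_zero (β : Fin N → ℤ) : phi β 0 = dd β (del N) := by
  simp only [phi, pp, Multiset.map_zero, Multiset.prod_zero, mul_one, adel, dd,
    AddMonoidAlgebra.coeff_sum, Finsupp.finsetSum_apply, AddMonoidAlgebra.coeff_single,
    Finsupp.single_apply, eq_comm]

theorem dd_comp_left (β γ : Fin N → ℤ) (v : Perm (Fin N)) :
    dd (β ∘ v) γ = sg v * dd β γ := by
  unfold dd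
  rw [mul_sum, ← Equiv.sum_comp (Equiv.mulRight v)]
  refine sum_congr rfl fun w _ => ?_
  have : (β ∘ v = γ ∘ (Equiv.mulRight v w)) ↔ β = γ ∘ w := by
    constructor
    · intro h; funext i
      have := congrFun h (v.symm i)
      simpa using this
    · rintro rfl; rfl
  simp only [this]
  split_ifs
  · simp [sg_mul, mul_comm]
  · simp

theorem dd_comm (β γ : Fin N → ℤ) : dd β γ = dd γ β := by
  unfold dd
  rw [← Equiv.sum_comp (Equiv.inv (Perm (Fin N)))]
  refine sum_congr rfl fun w _ => ?_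
  have : (β = γ ∘ (Equiv.inv (Perm (Fin N)) w)) ↔ γ = β ∘ w := by
    constructor
    · rintro rfl; funext i; simp
    · rintro rfl; funext i; simp
  simp only [this]
  simp [sg_inv]

theorem dd_comp_right (β γ : Fin N → ℤ) (v : Perm (Fin N)) :
    dd β (γ ∘ v) = sg v * dd β γ := by
  rw [dd_comm, dd_comp_left, dd_comm]

theorem comp_sub_single (β : Fin N → ℤ) (v : Perm (Fin N)) (i : Fin N) (r : ℤ) :
    β ∘ v - Pi.single i r = (β - Pi.single (v i) r) ∘ v := by
  funext j
  simp [Pi.single_apply]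

theorem phi_comp (β : Fin N → ℤ) (v : Perm (Fin N)) (ρ : Multiset ℕ) :
    phi (β ∘ v) ρ = sg v * phi β ρ := by
  induction ρ using Multiset.induction_on generalizing β with
  | empty => rw [phi_zero, phi_zero, dd_comp_left]
  | cons r ρ ih =>
    rw [phi_cons, phi_cons, mul_sum]
    exact Fintype.sum_equiv v _ _ fun i => by rw [comp_sub_single, ih]

theorem eq_zero_of_antisymm {f : (Fin N → ℤ) → ℚ}
    (hf : ∀ (β : Fin N → ℤ) (v : Perm (Fin N)), f (β ∘ v) = sg v * f β) {β : Fin N → ℤ}
    (h : ¬ Function.Injective β) : f β = 0 := by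
  obtain ⟨i, j, hij, hne⟩ := Function.not_injective_iff.1 h
  have h1 : β ∘ swap i j = β := by
    funext k
    simp only [Function.comp_apply, swap_apply_def]
    split_ifs with h1 h2
    · rw [h1, hij]
    · rw [h2, hij]
    · rfl
  have := hf β (swap i j)
  rw [h1, sg_swap hne] at this
  linarith

theorem phi_eq_zero_of_not_injective {β : Fin N → ℤ} (h : ¬ Function.Injective β)
    (ρ : Multiset ℕ) : phi β ρ = 0 :=
  eq_zero_of_antisymm (f := fun β => phi β ρ) (fun β v => phi_comp β v ρ) h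

theorem dd_eq_zero_of_not_injective {β : Fin N → ℤ} (h : ¬ Function.Injective β)
    (γ : Fin N → ℤ) : dd β γ = 0 :=
  eq_zero_of_antisymm (f := fun β => dd β γ) (fun β v => dd_comp_left β γ v) h

theorem exists_of_dd_ne_zero {β γ : Fin N → ℤ} (h : dd β γ ≠ 0) :
    ∃ w : Perm (Fin N), β = γ ∘ w := by
  by_contra hc
  push Not at hc
  exact h (sum_eq_zero fun w _ => if_neg (hc w))

theorem dd_self {β : Fin N → ℤ} (h : Function.Injective β) : dd β β = 1 := by
  unfold dd
  rw [sum_eq_single 1]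
  · simp
  · intro w _ hw
    refine if_neg fun h' => hw ?_
    ext i
    have := congrFun h' i
    simp only [Function.comp_apply] at this
    simp [← h this]
  · simp

theorem phi_eq_zero_of_neg {β : Fin N → ℤ} {i : Fin N} (h : β i < 0) (ρ : Multiset ℕ) :
    phi β ρ = 0 := by
  induction ρ using Multiset.induction_on generalizing β with
  | empty =>
    rw [phi_zero]
    by_contra hc
    obtain ⟨w, rfl⟩ := exists_of_dd_ne_zero hc
    simp [del] at h
    omega
  | cons r ρ ih =>
    rw [phi_cons]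
    refine sum_eq_zero fun j _ => ih ?_
    simp only [Pi.sub_apply, Pi.single_apply]
    split_ifs <;> omega

theorem sum_sub_single (β : Fin N → ℤ) (i : Fin N) (r : ℤ) :
    ∑ j, (β - Pi.single i r : Fin N → ℤ) j = ∑ j, β j - r := by
  simp [sum_sub_distrib, Pi.single_apply]

theorem sum_eq_of_phi_ne_zero {β : Fin N → ℤ} {ρ : Multiset ℕ} (h : phi β ρ ≠ 0) :
    ∑ i, β i = ρ.sum + ∑ i, del N i := by
  induction ρ using Multiset.induction_on generalizing β with
  | empty =>
    rw [phi_zero] at h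
    obtain ⟨w, rfl⟩ := exists_of_dd_ne_zero h
    simpa using Equiv.sum_comp w (del N)
  | cons r ρ ih =>
    rw [phi_cons] at h
    obtain ⟨i, -, hi⟩ := exists_ne_zero_of_sum_ne_zero h
    have := ih hi
    rw [sum_sub_single] at this
    simp only [Multiset.sum_cons, Nat.cast_add]
    linarith

/-! ### Partitions and centralizer orders -/

/-- The partitions of `m` as multisets. -/
def ptn (m : ℕ) : Finset (Multiset ℕ) := (univ : Finset m.Partition).image (·.parts)

theorem mem_ptn {m : ℕ} {ρ : Multiset ℕ} : ρ ∈ ptn m ↔ ρ.sum = m ∧ ∀ r ∈ ρ, 0 < r := by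
  simp only [ptn, mem_image, mem_univ, true_and]
  constructor
  · rintro ⟨x, rfl⟩; exact ⟨x.parts_sum, fun r hr => x.parts_pos hr⟩
  · rintro ⟨h1, h2⟩; exact ⟨⟨ρ, fun {r} hr => h2 r hr, h1⟩, rfl⟩

/-- The centralizer order attached to a cycle type. -/
def zz (ρ : Multiset ℕ) : ℕ := ρ.prod * ∏ r ∈ ρ.toFinset, (ρ.count r).factorial

@[simp] theorem zz_zero : zz 0 = 1 := by simp [zz]

theorem zz_cons (r : ℕ) (ρ : Multiset ℕ) : zz (r ::ₘ ρ) = r * (ρ.count r + 1) * zz ρ := by
  unfold zz
  rw [Multiset.prod_cons, Multiset.toFinset_cons]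
  have key : ∏ s ∈ insert r ρ.toFinset, ((r ::ₘ ρ).count s).factorial =
      (ρ.count r + 1) * ∏ s ∈ ρ.toFinset, (ρ.count s).factorial := by
    have h1 : ∏ s ∈ ρ.toFinset, (ρ.count s).factorial =
        ∏ s ∈ insert r ρ.toFinset, (ρ.count s).factorial := by
      refine prod_subset (subset_insert _ _) fun s _ hs => ?_
      rw [Multiset.count_eq_zero_of_notMem (by simpa using hs)]; rfl
    rw [h1, ← mul_prod_erase _ _ (mem_insert_self r ρ.toFinset),
      ← mul_prod_erase _ _ (mem_insert_self r ρ.toFinset), Multiset.count_cons_self,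
      Nat.factorial_succ, mul_assoc]
    congr 2
    exact prod_congr rfl fun s hs => by rw [Multiset.count_cons_of_ne (ne_of_mem_erase hs)]
  rw [key]; ring

theorem zz_pos {ρ : Multiset ℕ} (h : ∀ r ∈ ρ, 0 < r) : 0 < zz ρ := by
  induction ρ using Multiset.induction_on with
  | empty => simp
  | cons r ρ ih =>
    rw [zz_cons]
    have := h r (by simp)
    have := ih fun s hs => h s (by simp [hs])
    positivity

theorem zz_add {ν ρ : Multiset ℕ} (h : ∀ r ∈ ν, r ∉ ρ) : zz (ν + ρ) = zz ν * zz ρ := by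
  induction ν using Multiset.induction_on with
  | empty => simp
  | cons r ν ih =>
    rw [Multiset.cons_add, zz_cons, zz_cons, ih fun s hs => h s (by simp [hs]),
      Multiset.count_add, Multiset.count_eq_zero_of_notMem (h r (by simp))]
    ring

theorem sum_ptn_filter_mem {A : Type*} [AddCommMonoid A] {m r : ℕ} (hr : 0 < r) (hrm : r ≤ m)
    (F : Multiset ℕ → A) :
    ∑ ρ ∈ ptn m with r ∈ ρ, F ρ = ∑ ρ ∈ ptn (m - r), F (r ::ₘ ρ) := by
  symm
  refine sum_bij (fun ρ _ => r ::ₘ ρ) ?_ ?_ ?_ fun _ _ => rfl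
  · intro ρ hρ
    rw [mem_ptn] at hρ
    simp only [mem_filter, mem_ptn, Multiset.sum_cons, Multiset.mem_cons, true_or, and_true]
    refine ⟨by omega, ?_⟩
    rintro s (rfl | hs)
    · exact hr
    · exact hρ.2 s hs
  · intro a _ b _ h
    exact (Multiset.cons_inj_right r).1 h
  · intro ρ hρ
    simp only [mem_filter, mem_ptn] at hρ
    obtain ⟨τ, rfl⟩ := Multiset.exists_cons_of_mem hρ.2
    refine ⟨τ, ?_, rfl⟩
    rw [mem_ptn]
    refine ⟨?_, fun s hs => hρ.1.2 s (by simp [hs])⟩
    have := hρ.1.1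
    simp at this
    omega

theorem mul_sum_ptn (m : ℕ) (F : Multiset ℕ → ℚ) :
    (m : ℚ) * ∑ ρ ∈ ptn m, F ρ / zz ρ =
      ∑ r ∈ Icc 1 m, ∑ ρ ∈ ptn (m - r), F (r ::ₘ ρ) / zz ρ := by
  have h1 : ∀ r ∈ Icc 1 m, ∑ ρ ∈ ptn (m - r), F (r ::ₘ ρ) / zz ρ =
      ∑ ρ ∈ ptn m, (r * ρ.count r : ℚ) * (F ρ / zz ρ) := by
    intro r hr
    rw [mem_Icc] at hr
    rw [← sum_filter_of_ne (p := fun ρ => r ∈ ρ) (s := ptn m), sum_ptn_filter_mem hr.1 hr.2]
    · refine sum_congr rfl fun ρ hρ => ?_
      rw [zz_cons, Multiset.count_cons_self]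
      have : (zz ρ : ℚ) ≠ 0 := by exact_mod_cast (zz_pos (mem_ptn.1 hρ).2).ne'
      have : (r : ℚ) ≠ 0 := by exact_mod_cast (by omega : r ≠ 0)
      push_cast
      field_simp
    · intro ρ _ h
      by_contra hc
      simp [Multiset.count_eq_zero_of_notMem hc] at h
  rw [sum_congr rfl h1, sum_comm, mul_sum]
  refine sum_congr rfl fun ρ hρ => ?_
  rw [← sum_mul]
  congr 1
  rw [mem_ptn] at hρ
  have h2 : ρ.sum = ∑ r ∈ Icc 1 m, ρ.count r * r := by
    rw [Finset.sum_multiset_count_of_subset ρ (Icc 1 m)]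
    · simp
    · intro r hr
      rw [Multiset.mem_toFinset] at hr
      rw [mem_Icc]
      exact ⟨hρ.2 r hr, hρ.1 ▸ Multiset.single_le_sum (by simp) r hr⟩
  rw [← hρ.1, h2]
  push_cast
  exact sum_congr (by rw [← h2, hρ.1]) fun r _ => mul_comm _ _

/-! ### Orthogonality -/

/-- `dd` truncated to non-negative vectors. -/
noncomputable def dp (β γ : Fin N → ℤ) : ℚ := if ∀ i, 0 ≤ β i then dd β γ else 0

theorem two_mul_sum_del : 2 * ∑ i, del N i = (N : ℤ) * (N - 1) := by
  have h := Finset.sum_range_id_mul_two N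
  have h2 : ∑ i, del N i = ((∑ i ∈ range N, i : ℕ) : ℤ) := by
    simp only [del]
    rw [Fin.sum_univ_eq_sum_range (fun i => (i : ℤ)) N]
    push_cast; rfl
  rw [h2]
  rcases Nat.eq_zero_or_pos N with rfl | hN
  · simp
  · have : ((N - 1 : ℕ) : ℤ) = N - 1 := by omega
    rw [← this]; exact_mod_cast (mul_comm _ _).trans h

theorem le_of_strictMono {f : Fin N → ℤ} (hf : StrictMono f) (h0 : ∀ i, 0 ≤ f i) (i : Fin N) :
    del N i ≤ f i := by
  obtain ⟨i, hi⟩ := i
  induction i with
  | zero => simpa [del] using h0 _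
  | succ i ih =>
    have h1 := ih (by omega)
    have h2 := hf (show (⟨i, by omega⟩ : Fin N) < ⟨i + 1, hi⟩ by simp)
    simp only [del] at h1 ⊢
    push_cast at h1 ⊢
    omega

theorem exists_strictMono_comp {β : Fin N → ℤ} (h : Function.Injective β) :
    ∃ w : Perm (Fin N), StrictMono (β ∘ w) :=
  ⟨Tuple.sort β, (Tuple.monotone_sort β).strictMono_of_injective
    (h.comp (Tuple.sort β).injective)⟩

theorem eq_del_comp_or_lt {β : Fin N → ℤ} (h : Function.Injective β) (h0 : ∀ i, 0 ≤ β i) :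
    (∃ w : Perm (Fin N), β = del N ∘ w) ∨ ∑ i, del N i < ∑ i, β i := by
  obtain ⟨w, hw⟩ := exists_strictMono_comp h
  have hle := le_of_strictMono hw (fun i => h0 _)
  by_cases he : β ∘ w = del N
  · left
    refine ⟨w⁻¹, ?_⟩
    rw [← he]; funext i; simp
  · right
    rw [← Equiv.sum_comp w β]
    obtain ⟨i, hi⟩ := Function.ne_iff.1 he
    exact sum_lt_sum (fun i _ => hle i) ⟨i, mem_univ _, lt_of_le_of_ne (hle i) (Ne.symm hi)⟩

theorem sum_del_le {β : Fin N → ℤ} (h : Function.Injective β) (h0 : ∀ i, 0 ≤ β i) :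
    ∑ i, del N i ≤ ∑ i, β i := by
  rcases eq_del_comp_or_lt h h0 with ⟨w, rfl⟩ | h
  · exact (Equiv.sum_comp w (del N)).ge
  · exact h.le

theorem del_injective : Function.Injective (del N) := fun i j h => by
  simpa [del, Fin.ext_iff] using h

theorem dp_eq_zero_of_lt {β : Fin N → ℤ} (h : ∑ i, β i < ∑ i, del N i) (γ : Fin N → ℤ) :
    dp β γ = 0 := by
  unfold dp
  split_ifs with h0
  · refine dd_eq_zero_of_not_injective (fun hi => ?_) γ
    exact absurd (sum_del_le hi h0) (by omega)
  · rfl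

theorem dd_mul_dd_del {β : Fin N → ℤ} (h : ∑ i, β i = ∑ i, del N i) (γ : Fin N → ℤ) :
    dd β (del N) * dd γ (del N) = dp β γ := by
  unfold dp
  split_ifs with h0
  · by_cases hi : Function.Injective β
    · rcases eq_del_comp_or_lt hi h0 with ⟨w, rfl⟩ | h'
      · rw [dd_comp_left, dd_comp_left, dd_self del_injective, dd_comm γ, mul_one]
      · omega
    · simp [dd_eq_zero_of_not_injective hi]
  · push Not at h0
    obtain ⟨i, hi⟩ := h0
    rw [← phi_zero, phi_eq_zero_of_neg hi, zero_mul]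

/-- Agreement off a pair of coordinates. -/
def offAgree (β θ : Fin N → ℤ) (i j : Fin N) : Prop :=
  (∀ k, k ≠ i → k ≠ j → β k = θ k) ∧ β i + β j = θ i + θ j

theorem sum_sg_offAgree (β γ : Fin N → ℤ) {i j : Fin N} (hij : i ≠ j) [∀ θ, Decidable (offAgree β θ i j)] :
    ∑ w : Perm (Fin N), (if offAgree β (γ ∘ w) i j then sg w else 0) = 0 := by
  have h := Equiv.sum_comp (Equiv.mulRight (swap i j))
    (fun w : Perm (Fin N) => if offAgree β (γ ∘ w) i j then sg w else 0)
  have h2 : ∀ w : Perm (Fin N), (if offAgree β (γ ∘ (Equiv.mulRight (swap i j) w)) i j then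
      sg (Equiv.mulRight (swap i j) w) else 0) =
      - (if offAgree β (γ ∘ w) i j then sg w else 0) := by
    intro w
    have : offAgree β (γ ∘ (Equiv.mulRight (swap i j) w)) i j ↔ offAgree β (γ ∘ w) i j := by
      simp only [offAgree, coe_mulRight, Perm.coe_mul, Function.comp_apply, swap_apply_left,
        swap_apply_right]
      refine and_congr (forall_congr' fun k => forall_congr' fun h1 => forall_congr' fun h2 => ?_)
        (by rw [add_comm (γ (w j))])
      rw [swap_apply_of_ne_of_ne h1 h2]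
    simp only [this]
    simp only [coe_mulRight, sg_mul, sg_swap hij]
    split_ifs <;> simp
  rw [sum_congr rfl fun w _ => h2 w, sum_neg_distrib] at h
  linarith

open Classical in
theorem sum_moves (β θ : Fin N → ℤ) (hβ : ∀ i, 0 ≤ β i) (hθ : ∀ i, 0 ≤ θ i) {R : ℕ}
    (hR : ∀ i, β i ≤ R) :
    2 * ∑ r ∈ Icc 1 R, ∑ i, ∑ j, (if (∀ k, 0 ≤ (β - Pi.single i (r : ℤ) : Fin N → ℤ) k) ∧
        β - Pi.single i (r : ℤ) = θ - Pi.single j (r : ℤ) then (1 : ℚ) else 0) =
      (if β = θ then 2 * ((∑ i, β i : ℤ) : ℚ) - N * (N - 1) else 0) +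
        ∑ i, ∑ j, if i ≠ j ∧ offAgree β θ i j then 1 else 0 := by
  have key : ∀ i j, ∑ r ∈ Icc 1 R, (if (∀ k, 0 ≤ (β - Pi.single i (r : ℤ) : Fin N → ℤ) k) ∧
        β - Pi.single i (r : ℤ) = θ - Pi.single j (r : ℤ) then (1 : ℚ) else 0) =
      if i = j then (if β = θ then (β i : ℚ) else 0) else
        if offAgree β θ i j ∧ θ i < β i then 1 else 0 := by
    intro i j
    have hnn : ∀ r : ℕ, (∀ k, 0 ≤ (β - Pi.single i (r : ℤ) : Fin N → ℤ) k) ↔ (r : ℤ) ≤ β i := by
      intro r
      constructor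
      · intro h; have := h i; simp at this; exact this
      · intro h k
        simp only [Pi.sub_apply, Pi.single_apply]
        split_ifs with hk
        · subst hk; omega
        · simpa using hβ k
    simp only [hnn]
    split_ifs with hij h1 h1
    · subst hij; subst h1
      simp only [and_true]
      rw [← sum_filter, sum_const, nsmul_eq_mul, mul_one]
      have : (Icc 1 R).filter (fun r : ℕ => (r : ℤ) ≤ β i) = Icc 1 (β i).toNat := by
        ext r; simp only [mem_filter, mem_Icc]
        have := hR i; have := hβ i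
        omega
      rw [this, Nat.card_Icc]
      have := hβ i
      have h3 : (((β i).toNat + 1 - 1 : ℕ) : ℤ) = β i := by omega
      exact_mod_cast h3
    · subst hij
      refine sum_eq_zero fun r _ => if_neg fun h => h1 ?_
      exact sub_left_injective h.2
    · rw [sum_eq_single (β i - θ i).toNat]
      · have e : (((β i - θ i).toNat : ℕ) : ℤ) = β i - θ i := by omega
        rw [if_pos]
        refine ⟨by have := hθ i; omega, ?_⟩
        funext k
        simp only [Pi.sub_apply, Pi.single_apply, e]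
        obtain ⟨⟨h2, h3⟩, h4⟩ := h1
        by_cases hk : k = i
        · subst hk; simp [hij]
        · by_cases hk' : k = j
          · subst hk'; simp [hk]; omega
          · simp [hk, hk', h2 k hk hk']
      · intro r _ hr
        refine if_neg fun h => hr ?_
        have := congrFun h.2 i
        simp [hij] at this
        omega
      · intro h
        exfalso; apply h
        have := hR i; have := hθ i
        simp only [mem_Icc]; omega
    · refine sum_eq_zero fun r hr => if_neg fun h => h1 ?_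
      rw [mem_Icc] at hr
      have e1 := congrFun h.2 i
      have e2 := congrFun h.2 j
      simp [hij, Ne.symm hij] at e1 e2
      refine ⟨⟨fun k hk hk' => ?_, by omega⟩, by omega⟩
      have := congrFun h.2 k
      simpa [Pi.single_apply, hk, hk'] using this
  rw [sum_comm]
  simp_rw [sum_comm (s := Icc 1 R), key]
  have h3 : ∀ i j : Fin N, (if i = j then (if β = θ then (β i : ℚ) else 0) else
        if offAgree β θ i j ∧ θ i < β i then 1 else 0) =
      (if i = j then (if β = θ then (β i : ℚ) else 0) else 0) +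
        if i ≠ j ∧ offAgree β θ i j ∧ θ i < β i then 1 else 0 := by
    intro i j; by_cases h : i = j <;> simp [h]
  simp_rw [h3, sum_add_distrib]
  have h4 : ∀ i j : Fin N, (if i ≠ j ∧ offAgree β θ i j then (1 : ℚ) else 0) =
      (if i ≠ j ∧ offAgree β θ i j ∧ θ i < β i then 1 else 0) +
      (if j ≠ i ∧ offAgree β θ j i ∧ θ j < β j then 1 else 0) +
        if i ≠ j ∧ β = θ then 1 else 0 := by
    intro i j
    by_cases h : i = j
    · simp [h]
    have hs : offAgree β θ j i ↔ offAgree β θ i j := by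
      simp only [offAgree]
      exact ⟨fun h => ⟨fun k a b => h.1 k b a, by omega⟩, fun h => ⟨fun k a b => h.1 k b a, by omega⟩⟩
    by_cases ha : offAgree β θ i j
    · have hb : β = θ ↔ β i = θ i := by
        refine ⟨fun h => by rw [h], fun h1 => funext fun k => ?_⟩
        by_cases hk : k = i
        · rw [hk, h1]
        · by_cases hk' : k = j
          · have := ha.2; rw [hk']; omega
          · exact ha.1 k hk hk'
      have := ha.2
      simp only [ne_eq, h, not_false_eq_true, ha, hs, Ne.symm h, hb, true_and, if_true]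
      split_ifs <;> first | omega | norm_num
    · have hb : β ≠ θ := by
        rintro rfl; exact ha ⟨fun _ _ _ => rfl, rfl⟩
      simp [ha, hs, hb]
  simp_rw [h4, sum_add_distrib]
  rw [sum_comm (f := fun i j => if j ≠ i ∧ offAgree β θ j i ∧ θ j < β j then (1 : ℚ) else 0)]
  have h5 : ∑ i : Fin N, ∑ j : Fin N, (if i ≠ j ∧ β = θ then (1 : ℚ) else 0) =
      if β = θ then (N * (N - 1) : ℚ) else 0 := by
    split_ifs with h
    · simp only [h, and_true]
      have : ∀ i : Fin N, ∑ j : Fin N, (if i ≠ j then (1 : ℚ) else 0) = N - 1 := by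
        intro i
        have : ∀ j : Fin N, (if i ≠ j then (1 : ℚ) else 0) = 1 - if i = j then 1 else 0 := by
          intro j; by_cases h : i = j <;> simp [h]
        simp [this]
      rw [sum_congr rfl fun i _ => this i]
      simp; ring
    · simp [h]
  rw [h5]
  split_ifs with h
  · simp; ring
  · simp; ring

open Classical in
theorem sum_dp (β γ : Fin N → ℤ) {R : ℕ} (hR : ∀ i, β i ≤ R) :
    ∑ r ∈ Icc 1 R, ∑ i, ∑ j, dp (β - Pi.single i (r : ℤ)) (γ - Pi.single j (r : ℤ)) =
      ((∑ i, β i - ∑ i, del N i : ℤ) : ℚ) * dp β γ := by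
  by_cases hβ : ∀ i, 0 ≤ β i
  swap
  · rw [dp, if_neg hβ, mul_zero]
    refine sum_eq_zero fun r _ => sum_eq_zero fun i _ => sum_eq_zero fun j _ => if_neg fun h => ?_
    refine hβ fun k => ?_
    have := h k
    simp only [Pi.sub_apply, Pi.single_apply] at this
    split_ifs at this <;> omega
  by_cases hγ : ∀ i, 0 ≤ γ i
  swap
  · have h0 : ∀ β' γ' : Fin N → ℤ, ¬ (∀ i, 0 ≤ γ' i) → dp β' γ' = 0 := by
      intro β' γ' h
      unfold dp
      split_ifs with h1
      · by_contra hc
        obtain ⟨w, rfl⟩ := exists_of_dd_ne_zero hc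
        exact h fun i => by simpa using h1 (w.symm i)
      · rfl
    rw [h0 _ _ hγ, mul_zero]
    refine sum_eq_zero fun r _ => sum_eq_zero fun i _ => sum_eq_zero fun j _ => h0 _ _ fun h => ?_
    refine hγ fun k => ?_
    have := h k
    simp only [Pi.sub_apply, Pi.single_apply] at this
    split_ifs at this <;> omega
  have h1 : ∀ (r : ℕ) (i : Fin N), ∑ j, dp (β - Pi.single i (r : ℤ)) (γ - Pi.single j (r : ℤ)) =
      ∑ w : Perm (Fin N), sg w * ∑ j,
        (if (∀ k, 0 ≤ (β - Pi.single i (r : ℤ) : Fin N → ℤ) k) ∧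
          β - Pi.single i (r : ℤ) = γ ∘ w - Pi.single j (r : ℤ) then (1 : ℚ) else 0) := by
    intro r i
    unfold dp dd
    split_ifs with h
    · rw [sum_comm]
      refine sum_congr rfl fun w _ => ?_
      rw [mul_sum]
      refine (Fintype.sum_equiv w _ _ fun j => ?_).symm
      rw [comp_sub_single]
      simp only [h, implies_true, true_and, mul_ite, mul_one, mul_zero]
    · simp only [h, false_and, if_false, sum_const_zero, mul_zero]
  simp_rw [h1]
  have h2 : ∑ r ∈ Icc 1 R, ∑ i : Fin N, ∑ w : Perm (Fin N), sg w * ∑ j,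
        (if (∀ k, 0 ≤ (β - Pi.single i (r : ℤ) : Fin N → ℤ) k) ∧
          β - Pi.single i (r : ℤ) = γ ∘ w - Pi.single j (r : ℤ) then (1 : ℚ) else 0) =
      ∑ w : Perm (Fin N), sg w * ∑ r ∈ Icc 1 R, ∑ i : Fin N, ∑ j,
        (if (∀ k, 0 ≤ (β - Pi.single i (r : ℤ) : Fin N → ℤ) k) ∧
          β - Pi.single i (r : ℤ) = γ ∘ w - Pi.single j (r : ℤ) then (1 : ℚ) else 0) := by
    simp_rw [mul_sum]
    rw [sum_comm]
    refine (sum_congr rfl fun i _ => sum_comm).trans ?_
    rw [sum_comm]
    exact sum_congr rfl fun w _ => sum_comm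
  rw [h2]
  have h3 := fun w : Perm (Fin N) => sum_moves β (γ ∘ w) hβ (fun i => hγ _) hR
  refine mul_left_cancel₀ (two_ne_zero) ?_
  rw [mul_sum]
  simp_rw [← mul_assoc, mul_comm (2 : ℚ) (sg _), mul_assoc, h3, mul_add, sum_add_distrib]
  have h4 : ∑ w : Perm (Fin N), sg w *
      ∑ i, ∑ j, (if i ≠ j ∧ offAgree β (γ ∘ w) i j then (1 : ℚ) else 0) = 0 := by
    simp_rw [mul_sum]
    rw [sum_comm]
    refine sum_eq_zero fun i _ => ?_
    rw [sum_comm]
    refine sum_eq_zero fun j _ => ?_
    by_cases hij : i = j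
    · simp [hij]
    · refine Eq.trans ?_ (sum_sg_offAgree β γ hij)
      exact sum_congr rfl fun w _ => by simp [hij]
  rw [h4, add_zero, dp, if_pos hβ, dd, mul_sum, mul_sum]
  refine sum_congr rfl fun w _ => ?_
  have h5 : (2 : ℚ) * ((∑ i, del N i : ℤ) : ℚ) = N * (N - 1) := by
    exact_mod_cast two_mul_sum_del
  split_ifs
  · rw [← h5]; push_cast; ring
  · simp

/-- Row orthogonality. -/
theorem sum_phi_mul_phi (m : ℕ) (β γ : Fin N → ℤ) (h : ∑ i, β i = m + ∑ i, del N i) :
    ∑ ρ ∈ ptn m, phi β ρ * phi γ ρ / zz ρ = dp β γ := by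
  induction m using Nat.strong_induction_on generalizing β γ with
  | _ m ih =>
  rcases Nat.eq_zero_or_pos m with rfl | hm
  · have : ptn 0 = {0} := by
      ext ρ
      simp only [mem_ptn, mem_singleton]
      constructor
      · rintro ⟨h1, h2⟩
        by_contra hc
        obtain ⟨r, hr⟩ := Multiset.exists_mem_of_ne_zero hc
        have := Multiset.single_le_sum (by simp) r hr
        have := h2 r hr
        omega
      · rintro rfl; simp
    rw [this, sum_singleton, phi_zero, phi_zero, dd_mul_dd_del (by simpa using h)]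
    simp
  obtain ⟨R, hR, hmR⟩ : ∃ R : ℕ, (∀ i, β i ≤ R) ∧ m ≤ R := by
    refine ⟨m + ∑ i, (β i).toNat, fun i => ?_, by omega⟩
    have := single_le_sum (f := fun i => (β i).toNat) (fun _ _ => Nat.zero_le _) (mem_univ i)
    omega
  have hm' : (m : ℚ) ≠ 0 := by exact_mod_cast hm.ne'
  refine mul_left_cancel₀ hm' ?_
  have h1 := sum_dp β γ hR
  rw [h, add_sub_cancel_right] at h1
  rw [mul_sum_ptn, Int.cast_natCast] at *
  rw [← h1, ← sum_subset (Icc_subset_Icc_right hmR)]
  · refine sum_congr rfl fun r hr => ?_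
    rw [mem_Icc] at hr
    simp_rw [phi_cons, sum_mul_sum, sum_div]
    rw [sum_comm]
    refine sum_congr rfl fun i _ => ?_
    rw [sum_comm]
    refine sum_congr rfl fun j _ => ih (m - r) (by omega) _ _ ?_
    rw [sum_sub_single, h]; omega
  · intro r hr hr'
    simp only [mem_Icc] at hr hr'
    refine sum_eq_zero fun i _ => sum_eq_zero fun j _ => dp_eq_zero_of_lt ?_ _
    rw [sum_sub_single, h]; omega

end SymCh
end Cfsg
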