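import Cfsg.Agent.CT.Forms
import Cfsg.Agent.CT.Extension
import Cfsg.Agent.Grp.PSolvable

/-! A parity lemma for symplectic characters twisted by an inverting element, and Sylow
subgroups of extended centralizers. -/

set_option autoImplicit false

namespace Cfsg

open scoped ComplexConjugate Matrix

universe u v

variable {G : Type u} [Group G]

/-- a linear character of a subgroup-like `K` that is inverted by `t`, with `t ^ 2` in its
kernel, has even multiplicity in a symplectic character -/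
theorem HasForm.even_classInner_twist {θ : G → ℂ} (h : HasForm (-1) θ) {K : Type v} [Group K]
    [Fintype K] (f : K →* G) (μ : K →* ℂˣ) (t : G)
    (ht : ∀ k, ∃ k', f k' = t * (f k)⁻¹ * t⁻¹ ∧ μ k' = μ k) (k₀ : K) (h0 : f k₀ = t * t)
    (hμ0 : μ k₀ = 1) :
    ∃ m : ℕ, Even m ∧ classInner (fun k => θ (f k)) (fun k => (μ k : ℂ)) = m := by
  obtain ⟨n, X, S, hθ, hS, hε, hX⟩ := h
  let Y : K →* Matrix (Fin n) (Fin n) ℂ :=
    { toFun := fun k => ((μ k)⁻¹ : ℂˣ) • X (f k)
      map_one' := by simp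
      map_mul' := by
        intro a b
        simp only [map_mul, mul_inv, Matrix.smul_mul, Matrix.mul_smul, smul_smul, mul_comm] }
  have hY : ∀ k v, Y k *ᵥ v = ((μ k : ℂ))⁻¹ • (X (f k) *ᵥ v) := by
    intro k v
    change (((μ k)⁻¹ : ℂˣ) • X (f k)) *ᵥ v = _
    rw [Units.smul_def, Matrix.smul_mulVec, Units.val_inv_eq_inv_val]
  have h1 : classInner (fun k => θ (f k)) (fun k => (μ k : ℂ)) =
      classInner (matRep Y).character (fun _ => 1) := by
    rw [matRep_character, classInner_def, classInner_def]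
    congr 1
    refine Finset.sum_congr rfl fun k _ => ?_
    change _ = (((μ k)⁻¹ : ℂˣ) • X (f k)).trace * _
    have h2 := (IrrCharacter.ofHom μ).cconj_apply' k
    rw [IrrCharacter.cconj_apply, IrrCharacter.ofHom_apply, IrrCharacter.ofHom_apply] at h2
    rw [Units.smul_def, Matrix.trace_smul, map_one, mul_one, hθ, h2, map_inv, smul_eq_mul,
      mul_comm]
  refine ⟨_, ?_, by rw [h1, classInner_character_one_eq_finrank]⟩
  let B : LinearMap.BilinForm ℂ (Fin n → ℂ) := Matrix.toBilin' S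
  have hB : ∀ x y, B x y = x ⬝ᵥ S *ᵥ y := fun x y => Matrix.toBilin'_apply' S x y
  have hinv : ∀ g x y, B (X g *ᵥ x) (X g *ᵥ y) = B x y := fun g x y => by
    rw [hB, hB, ← Matrix.vecMul_transpose, Matrix.mulVec_mulVec, ← Matrix.dotProduct_mulVec,
      Matrix.mulVec_mulVec, ← Matrix.mul_assoc, hX]
  have hanti : ∀ x y, B x y = -B y x := fun x y => by
    rw [hB, hB, Matrix.dotProduct_mulVec, ← Matrix.mulVec_transpose, hε, dotProduct_comm]
    simp [Matrix.neg_mulVec]
  have hW : ∀ (v : (matRep Y).invariants) (k : K), X (f k) *ᵥ v = (μ k : ℂ) • (v : Fin n → ℂ) := by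
    intro v k
    have h2 := v.2 k
    rw [matRep_apply, hY] at h2
    conv_rhs => rw [← h2]
    rw [smul_smul, mul_inv_cancel₀ (μ k).ne_zero, one_smul]
  let C : LinearMap.BilinForm ℂ (Fin n → ℂ) := B.compRight (Matrix.toLin' (X t))
  have hC : ∀ x y, C x y = B x (X t *ᵥ y) := fun x y => rfl
  refine even_finrank_of_antisymm (C.restrict (matRep Y).invariants) (fun x y => ?_) fun x hx => ?_
  · change C x y = -C y x
    rw [hC, hC, hanti, ← hinv t, Matrix.mulVec_mulVec, ← map_mul, ← h0, hW, hμ0]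
    simp
  · have h2 : ∀ y, B x (X t *ᵥ y) = 0 := fun y => by
      have h3 := hx ⟨∑ k, Y k *ᵥ y, fun k => by
        rw [map_sum]
        refine Fintype.sum_equiv (Equiv.mulLeft k) _ _ fun g => ?_
        simp [matRep_apply]⟩
      change C x (∑ k, Y k *ᵥ y) = 0 at h3
      have h4 : ∀ k, C x (Y k *ᵥ y) = B x (X t *ᵥ y) := fun k => by
        obtain ⟨k', hk', hμ⟩ := ht k
        rw [hC, hY, Matrix.mulVec_smul, map_smul, ← hinv (f k'), hW, map_smul,
          Matrix.mulVec_mulVec, Matrix.mulVec_mulVec, ← map_mul, ← map_mul, hk', hμ]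
        simp [mul_assoc]
      rw [map_sum] at h3
      simp only [h4, Finset.sum_const, nsmul_eq_mul, mul_eq_zero, Nat.cast_eq_zero,
        Finset.card_univ, Fintype.card_ne_zero, false_or] at h3
      exact h3
    apply Subtype.ext
    have h5 : (x : Fin n → ℂ) ᵥ* S = 0 := by
      ext j
      have := h2 (X t⁻¹ *ᵥ Pi.single j 1)
      rwa [Matrix.mulVec_mulVec, ← map_mul, mul_inv_cancel, map_one, Matrix.one_mulVec, hB,
        Matrix.dotProduct_mulVec, dotProduct_single, mul_one] at this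
    exact Matrix.vecMul_injective_iff_isUnit.2 hS (h5.trans (Matrix.zero_vecMul S).symm)

/-- For a real element `x` there are a Sylow `2`-subgroup `D` of `C(x)` and an element `t`
inverting `x` and normalizing `D`, with `t ^ 2 ∈ D`. -/
theorem exists_sylow_centralizer_of_real [Finite G] {x : G} (hx : IsConj x x⁻¹) :
    ∃ (D : Subgroup G) (t : G), IsPGroup 2 D ∧ D ≤ Subgroup.centralizer {x} ∧
      ¬ 2 ∣ D.relIndex (Subgroup.centralizer {x}) ∧ t * x * t⁻¹ = x⁻¹ ∧
      (∀ d ∈ D, t * d * t⁻¹ ∈ D) ∧ t * t ∈ D := by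
  haveI : Fact (Nat.Prime 2) := ⟨Nat.prime_two⟩
  set C := Subgroup.centralizer ({x} : Set G) with hC
  have hmem : ∀ g, g ∈ C ↔ g * x * g⁻¹ = x := by
    intro g
    rw [hC, Subgroup.mem_centralizer_singleton_iff, mul_inv_eq_iff_eq_mul]
  have hinv : ∀ g : G, g * x * g⁻¹ = x⁻¹ → g * x⁻¹ * g⁻¹ = x := by
    intro g h
    calc g * x⁻¹ * g⁻¹ = (g * x * g⁻¹)⁻¹ := by group
      _ = x := by rw [h, inv_inv]
  let E : Subgroup G :=
    { carrier := {g | g * x * g⁻¹ = x ∨ g * x * g⁻¹ = x⁻¹}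
      one_mem' := Or.inl (by simp)
      mul_mem' := by
        intro a b ha hb
        have h1 : a * b * x * (a * b)⁻¹ = a * (b * x * b⁻¹) * a⁻¹ := by group
        rcases hb with hb | hb
        · rw [Set.mem_ofPred_eq, h1, hb]; exact ha
        · rw [Set.mem_ofPred_eq, h1, hb]
          rcases ha with ha | ha
          · right
            rw [← inv_inj, inv_inv, ← ha]
            conv_lhs => rw [ha]
            group
          · exact Or.inl (hinv a ha)
      inv_mem' := by
        intro a ha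
        rcases ha with ha | ha
        · left
          conv_lhs => rw [← ha]
          group
        · right
          conv_lhs => rw [← hinv a ha]
          group }
  have hE : ∀ g, g ∈ E ↔ g * x * g⁻¹ = x ∨ g * x * g⁻¹ = x⁻¹ := fun g => Iff.rfl
  have hCE : C ≤ E := fun g hg => Or.inl ((hmem g).1 hg)
  have hconj : ∀ g ∈ E, ∀ c ∈ C, g * c * g⁻¹ ∈ C := by
    intro g hg c hc
    rw [hmem] at hc ⊢
    have h1 : g * c * g⁻¹ * x * (g * c * g⁻¹)⁻¹ = g * (c * (g⁻¹ * x * g⁻¹⁻¹) * c⁻¹) * g⁻¹ := by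
      group
    rcases (hE g).1 hg with h | h
    · have h2 : g⁻¹ * x * g⁻¹⁻¹ = x := by
        conv_lhs => rw [← h]
        group
      rw [h1, h2, hc, h]
    · have h2 : g⁻¹ * x * g⁻¹⁻¹ = x⁻¹ := by
        conv_lhs => rw [← hinv g h]
        group
      have h3 : c * x⁻¹ * c⁻¹ = x⁻¹ := by
        conv_rhs => rw [← hc]
        group
      rw [h1, h2, h3, hinv g h]
  have hsq : ∀ g ∈ E, g * g ∈ C := by
    intro g hg
    rw [hmem]
    have h1 : g * g * x * (g * g)⁻¹ = g * (g * x * g⁻¹) * g⁻¹ := by group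
    rcases (hE g).1 hg with h | h
    · rw [h1, h, h]
    · rw [h1, h, hinv g h]
  haveI hn : (C.subgroupOf E).Normal := ⟨fun c hc g => hconj g g.2 c hc⟩
  obtain ⟨S⟩ : Nonempty (Sylow 2 E) := inferInstance
  let S' : Subgroup G := (S : Subgroup E).map E.subtype
  have hS'E : S' ≤ E := Subgroup.map_subtype_le _
  have hSi : ¬ 2 ∣ S'.relIndex E := by
    have : S'.relIndex E = (S : Subgroup E).index := by
      rw [Subgroup.relIndex, Subgroup.subgroupOf, Subgroup.comap_map_eq_self_of_injective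
        E.subtype_injective]
    rw [this]
    exact S.not_dvd_index
  have hD : ¬ 2 ∣ (S' ⊓ C).relIndex C := by
    have h1 : (S' ⊓ C).relIndex C = S'.relIndex C := Subgroup.inf_relIndex_right _ _
    rw [h1]
    intro h2
    apply hSi
    have h3 : S'.relIndex C = (S'.subgroupOf E).relIndex (C.subgroupOf E) :=
      (Subgroup.relIndex_subgroupOf hCE).symm
    rw [h3] at h2
    have h4 := relIndex_dvd_index_of_normal_right (S'.subgroupOf E) (C.subgroupOf E)
    exact h2.trans h4
  obtain ⟨t, htS, ht⟩ : ∃ t ∈ S', t * x * t⁻¹ = x⁻¹ := by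
    by_contra hne
    push Not at hne
    obtain ⟨g, hg⟩ := isConj_iff.1 hx
    have hgE : g ∈ E := Or.inr hg
    have hSC : S' ≤ C := fun s hs => (hmem s).2 (((hE s).1 (hS'E hs)).resolve_right (hne s hs))
    have h1 : ¬ 2 ∣ C.relIndex E := fun h => hSi (h.trans (Subgroup.relIndex_dvd_of_le_left E hSC))
    have h2 : orderOf ((⟨g, hgE⟩ : E) : E ⧸ C.subgroupOf E) ∣ 2 := by
      rw [orderOf_dvd_iff_pow_eq_one, ← QuotientGroup.mk_pow, QuotientGroup.eq_one_iff, sq]
      exact hsq g hgE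
    have h3 : orderOf ((⟨g, hgE⟩ : E) : E ⧸ C.subgroupOf E) ∣ C.relIndex E :=
      orderOf_dvd_natCard _
    rcases (Nat.dvd_prime Nat.prime_two).1 h2 with h4 | h4
    · rw [orderOf_eq_one_iff, QuotientGroup.eq_one_iff] at h4
      have h5 := (hmem g).1 h4
      exact hne 1 S'.one_mem (by rw [← hg, h5]; simp)
    · exact h1 (h4 ▸ h3)
  refine ⟨S' ⊓ C, t, (S.2.map _).to_inf_left, inf_le_right, hD, ht, fun d hd => ⟨?_, ?_⟩, ?_, ?_⟩
  · exact S'.mul_mem (S'.mul_mem htS hd.1) (S'.inv_mem htS)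
  · exact hconj t (hS'E htS) d hd.2
  · exact S'.mul_mem htS htS
  · exact hsq t (hS'E htS)

end Cfsg
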