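import Mathlib
import Cfsg.Agent.CT.Kernel

/-! Unitary realizations of characters, eigenvalue multiplicities, and Frobenius' commutation
lemma for group elements close to scalars (Isaacs 14.13-14.15). -/

set_option autoImplicit false

namespace Cfsg

open scoped ComplexConjugate

universe u v w

section unitary
variable {G : Type u} [Group G]

/-- every character of a finite group is the trace of a unitary matrix representation -/
theorem IsCharacter.exists_unitary_matrix [Finite G] {χ : G → ℂ} (h : IsCharacter G χ) :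
    ∃ (n : ℕ) (U : G →* Matrix (Fin n) (Fin n) ℂ),
      (∀ g, (U g).conjTranspose * U g = 1) ∧ ∀ g, χ g = (U g).trace := by
  classical
  obtain ⟨n, X, hX⟩ := isCharacter_iff_matrix.1 h
  have := Fintype.ofFinite G
  open scoped ComplexOrder MatrixOrder in
  have hpos : (∑ h : G, (X h).conjTranspose * X h).PosDef := by
    rw [← Finset.add_sum_erase _ _ (Finset.mem_univ (1 : G))]
    refine Matrix.PosDef.add_posSemidef ?_ ?_
    · simpa using Matrix.PosDef.one
    · exact Matrix.posSemidef_sum _ (fun h _ => Matrix.posSemidef_conjTranspose_mul_self _)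
  have hinv : ∀ g, (X g).conjTranspose * (∑ h : G, (X h).conjTranspose * X h) * X g =
      ∑ h : G, (X h).conjTranspose * X h := by
    intro g
    rw [Finset.mul_sum, Finset.sum_mul]
    refine Fintype.sum_equiv (Equiv.mulRight g) _ _ (fun h => ?_)
    simp [Matrix.mul_assoc]
  open scoped ComplexOrder MatrixOrder in
  obtain ⟨S, hS, hSe⟩ := CStarAlgebra.isStrictlyPositive_iff_eq_star_mul_self.mp
    hpos.isStrictlyPositive
  obtain ⟨S', hS1, hS2⟩ : ∃ S', S * S' = 1 ∧ S' * S = 1 := by
    obtain ⟨S, rfl⟩ := hS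
    exact ⟨↑S⁻¹, S.mul_inv, S.inv_mul⟩
  rw [hSe] at hinv
  refine ⟨n, { toFun := fun g => S * X g * S'
               map_one' := by simp [hS1]
               map_mul' := fun a b => by
                 rw [map_mul]
                 calc _ = S * X a * (S' * S) * X b * S' := by rw [hS2]; simp only [mul_assoc, one_mul]
                   _ = _ := by simp only [mul_assoc] }, fun g => ?_, fun g => ?_⟩
  · have h1 := hinv g
    simp only [MonoidHom.coe_mk, OneHom.coe_mk, Matrix.conjTranspose_mul]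
    rw [Matrix.star_eq_conjTranspose] at h1
    calc _ = S'.conjTranspose * ((X g).conjTranspose * (S.conjTranspose * S) * X g) * S' := by
          simp only [mul_assoc]
      _ = (S * S').conjTranspose * (S * S') := by
          rw [h1]; simp only [Matrix.conjTranspose_mul, mul_assoc]
      _ = 1 := by simp [hS1]
  · simp only [MonoidHom.coe_mk, OneHom.coe_mk]
    rw [Matrix.trace_mul_comm, ← mul_assoc, hS2, one_mul, hX]

/-- every character of a finite group is afforded by an isometric representation on a Euclidean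
space -/
theorem IsCharacter.exists_unitary_rep [Finite G] {χ : G → ℂ} (h : IsCharacter G χ) :
    ∃ (n : ℕ) (ρ : Representation ℂ G (EuclideanSpace ℂ (Fin n))),
      ρ.character = χ ∧ ∀ g v, ‖ρ g v‖ = ‖v‖ := by
  obtain ⟨n, U, hU, hχ⟩ := h.exists_unitary_matrix
  let b := (EuclideanSpace.basisFun (Fin n) ℂ).toBasis
  refine ⟨n, (Matrix.toLinAlgEquiv b).toMonoidHom.comp U, ?_, fun g v => ?_⟩
  · funext g
    rw [hχ, Representation.character]
    change LinearMap.trace ℂ _ (Matrix.toLin b b (U g)) = _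
    rw [LinearMap.trace_eq_matrix_trace ℂ b, LinearMap.toMatrix_toLin]
  · have h1 : Matrix.toEuclideanCLM (n := Fin n) (𝕜 := ℂ) (U g) ∈
        unitary (EuclideanSpace ℂ (Fin n) →L[ℂ] EuclideanSpace ℂ (Fin n)) := by
      have h2 : U g ∈ unitary (Matrix (Fin n) (Fin n) ℂ) :=
        Matrix.mem_unitaryGroup_iff'.2 (hU g)
      exact Unitary.map_mem _ h2
    have := Unitary.norm_map ⟨_, h1⟩ v
    exact this

variable {E : Type v} [NormedAddCommGroup E] [InnerProductSpace ℂ E] [FiniteDimensional ℂ E]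

/-- a finite-dimensional representation as a homomorphism to the continuous endomorphisms -/
noncomputable def repCLM (ρ : Representation ℂ G E) : G →* (E →L[ℂ] E) :=
  (Module.End.toContinuousLinearMap E).toMonoidHom.comp ρ

@[simp] theorem repCLM_apply (ρ : Representation ℂ G E) (g : G) (v : E) :
    repCLM ρ g v = ρ g v := rfl

theorem repCLM_mem_unitary (ρ : Representation ℂ G E) (hρ : ∀ g v, ‖ρ g v‖ = ‖v‖) (g : G) :
    haveI := FiniteDimensional.complete ℂ E
    repCLM ρ g ∈ unitary (E →L[ℂ] E) := by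
  have := FiniteDimensional.complete ℂ E
  have h1 : ∀ x, star (repCLM ρ x) * repCLM ρ x = 1 := fun x =>
    (ContinuousLinearMap.norm_map_iff_adjoint_comp_self (repCLM ρ x)).1 (hρ x)
  have h2 : star (repCLM ρ g) = repCLM ρ g⁻¹ := by
    calc star (repCLM ρ g) = star (repCLM ρ g) * (repCLM ρ g * repCLM ρ g⁻¹) := by
          rw [← map_mul, mul_inv_cancel, map_one, mul_one]
      _ = _ := by rw [← mul_assoc, h1, one_mul]
  exact ⟨h1 g, by rw [h2, ← map_mul, mul_inv_cancel, map_one]⟩

omit [FiniteDimensional ℂ E] in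
theorem rep_inner_map_map (ρ : Representation ℂ G E) (hρ : ∀ g v, ‖ρ g v‖ = ‖v‖) (g : G)
    (v w : E) : inner ℂ (ρ g v) (ρ g w) = inner ℂ v w :=
  (LinearIsometry.mk (ρ g) (hρ g)).inner_map_map v w

end unitary

section eigen
variable {G : Type u} [Group G] [Finite G]

/-- the dimension of an eigenspace of `ρ g`, read off from any power-sum expression of the
character -/
theorem finrank_eigenspace_eq_card {V : Type v} [AddCommGroup V] [Module ℂ V]
    [FiniteDimensional ℂ V] (ρ : Representation ℂ G V) (g : G) {ι : Type w} [Fintype ι]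
    (ε : ι → ℂ) (hε1 : ∀ i, ε i ^ orderOf g = 1)
    (hε : ∀ k : ℕ, ρ.character (g ^ k) = ∑ i, ε i ^ k) {μ : ℂ} (hμ : μ ^ orderOf g = 1) :
    Module.finrank ℂ (Module.End.eigenspace (ρ g) μ) = Nat.card {i // ε i = μ} := by
  classical
  set m := orderOf g with hm
  have hm0 : 0 < m := orderOf_pos g
  have hmC : (m : ℂ) ≠ 0 := by exact_mod_cast hm0.ne'
  have hμ0 : μ ≠ 0 := by
    rintro rfl
    rw [zero_pow hm0.ne'] at hμ
    exact zero_ne_one hμ
  let T : Module.End ℂ V := μ⁻¹ • ρ g
  have hTk : ∀ k : ℕ, T ^ k = (μ⁻¹ ^ k) • ρ (g ^ k) := fun k => by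
    simp only [T, smul_pow, map_pow]
  have hTm : T ^ m = 1 := by
    rw [hTk, inv_pow, hμ, inv_one, one_smul, hm, pow_orderOf_eq_one, map_one]
  let e : Module.End ℂ V := (m : ℂ)⁻¹ • ∑ k ∈ Finset.range m, T ^ k
  have hproj : LinearMap.IsProj (Module.End.eigenspace (ρ g) μ) e := by
    constructor
    · intro v
      rw [Module.End.mem_eigenspace_iff]
      have h1 : T * (∑ k ∈ Finset.range m, T ^ k) = ∑ k ∈ Finset.range m, T ^ k := by
        have := mul_geom_sum T m
        rw [hTm, sub_self, sub_mul, one_mul, sub_eq_zero] at this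
        exact this
      have h2 : T * e = e := by simp only [e, mul_smul_comm, h1]
      have h3 : T (e v) = e v := by
        rw [← Module.End.mul_apply, h2]
      simp only [T, LinearMap.smul_apply] at h3
      calc ρ g (e v) = μ • μ⁻¹ • ρ g (e v) := by rw [smul_smul, mul_inv_cancel₀ hμ0, one_smul]
        _ = _ := by rw [h3]
    · intro v hv
      rw [Module.End.mem_eigenspace_iff] at hv
      have h1 : T v = v := by
        simp only [T, LinearMap.smul_apply, hv, smul_smul, inv_mul_cancel₀ hμ0, one_smul]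
      have h2 : ∀ k : ℕ, (T ^ k) v = v := fun k => by
        induction k with
        | zero => rfl
        | succ k ih => rw [pow_succ, Module.End.mul_apply, h1, ih]
      simp only [e, LinearMap.smul_apply, LinearMap.coe_sum, Finset.sum_apply, h2,
        Finset.sum_const, Finset.card_range]
      rw [← Nat.cast_smul_eq_nsmul ℂ, smul_smul, inv_mul_cancel₀ hmC, one_smul]
  have htr := hproj.trace
  have h2 : LinearMap.trace ℂ V e = (Nat.card {i // ε i = μ} : ℂ) := by
    simp only [e, map_smul, map_sum, hTk, smul_eq_mul]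
    have h3 : ∀ k : ℕ, LinearMap.trace ℂ V (ρ (g ^ k)) = ∑ i, ε i ^ k := hε
    simp only [h3, Finset.mul_sum]
    rw [Finset.sum_comm]
    have h4 : ∀ i, ∑ k ∈ Finset.range m, (m : ℂ)⁻¹ * (μ⁻¹ ^ k * ε i ^ k) =
        if ε i = μ then 1 else 0 := by
      intro i
      rw [← Finset.mul_sum]
      simp only [← mul_pow]
      split_ifs with hi
      · rw [hi, inv_mul_cancel₀ hμ0]
        simp [hmC]
      · have h5 : μ⁻¹ * ε i ≠ 1 := by
          intro h6
          apply hi
          field_simp at h6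
          exact h6
        rw [geom_sum_eq h5, mul_pow, inv_pow, hμ, hε1]
        simp
    simp only [h4]
    rw [Finset.sum_boole, Nat.card_eq_fintype_card, Fintype.card_subtype]
  rw [h2] at htr
  exact_mod_cast htr.symm

omit [Finite G] in
theorem pow_orderOf_eq_one_of_hasEigenvalue {V : Type v} [AddCommGroup V] [Module ℂ V]
    (ρ : Representation ℂ G V) (g : G) {μ : ℂ} (hμ : Module.End.HasEigenvalue (ρ g) μ) :
    μ ^ orderOf g = 1 := by
  obtain ⟨v, hv⟩ := hμ.exists_hasEigenvector
  have h1 := hv.pow_apply (orderOf g)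
  rw [← map_pow, pow_orderOf_eq_one, map_one, Module.End.one_apply] at h1
  have h2 : (μ ^ orderOf g - 1) • v = 0 := by rw [sub_smul, one_smul, ← h1, sub_self]
  exact sub_eq_zero.1 ((smul_eq_zero.1 h2).resolve_right hv.2)

theorem hasEigenvalue_iff_exists_eq {V : Type v} [AddCommGroup V] [Module ℂ V]
    [FiniteDimensional ℂ V] (ρ : Representation ℂ G V) (g : G) {ι : Type w} [Fintype ι]
    (ε : ι → ℂ) (hε1 : ∀ i, ε i ^ orderOf g = 1)
    (hε : ∀ k : ℕ, ρ.character (g ^ k) = ∑ i, ε i ^ k) {μ : ℂ} :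
    Module.End.HasEigenvalue (ρ g) μ ↔ ∃ i, ε i = μ := by
  constructor
  · intro hμ
    have h1 := finrank_eigenspace_eq_card ρ g ε hε1 hε (pow_orderOf_eq_one_of_hasEigenvalue ρ g hμ)
    have h2 : Module.finrank ℂ (Module.End.eigenspace (ρ g) μ) ≠ 0 := by
      intro h
      exact hμ (Submodule.finrank_eq_zero.1 h)
    rw [h1] at h2
    obtain ⟨⟨i, hi⟩⟩ := (Nat.card_ne_zero.1 h2).1
    exact ⟨i, hi⟩
  · rintro ⟨i, rfl⟩ h
    have h1 := finrank_eigenspace_eq_card ρ g ε hε1 hε (hε1 i)
    have h' : Module.End.eigenspace (ρ g) (ε i) = ⊥ := h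
    rw [h', finrank_bot] at h1
    have : Nonempty {j // ε j = ε i} := ⟨⟨i, rfl⟩⟩
    exact (Nat.card_pos (α := {j // ε j = ε i})).ne h1

variable {E : Type v} [NormedAddCommGroup E] [InnerProductSpace ℂ E] [FiniteDimensional ℂ E]

omit [Finite G] in
/-- if all eigenvalues of `ρ g` are within `κ` of `c` then so is the operator -/
theorem norm_repCLM_sub_le (ρ : Representation ℂ G E) (hρ : ∀ g v, ‖ρ g v‖ = ‖v‖) (g : G)
    {c : ℂ} {κ : ℝ} (hκ : 0 ≤ κ)
    (h : ∀ μ, Module.End.HasEigenvalue (ρ g) μ → ‖μ - c‖ ≤ κ) :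
    ‖repCLM ρ g - algebraMap ℂ (E →L[ℂ] E) c‖ ≤ κ := by
  have := FiniteDimensional.complete ℂ E
  rcases subsingleton_or_nontrivial E with hE | hE
  · rw [Subsingleton.elim (repCLM ρ g - algebraMap ℂ (E →L[ℂ] E) c) 0, norm_zero]
    exact hκ
  set T := repCLM ρ g - algebraMap ℂ (E →L[ℂ] E) c with hT
  have hu := repCLM_mem_unitary ρ hρ g
  have : IsStarNormal T := by
    constructor
    have h1 : Commute (star (repCLM ρ g)) (repCLM ρ g) := by
      rw [Commute, SemiconjBy, hu.1, hu.2]
    rw [hT, star_sub, ← algebraMap_star_comm]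
    exact (h1.sub_right (Algebra.commute_algebraMap_right _ _)).sub_left
      (Algebra.commute_algebraMap_left _ _)
  obtain ⟨z, hz, hz'⟩ := spectrum.exists_nnnorm_eq_spectralRadius T
  rw [IsStarNormal.spectralRadius_eq_nnnorm] at hz'
  have h2 : ‖T‖ = ‖z‖ := by
    have : ‖z‖₊ = ‖T‖₊ := by exact_mod_cast hz'
    exact (congrArg NNReal.toReal this).symm
  rw [h2]
  have h3 : z + c ∈ spectrum ℂ (repCLM ρ g) := by
    rw [spectrum.mem_iff] at hz ⊢
    rw [map_add]
    convert hz using 2
    rw [hT]; abel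
  have h4 : z + c ∈ spectrum ℂ (ρ g) := by
    rw [← AlgEquiv.spectrum_eq (Module.End.toContinuousLinearMap E)]
    exact h3
  have := h _ (Module.End.hasEigenvalue_iff_mem_spectrum.2 h4)
  simpa using this

theorem norm_repCLM_sub_lt (ρ : Representation ℂ G E) (hρ : ∀ g v, ‖ρ g v‖ = ‖v‖) (g : G)
    {ι : Type w} [Fintype ι] (ε : ι → ℂ) (hε1 : ∀ i, ε i ^ orderOf g = 1)
    (hε : ∀ k : ℕ, ρ.character (g ^ k) = ∑ i, ε i ^ k) {c : ℂ} {κ : ℝ} (hκ : 0 < κ)
    (h : ∀ i, ‖ε i - c‖ < κ) : ‖repCLM ρ g - algebraMap ℂ (E →L[ℂ] E) c‖ < κ := by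
  classical
  obtain ⟨κ', h0, h1, h2⟩ : ∃ κ' : ℝ, 0 ≤ κ' ∧ κ' < κ ∧ ∀ i, ‖ε i - c‖ ≤ κ' := by
    rcases isEmpty_or_nonempty ι with hι | hι
    · exact ⟨0, le_rfl, hκ, fun i => hι.elim i⟩
    · obtain ⟨i, -, hi⟩ := Finset.exists_max_image Finset.univ (fun i => ‖ε i - c‖)
        Finset.univ_nonempty
      exact ⟨_, norm_nonneg _, h i, fun j => hi j (Finset.mem_univ _)⟩
  refine lt_of_le_of_lt (norm_repCLM_sub_le ρ hρ g h0 fun μ hμ => ?_) h1
  obtain ⟨i, rfl⟩ := (hasEigenvalue_iff_exists_eq ρ g ε hε1 hε).1 hμ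
  exact h2 i

end eigen

section frobenius
variable {G : Type u} [Group G] [Finite G] {R : Type v} [NormedRing R] [NormedAlgebra ℂ R]
  [CompleteSpace R]

omit [CompleteSpace R] in
private theorem norm_comm_le (a b : R) (c d : ℂ) :
    ‖a * b - b * a‖ ≤ 2 * ‖a - algebraMap ℂ R c‖ * ‖b - algebraMap ℂ R d‖ := by
  have h : a * b - b * a = (a - algebraMap ℂ R c) * (b - algebraMap ℂ R d) -
      (b - algebraMap ℂ R d) * (a - algebraMap ℂ R c) := by
    have h1 := Algebra.commutes c b
    have h2 := Algebra.commutes d a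
    have h3 := Algebra.commutes c (algebraMap ℂ R d)
    simp only [sub_mul, mul_sub, h1, h2, h3]
    abel
  rw [h]
  refine (norm_sub_le _ _).trans ?_
  have h1 := norm_mul_le (a - algebraMap ℂ R c) (b - algebraMap ℂ R d)
  have h2 := norm_mul_le (b - algebraMap ℂ R d) (a - algebraMap ℂ R c)
  linarith [mul_comm ‖a - algebraMap ℂ R c‖ ‖b - algebraMap ℂ R d‖]

omit [NormedAlgebra ℂ R] [CompleteSpace R] [Finite G] in
private theorem norm_commutator_sub_one (U : G →* R) (hU' : ∀ g a, ‖a * U g‖ = ‖a‖) (x y : G) :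
    ‖U (x * y * x⁻¹ * y⁻¹) - 1‖ = ‖U x * U y - U y * U x‖ := by
  rw [← hU' (y * x) (U (x * y * x⁻¹ * y⁻¹) - 1), sub_mul, ← map_mul, one_mul]
  congr 2
  · rw [← map_mul]; congr 1; group
  · rw [map_mul]

/-- if all powers of `w` stay within distance `< 1` of the identity then `w` acts trivially -/
private theorem eq_one_of_forall_pow (U : G →* R) {w : G} (h : ∀ k : ℕ, ‖U (w ^ k) - 1‖ < 1) :
    U w = 1 := by
  set m := orderOf w with hm
  have hm0 : 0 < m := orderOf_pos w
  have hmC : (m : ℂ) ≠ 0 := by exact_mod_cast hm0.ne'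
  have h1 : ‖1 - (m : ℂ)⁻¹ • ∑ k ∈ Finset.range m, U w ^ k‖ < 1 := by
    have h2 : 1 - (m : ℂ)⁻¹ • ∑ k ∈ Finset.range m, U w ^ k =
        (m : ℂ)⁻¹ • ∑ k ∈ Finset.range m, (1 - U w ^ k) := by
      rw [Finset.sum_sub_distrib, smul_sub, Finset.sum_const, Finset.card_range,
        ← Nat.cast_smul_eq_nsmul ℂ, smul_smul, inv_mul_cancel₀ hmC, one_smul]
    rw [h2, norm_smul, norm_inv, Complex.norm_natCast]
    have h3 : ‖∑ k ∈ Finset.range m, (1 - U w ^ k)‖ < m := by
      refine (norm_sum_le _ _).trans_lt ?_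
      calc _ < ∑ k ∈ Finset.range m, (1 : ℝ) := by
            refine Finset.sum_lt_sum_of_nonempty (by simp [hm0.ne']) fun k _ => ?_
            rw [norm_sub_rev, ← map_pow]; exact h k
        _ = m := by simp
    have hmR : (0 : ℝ) < m := by exact_mod_cast hm0
    rw [inv_mul_lt_iff₀ hmR, mul_one]
    exact h3
  have h2 : IsUnit ((m : ℂ)⁻¹ • ∑ k ∈ Finset.range m, U w ^ k) := by
    have := (Units.oneSub _ h1).isUnit
    simpa using this
  have h3 : (U w - 1) * ((m : ℂ)⁻¹ • ∑ k ∈ Finset.range m, U w ^ k) = 0 := by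
    rw [mul_smul_comm, mul_geom_sum, ← map_pow, hm, pow_orderOf_eq_one, map_one, sub_self,
      smul_zero]
  exact sub_eq_zero.1 (h2.mul_left_eq_zero.1 h3)

/-- Frobenius: two elements of a finite isometric group, each within `1/2` of a scalar, commute -/
theorem commute_of_norm_sub_lt_half (U : G →* R) (hinj : Function.Injective U)
    (hU : ∀ g a, ‖U g * a‖ = ‖a‖) (hU' : ∀ g a, ‖a * U g‖ = ‖a‖) {x y : G}
    (hx : ∃ c : ℂ, ‖U x - algebraMap ℂ R c‖ < 1 / 2)
    (hy : ∃ c : ℂ, ‖U y - algebraMap ℂ R c‖ < 1 / 2) : x * y = y * x := by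
  classical
  obtain ⟨c, hc⟩ := hx
  by_contra hne
  -- the set of bad elements
  have hstep : ∀ y : G, (∃ d : ℂ, ‖U y - algebraMap ℂ R d‖ < 1 / 2) → x * y ≠ y * x →
      (∃ d : ℂ, ‖U (x * y * x⁻¹ * y⁻¹) - algebraMap ℂ R d‖ < 1 / 2) ∧
        x * (x * y * x⁻¹ * y⁻¹) ≠ (x * y * x⁻¹ * y⁻¹) * x := by
    rintro y ⟨d, hd⟩ hxy
    refine ⟨⟨1, ?_⟩, fun hw => hxy ?_⟩
    · rw [map_one, norm_commutator_sub_one U hU']
      refine (norm_comm_le _ _ c d).trans_lt ?_
      nlinarith [norm_nonneg (U x - algebraMap ℂ R c), norm_nonneg (U y - algebraMap ℂ R d)]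
    · set w := x * y * x⁻¹ * y⁻¹ with hwdef
      have hk : ∀ k : ℕ, x ^ k * y * (x ^ k)⁻¹ = w ^ k * y := by
        intro k
        induction k with
        | zero => simp
        | succ k ih =>
          have h1 : x * w ^ k = w ^ k * x := (Commute.pow_right hw k).eq
          calc x ^ (k + 1) * y * (x ^ (k + 1))⁻¹ = x * (x ^ k * y * (x ^ k)⁻¹) * x⁻¹ := by
                rw [pow_succ']; group
            _ = (x * w ^ k) * y * x⁻¹ := by rw [ih]; group
            _ = w ^ k * (x * y * x⁻¹ * y⁻¹) * y := by rw [h1]; group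
            _ = _ := by rw [← hwdef, ← pow_succ]
      have h1 : U w = 1 := by
        refine eq_one_of_forall_pow U fun k => ?_
        rw [← hU' y, sub_mul, ← map_mul, ← hk, one_mul]
        have h2 : U (x ^ k * y * (x ^ k)⁻¹) - U y =
            U (x ^ k) * (U y - algebraMap ℂ R d) * U (x ^ k)⁻¹ - (U y - algebraMap ℂ R d) := by
          rw [mul_sub, sub_mul, ← Algebra.commutes d, mul_assoc (algebraMap ℂ R d), ← map_mul,
            ← map_mul, ← map_mul, mul_inv_cancel, map_one, mul_one]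
          abel
        rw [h2]
        refine (norm_sub_le _ _).trans_lt ?_
        rw [hU', hU]
        linarith
      have h2 : w = 1 := hinj (by rw [h1, map_one])
      calc x * y = w * (y * x) := by rw [hwdef]; group
        _ = y * x := by rw [h2, one_mul]
  have := Fintype.ofFinite G
  obtain ⟨z, hz, hmin⟩ := Finset.exists_min_image
    (Finset.univ.filter fun y : G => (∃ d : ℂ, ‖U y - algebraMap ℂ R d‖ < 1 / 2) ∧ x * y ≠ y * x)
    (fun y => ‖U y - 1‖) ⟨y, Finset.mem_filter.2 ⟨Finset.mem_univ _, hy, hne⟩⟩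
  simp only [Finset.mem_filter, Finset.mem_univ, true_and] at hz hmin
  have h1 := hmin _ (hstep z hz.1 hz.2)
  rw [norm_commutator_sub_one U hU'] at h1
  have h2 := norm_comm_le (U x) (U z) c 1
  rw [map_one] at h2
  have h3 : 0 < ‖U z - 1‖ := by
    rw [norm_pos_iff, sub_ne_zero]
    intro h
    have : z = 1 := hinj (by rw [h, map_one])
    exact hz.2 (by rw [this, mul_one, one_mul])
  nlinarith [norm_nonneg (U x - algebraMap ℂ R c)]

end frobenius

section nearScalar
variable {G : Type u} [Group G] [Finite G]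

/-- Frobenius' abelian normal subgroup: for a faithful character `χ` there is an abelian normal
subgroup containing every element all of whose eigenvalues lie within `1/2` of one complex
number -/
theorem exists_abelian_normal_near_scalar {χ : G → ℂ} (hχ : IsCharacter G χ)
    (hfaith : ∀ g : G, χ g = χ 1 → g = 1) :
    ∃ A : Subgroup G, A.Normal ∧ (∀ x ∈ A, ∀ y ∈ A, x * y = y * x) ∧
      ∀ (g : G) (n : ℕ) (ε : Fin n → ℂ), (∀ i, ε i ^ orderOf g = 1) →
        (∀ k : ℕ, χ (g ^ k) = ∑ i, ε i ^ k) → ∀ c : ℂ, (∀ i, ‖ε i - c‖ < 1 / 2) → g ∈ A := by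
  obtain ⟨n, ρ, rfl, hρ⟩ := hχ.exists_unitary_rep
  let U := repCLM ρ
  have hu := repCLM_mem_unitary ρ hρ
  have hU : ∀ g a, ‖U g * a‖ = ‖a‖ := fun g a => CStarRing.norm_mem_unitary_mul a (hu g)
  have hU' : ∀ g a, ‖a * U g‖ = ‖a‖ := fun g a => CStarRing.norm_mul_mem_unitary a (hu g)
  have hinj : Function.Injective U := by
    rw [injective_iff_map_eq_one]
    intro g hg
    apply hfaith
    rw [character_eq_one_iff]
    ext v : 1
    exact congrArg (fun T => T v) hg
  let S : Set G := {g | ∃ c : ℂ, ‖U g - algebraMap ℂ _ c‖ < 1 / 2}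
  have hS : ∀ x ∈ S, ∀ y ∈ S, x * y = y * x := fun x hx y hy =>
    commute_of_norm_sub_lt_half U hinj hU hU' hx hy
  refine ⟨Subgroup.closure S, ?_, ?_, fun g m ε h1 h2 c hc => Subgroup.subset_closure ?_⟩
  · have hconj : ∀ x ∈ S, ∀ g : G, g * x * g⁻¹ ∈ S := by
      rintro x ⟨c, hc⟩ g
      refine ⟨c, ?_⟩
      have h2 : U (g * x * g⁻¹) - algebraMap ℂ _ c = U g * (U x - algebraMap ℂ _ c) * U g⁻¹ := by
        rw [mul_sub, sub_mul, ← Algebra.commutes c, mul_assoc (algebraMap ℂ _ c), ← map_mul,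
          ← map_mul, ← map_mul, mul_inv_cancel, map_one, mul_one]
      rw [h2, hU', hU]
      exact hc
    constructor
    intro x hx g
    induction hx using Subgroup.closure_induction with
    | mem x hx => exact Subgroup.subset_closure (hconj x hx g)
    | one => simp
    | mul x y _ _ hx hy =>
      have := Subgroup.mul_mem _ hx hy
      simpa [mul_assoc] using this
    | inv x _ hx =>
      have := Subgroup.inv_mem _ hx
      simpa [mul_assoc] using this
  · intro x hx y hy
    have h1 : Subgroup.closure S ≤ Subgroup.centralizer S := by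
      rw [Subgroup.closure_le]
      intro a ha b hb
      exact hS b hb a ha
    have h2 : Subgroup.closure S ≤ Subgroup.centralizer (Subgroup.closure S : Set G) := by
      rw [Subgroup.closure_le]
      intro a ha b hb
      exact (h1 hb a ha).symm
    exact h2 hy x hx
  · exact ⟨c, norm_repCLM_sub_lt ρ hρ g ε h1 h2 (by norm_num) hc⟩

end nearScalar

end Cfsg
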