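import Cfsg.Agent.CT.ClassSum
import Cfsg.Agent.CT.Kernel

/-! Elements on which all nonlinear irreducible characters vanish; sums over linear characters;
conjugacy criteria from the second orthogonality relation. -/

set_option autoImplicit false

namespace Cfsg

open scoped ComplexConjugate

universe u v w

variable {G : Type u} [Group G] [Finite G]

/-- second orthogonality relation, real form -/
theorem sum_irr_norm_sq_eq_card_centralizer (g : G) :
    ∑ χ : IrrCharacter G, ‖χ.1 g‖ ^ 2 = (Nat.card (Subgroup.centralizer ({g} : Set G)) : ℝ) := by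
  have h := sum_irr_mul_conj g g
  rw [if_pos (IsConj.refl g)] at h
  simp only [Complex.mul_conj'] at h
  exact_mod_cast h

theorem IrrCharacter.norm_eq_one_of_charDegree_eq_one (χ : IrrCharacter G)
    (h : charDegree χ.1 = 1) (g : G) : ‖χ.1 g‖ = 1 := by
  obtain ⟨f, rfl⟩ := χ.exists_eq_ofHom h
  exact norm_unitsHom f g

open Classical in
theorem card_filter_linear_irr :
    (Finset.univ.filter fun χ : IrrCharacter G => charDegree χ.1 = 1).card =
      (commutator G).index := by
  rw [← card_linear_irr, Nat.card_eq_fintype_card, Fintype.card_subtype]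

open Classical in
/-- `|C(g)| = |G : G'| + Σ_{χ nonlinear} |χ(g)|²` -/
theorem card_centralizer_eq_index_commutator_add (g : G) :
    (Nat.card (Subgroup.centralizer ({g} : Set G)) : ℝ) = (commutator G).index +
      ∑ χ : IrrCharacter G with charDegree χ.1 ≠ 1, ‖χ.1 g‖ ^ 2 := by
  rw [← sum_irr_norm_sq_eq_card_centralizer, ← Finset.sum_filter_add_sum_filter_not Finset.univ
    (fun χ : IrrCharacter G => charDegree χ.1 = 1), ← card_filter_linear_irr]
  congr 1
  rw [Finset.card_eq_sum_ones, Nat.cast_sum]
  refine Finset.sum_congr rfl fun χ hχ => ?_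
  rw [χ.norm_eq_one_of_charDegree_eq_one (Finset.mem_filter.1 hχ).2]
  simp

theorem index_commutator_le_card_centralizer (g : G) :
    (commutator G).index ≤ Nat.card (Subgroup.centralizer ({g} : Set G)) := by
  classical
  have h := card_centralizer_eq_index_commutator_add g
  have h1 : 0 ≤ ∑ χ : IrrCharacter G with charDegree χ.1 ≠ 1, ‖χ.1 g‖ ^ 2 :=
    Finset.sum_nonneg fun _ _ => by positivity
  have h2 : ((commutator G).index : ℝ) ≤ Nat.card (Subgroup.centralizer ({g} : Set G)) := by
    linarith
  exact_mod_cast h2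

/-- all nonlinear characters vanish at `g` iff `|C(g)| = |G : G'|` -/
theorem forall_nonlinear_eq_zero_iff_card_centralizer {g : G} :
    (∀ χ : IrrCharacter G, charDegree χ.1 ≠ 1 → χ.1 g = 0) ↔
      Nat.card (Subgroup.centralizer ({g} : Set G)) ≤ (commutator G).index := by
  classical
  have h := card_centralizer_eq_index_commutator_add g
  constructor
  · intro h0
    rw [Finset.sum_eq_zero (fun χ hχ => by rw [h0 χ (Finset.mem_filter.1 hχ).2]; simp),
      add_zero] at h
    exact_mod_cast h.le
  · intro h0 χ hχ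
    have h1 : (Nat.card (Subgroup.centralizer ({g} : Set G)) : ℝ) ≤ (commutator G).index := by
      exact_mod_cast h0
    have h2 : ∑ χ : IrrCharacter G with charDegree χ.1 ≠ 1, ‖χ.1 g‖ ^ 2 = 0 :=
      le_antisymm (by linarith) (Finset.sum_nonneg fun _ _ => by positivity)
    have h3 := (Finset.sum_eq_zero_iff_of_nonneg (fun _ _ => by positivity)).1 h2 χ
      (Finset.mem_filter.2 ⟨Finset.mem_univ _, hχ⟩)
    simpa using h3

/-- if every irreducible character either vanishes at `g` or takes the same value at `g` and `h`,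
then `g` and `h` are conjugate -/
theorem isConj_of_forall_eq_zero_or_eq {g h : G}
    (H : ∀ χ : IrrCharacter G, χ.1 g = 0 ∨ χ.1 g = χ.1 h) : IsConj g h := by
  classical
  by_contra hc
  have h1 := sum_irr_mul_conj g h
  have h2 := sum_irr_mul_conj g g
  rw [if_neg hc] at h1
  rw [if_pos (IsConj.refl g)] at h2
  have h3 : ∑ χ : IrrCharacter G, χ.1 g * conj (χ.1 h) =
      ∑ χ : IrrCharacter G, χ.1 g * conj (χ.1 g) := by
    refine Finset.sum_congr rfl fun χ _ => ?_
    rcases H χ with h4 | h4
    · simp [h4]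
    · rw [← h4]
  rw [h3, h2] at h1
  exact Nat.card_pos.ne' (Nat.cast_eq_zero.1 h1)

/-- if all nonlinear characters vanish at `g`, the class of `g` is the coset `g G'` -/
theorem isConj_iff_of_forall_nonlinear_eq_zero {g : G}
    (h0 : ∀ χ : IrrCharacter G, charDegree χ.1 ≠ 1 → χ.1 g = 0) (z : G) :
    IsConj g z ↔ g⁻¹ * z ∈ commutator G := by
  constructor
  · intro h
    obtain ⟨c, rfl⟩ := isConj_iff.1 h
    have := Subgroup.commutator_mem_commutator (Subgroup.mem_top g⁻¹) (Subgroup.mem_top c)
    simpa [commutatorElement_def, mul_assoc] using! this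
  · intro h
    refine isConj_of_forall_eq_zero_or_eq fun χ => ?_
    by_cases h1 : charDegree χ.1 = 1
    · right
      have h2 := χ.charDegree_eq_one_iff_commutator_le.1 h1 h
      rw [← χ.isClassFunction.apply_mul_of_mem_charKer' h2 g, mul_inv_cancel_left]
    · exact Or.inl (h0 χ h1)

theorem forall_nonlinear_eq_zero_of_forall_isConj {g : G}
    (h : ∀ d ∈ commutator G, IsConj g (g * d)) (χ : IrrCharacter G) (hχ : charDegree χ.1 ≠ 1) :
    χ.1 g = 0 := by
  have := Fintype.ofFinite (commutator G)
  have h1 := χ.sum_coset_eq_zero (commutator G)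
    (fun h2 => hχ (χ.charDegree_eq_one_iff_commutator_le.2 h2)) g
  rw [Finset.sum_congr rfl (fun (d : commutator G) _ =>
    (χ.isClassFunction.eq_of_isConj (h d d.2)).symm),
    Finset.sum_const, nsmul_eq_mul] at h1
  exact (mul_eq_zero.1 h1).resolve_left (Nat.cast_ne_zero.2 Finset.univ_nonempty.card_pos.ne')

/-- `(x y)^G = x^G y^G` in terms of characters -/
theorem class_mul_eq_iff_forall_irr (x y : G) :
    (∀ z : G, IsConj (x * y) z ↔ ∃ a b : G, z = a * x * a⁻¹ * (b * y * b⁻¹)) ↔
      ∀ (a b : G) (χ : IrrCharacter G),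
        χ.1 1 * χ.1 (a * x * a⁻¹ * (b * y * b⁻¹)) = χ.1 x * χ.1 y := by
  have := Fintype.ofFinite G
  constructor
  · intro h a b χ
    have h1 : ∀ a b : G, χ.1 (a * x * a⁻¹ * (b * y * b⁻¹)) = χ.1 (x * y) := fun a b =>
      (χ.isClassFunction.eq_of_isConj ((h _).2 ⟨a, b, rfl⟩)).symm
    have h2 := χ.one_mul_sum_conj_mul' x y
    rw [Finset.sum_congr rfl (fun a _ => by simpa using h1 a 1 : ∀ a ∈ Finset.univ,
      χ.1 (a * x * a⁻¹ * y) = χ.1 (x * y)), Finset.sum_const, Finset.card_univ, nsmul_eq_mul,
      ← Nat.card_eq_fintype_card, mul_left_comm] at h2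
    rw [h1]
    exact mul_left_cancel₀ (Nat.cast_ne_zero.2 Nat.card_pos.ne') h2
  · intro h z
    constructor
    · intro hz
      obtain ⟨c, rfl⟩ := isConj_iff.1 hz
      exact ⟨c, c, by group⟩
    · rintro ⟨a, b, rfl⟩
      rw [isConj_iff_forall_irr]
      intro χ
      apply mul_left_cancel₀ χ.one_ne_zero
      rw [h a b χ]
      simpa using h 1 1 χ

end Cfsg
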